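import Cfsg.Agent.Lib.F3L.GamB

/-! The centralizer of `sw` in the normalizer of the extraspecial group acts monomially on the fixed space. -/

set_option autoImplicit false
set_option synthInstance.maxSize 2000

namespace H7.F3

open H87.U6 (F3 f3_cases)

namespace Gam

/-- `φ` centralizes `sw` and acts inside `Q₈ × Q₈ × Q₈` with classes `cw p` -/
def Rs (φ : V8 → V8) (p : B2 × B2) : Prop := Cs φ ∧ ∃ s, ∀ v, φ (io v) = io ((FF s p).ap v)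

theorem cs_mul {φ ψ : V8 → V8} (h : Cs φ) (h' : Cs ψ) : Cs fun v => φ (ψ v) :=
  let ⟨⟨_, a⟩, c⟩ := h
  let ⟨⟨_, b⟩, c'⟩ := h'
  ⟨⟨_, a.mul b⟩, fun v => by simp only [c', c]⟩

theorem cs_sn (a : ZMod 2) {y : W6} (e : s6 y = y) : Cs fun v => sn a • pa y v :=
  ⟨⟨_, nm_sn a y⟩, fun v => by rw [add_smul3 sw_add, sw_pa, e]⟩

theorem cw_add : ∀ p p' i, cw (p + p') i = cw p i + cw p' i := by decide +kernel

theorem FF_mul (s s' : Fin 3 → ZMod 2) (p p' : B2 × B2) :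
    (FF s p).mul (FF s' p') = FF (s + s' + fun i => c2 (cw p i) (cw p' i)) (p + p') := by
  have k : ∀ s s' w w', (qm s w).1.1 * (qm s' w').1.1 + (qm s w).1.2 * (qm s' w').2.1 = (qm (s + s' + c2 w w') (w + w')).1.1 ∧
      (qm s w).1.1 * (qm s' w').1.2 + (qm s w).1.2 * (qm s' w').2.2 = (qm (s + s' + c2 w w') (w + w')).1.2 ∧
      (qm s w).2.1 * (qm s' w').1.1 + (qm s w).2.2 * (qm s' w').2.1 = (qm (s + s' + c2 w w') (w + w')).2.1 ∧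
      (qm s w).2.1 * (qm s' w').1.2 + (qm s w).2.2 * (qm s' w').2.2 = (qm (s + s' + c2 w w') (w + w')).2.2 := by
    decide +kernel
  ext i <;> simp only [FF, Mx.mul, Pi.add_apply, Pi.mul_apply, cw_add, k]

theorem FF_ok (s : Fin 3 → ZMod 2) (p : B2 × B2) : (FF s p).det1 ∧ (FF s p).q8 :=
  have k : ∀ s w, (qm s w).1.1 * (qm s w).2.2 - (qm s w).1.2 * (qm s w).2.1 = 1 ∧
    ((qm s w).1.1 + (qm s w).2.2 = 0 ∨ (qm s w).1.2 = 0 ∧ (qm s w).2.1 = 0) := by decide +kernel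
  ⟨fun _ => (k _ _).1, fun _ => (k _ _).2⟩

theorem FF_inj : Function.Injective fun q : (Fin 3 → ZMod 2) × B2 × B2 => FF q.1 q.2 := fun q q' e => by
  have k : ∀ s w s' w', qm s w = qm s' w' → s = s' ∧ w = w' := by decide +kernel
  have k := fun i => k (q.1 i) (cw q.2 i) (q'.1 i) (cw q'.2 i) (Prod.ext
    (Prod.ext (congrFun (congrArg Mx.a e) i) (congrFun (congrArg Mx.b e) i))
    (Prod.ext (congrFun (congrArg Mx.c e) i) (congrFun (congrArg Mx.d e) i)))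
  exact Prod.ext (funext fun i => (k i).1) (Prod.ext (k 0).2 (k 1).2)

theorem Rs.mul {φ ψ : V8 → V8} {p p' : B2 × B2} (h : Rs φ p) (h' : Rs ψ p') : Rs (fun v => φ (ψ v)) (p + p') :=
  let ⟨c, _, e⟩ := h
  let ⟨c', _, e'⟩ := h'
  ⟨cs_mul c c', _, fun v => by beta_reduce; rw [e', e, ← Mx.ap_mul, FF_mul]⟩

theorem sn_io {a : ZMod 2} {y : W6} {m : Mx} (e : bas6.Forall fun v => sn a • pa y (io v) = io (m.ap v)) (v : V6) :
    sn a • pa y (io v) = io (m.ap v) :=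
  ext6 (k := fun v => sn a • pa y (io v)) (k' := fun v => io (m.ap v)) (fun u v => by rw [io_add, pa_add, smul_add])
    (fun u v => by rw [ap_add, io_add]) e v

theorem rs_sn (a : ZMod 2) (b c : B2) : Rs (fun v => sn a • pa (b, b, c) v) (c, c) :=
  let ⟨s, e⟩ := (by decide +kernel : ∀ (a : ZMod 2) (b c : B2), ∃ s, bas6.Forall fun v =>
    sn a • pa (b, b, c) (io v) = io ((FF s (c, c)).ap v)) a b c
  ⟨cs_sn a rfl, s, sn_io e⟩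

theorem rs_u1 : Rs u1 ((1, 0), (0, 1)) := ⟨⟨⟨_, nm_u1⟩, sw_bk _⟩, 0, bk_io _⟩
theorem rs_u2 : Rs u2 ((0, 1), (1, 1)) := ⟨⟨⟨_, nm_u2⟩, sw_bk _⟩, 0, bk_io _⟩

theorem Rs.iter {φ : V8 → V8} {p : B2 × B2} (h : Rs φ p) : ∀ n : ℕ, ∃ q, Rs φ^[n] q
  | 0 => ⟨_, by convert rs_sn 0 0 0 using 1; exact funext fun v => (one_smul F3 v).symm⟩
  | n + 1 => let ⟨_, k⟩ := h.iter n; ⟨_, k.mul h⟩

theorem rs_all (s : Fin 3 → ZMod 2) (p : B2 × B2) : ∃ φ, Cs φ ∧ ∀ v, φ (io v) = io ((FF s p).ap v) := by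
  obtain ⟨φ, c, s', e⟩ : ∃ φ, Rs φ p := by
    obtain ⟨c, rfl | rfl | rfl | rfl⟩ := (by decide +kernel : ∀ p : B2 × B2, ∃ c : B2, p = (c, c) ∨
      p = ((1, 0), (0, 1)) + (c, c) ∨ p = ((0, 1), (1, 1)) + (c, c) ∨ p = ((1, 0), (0, 1)) + (((0, 1), (1, 1)) + (c, c))) p
    exacts [⟨_, rs_sn 0 0 c⟩, ⟨_, rs_u1.mul (rs_sn 0 0 c)⟩, ⟨_, rs_u2.mul (rs_sn 0 0 c)⟩,
      ⟨_, rs_u1.mul (rs_u2.mul (rs_sn 0 0 c))⟩]
  obtain ⟨a, b, f⟩ := (by decide +kernel : ∀ s, ∃ (a : ZMod 2) (b : B2), bas6.Forall fun v =>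
    sn a • pa (b, b, 0) (io v) = io ((FF s 0).ap v)) (s - s' - fun i => c2 (cw 0 i) (cw p i))
  refine ⟨_, cs_mul (cs_sn a (y := (b, b, 0)) rfl) c, fun v => ?_⟩
  rw [e, sn_io f, ← Mx.ap_mul, FF_mul, zero_add, add_right_comm, sub_add_cancel, sub_add_cancel]

theorem tau_io (a c : F3) (v : V6) :
    tau ![a, a, c] (io v) = io (Mx.ap ⟨1, fun _ => -c, 0, 1⟩ (pm (ro⁻¹ ^ a.val) v)) :=
  ext6 (k := fun v => tau ![a, a, c] (io v)) (k' := fun v => io (Mx.ap ⟨1, fun _ => -c, 0, 1⟩ (pm (ro⁻¹ ^ a.val) v)))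
    (fun u v => by rw [io_add, tau_add]) (fun u v => by rw [← io_add, ← ap_add]; rfl) (by revert a c; decide +kernel) v

theorem tau_sw (a c : F3) (v : V8) : tau ![a, a, c] (sw v) = sw (tau ![a, a, c] v) :=
  ext8 (k := fun v => tau ![a, a, c] (sw v)) (k' := fun v => sw (tau ![a, a, c] v))
    (fun u v => by rw [sw_add, tau_add]) (fun u v => by rw [tau_add, sw_add]) (by revert a c; decide +kernel) v

theorem dec {φ : V8 → V8} (h : Cs φ) : ∃ (a c : F3) (s : Fin 3 → ZMod 2) (p : B2 × B2), ∀ v, φ (io v) =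
    io ((Mx.mul ⟨1, fun _ => -c, 0, 1⟩ ((FF s p).pr (ro⁻¹ ^ a.val))).ap (pm (ro⁻¹ ^ a.val) v)) := by
  obtain ⟨⟨A, n⟩, cs⟩ := h
  have s := nm_s6 n cs
  obtain ⟨a, c, i, j, ea, eb⟩ := words (A e1) (n.A_q6 _) (by rw [← s, ← n.A_add, n.A_q6]; rfl)
    (by rw [← s, ← n.om, ← n.A_add, n.A_q6]; rfl) (A e3) (by rw [← s]; rfl) (n.A_q6 _)
    (by rw [← n.A_add, n.A_q6]; rfl) (by rw [← n.om, ← n.A_add, n.A_q6]; rfl)
  obtain ⟨p, r⟩ := rs_u1.iter i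
  obtain ⟨q, r'⟩ := rs_u2.iter j
  obtain ⟨y, t, ey, e⟩ := cs_div n ((nm_tau' ![a, a, c]).mul ((nm_iter nm_u1 i).mul (nm_iter nm_u2 j))) cs
    (fun v => by rw [r'.1.2, r.1.2, tau_sw]) ea eb
  obtain ⟨x, x', y⟩ := y
  obtain rfl : x' = x := congrArg Prod.fst ey
  obtain ⟨-, s, f⟩ := r.mul (r'.mul (rs_sn t x' y))
  exact ⟨a, c, s, _, fun v => by rw [e, show u1^[i] _ = _ from f v, tau_io, Mx.ap_mul, Mx.pm_ap]⟩

theorem det_y (c : F3) : Mx.det1 ⟨1, fun _ => -c, 0, 1⟩ := fun i => by simp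

theorem pa_eq0 {x y : W6} {a : ZMod 2} (h : pa x e0 = sn a • pa y e0) : x = y := by
  have e := congrArg (pa y) h
  rw [pa_mul, pa_smul, pa_pa, smul_smul, ← sn_add] at e
  have k := (pa_e0 (y + x) (c6 y x + (a + q6 y)) (by rw [sn_add, mul_smul, ← e, smul_smul, sn_sq, one_smul])).1
  rw [← zero_add x, ← (c6_self y).2, add_assoc, k, add_zero]

end Gam

open Gam

theorem nm_tau (c : X3) : ∃ A, Nm (tau c) A := ⟨_, nm_tau' c⟩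
theorem nm_sig : ∃ A, Nm sig A := ⟨_, nm_sig'⟩

theorem mem_io {v : V8} (h : sw v = v) : ∃ u, v = io u := ⟨oi v, by simpa [h] using io_oi v⟩

theorem Cs.mon {φ : V8 → V8} (h : Cs φ) :
    ∃ π, ∃ m : Mx, π ^ 3 = 1 ∧ m.det1 ∧ ∀ v, φ (io v) = io (m.ap (pm π v)) :=
  let ⟨a, c, s, p, e⟩ := dec h
  ⟨_, _, (by decide +kernel : ∀ a : F3, (ro⁻¹ ^ a.val) ^ 3 = 1) a, (det_y c).mul ((FF_ok s p).1.pr _), e⟩

theorem Cs.ker {φ : V8 → V8} (h : Cs φ) (e : ∀ v, φ (io v) = io v) : (∀ v, φ v = v) ∨ ∀ v, φ v = sw v := by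
  obtain ⟨⟨A, n⟩, cs⟩ := h
  have fx : ∀ v, sw v = v → φ v = v := fun v h => by obtain ⟨u, rfl⟩ := mem_io h; exact e u
  have fA : ∀ x, s6 x = x → A x = x := fun x h => by
    obtain ⟨a, k⟩ := n.sgn3 x
    have k := k e0
    rw [fx e0 rfl, fx _ (by rw [sw_pa, h]; rfl)] at k
    exact (pa_eq0 k).symm
  have fin : ∀ {ψ B}, Nm ψ B → (∀ v, ψ (sw v) = sw (ψ v)) → ψ e0 = e0 → A e1 = B e1 → e3 = B e3 → ∀ v, φ v = ψ v :=
    fun {ψ B} m c z a b => by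
      obtain ⟨y, s, -, k⟩ := cs_div n m cs c a ((fA e3 rfl).trans b)
      have := m.inj (z.trans ((fx e0 rfl).symm.trans (k e0)))
      obtain ⟨rfl, rfl⟩ := pa_e0 y s (by rw [congrArg (sn s • ·) this, smul_smul, sn_sq, one_smul])
      simpa [sn, pa_zero] using k
  rcases (by decide +kernel : ∀ a : W6, a + s6 a = e1 + s6 e1 → q6 a = 1 → q6 (a + e3) = 0 → q6 (a + om6 e3) = 0 →
      q6 (a + (e1 + s6 e1)) = 1 → q6 (a + om6 (e1 + s6 e1)) = 0 → a = e1 ∨ a = s6 e1) (A e1)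
    (by rw [← nm_s6 n cs, ← n.A_add, fA _ rfl]) (n.A_q6 _) (by rw [← fA e3 rfl, ← n.A_add, n.A_q6]; rfl)
    (by rw [← fA (om6 e3) rfl, ← n.A_add, n.A_q6]; rfl) (by rw [← fA (e1 + s6 e1) rfl, ← n.A_add, n.A_q6]; rfl)
    (by rw [← fA (om6 (e1 + s6 e1)) rfl, ← n.A_add, n.A_q6]; rfl) with k | k
  exacts [.inl (fin (nm_pa 0) (fun _ => rfl) rfl k rfl), .inr (fin nm_sw' (fun _ => rfl) rfl k rfl)]

theorem cs_card : Nat.card {m : Mx | m.det1 ∧ m.q8 ∧ ∃ φ, Cs φ ∧ ∀ v, φ (io v) = io (m.ap v)} = 128 := by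
  have : {m : Mx | m.det1 ∧ m.q8 ∧ ∃ φ, Cs φ ∧ ∀ v, φ (io v) = io (m.ap v)} =
      Set.range fun q : (Fin 3 → ZMod 2) × B2 × B2 => FF q.1 q.2 := by
    ext m
    refine ⟨fun ⟨d, q, φ, c, e⟩ => ?_, by rintro ⟨q, rfl⟩; exact ⟨(FF_ok _ _).1, (FF_ok _ _).2, rs_all _ _⟩⟩
    obtain ⟨a, c, s, p, f⟩ := dec c
    obtain ⟨k, rfl⟩ := Mx.mono_uniq (π := 1) d fun v => io_inj ((e v).symm.trans (f v))
    rw [← k] at q ⊢
    obtain rfl : c = 0 := (by decide +kernel : ∀ (c : F3) s w, 1 * (qm s w).1.1 + -c * (qm s w).2.1 +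
      (0 * (qm s w).1.2 + 1 * (qm s w).2.2) = 0 ∨ (1 * (qm s w).1.2 + -c * (qm s w).2.2 = 0 ∧
        0 * (qm s w).1.1 + 1 * (qm s w).2.1 = 0) → c = 0) c _ _ (q 0)
    exact ⟨(s, p), by ext i <;> simp [Mx.mul, Mx.pr]⟩
  rw [this, Nat.card_range_of_injective FF_inj]
  simp

theorem cs_ng (k : Fin 3) : ∃ φ, Cs φ ∧ (∀ v, φ (φ v) = v) ∧ (∀ v, φ (io v) = io (ng k v)) ∧
    ∃ x, ∀ v, φ (pa x v) = pa x (sw v) := by
  obtain ⟨x, a, b, c, d⟩ := (by decide +kernel : ∀ k, ∃ x : B2,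
    (bas8.Forall fun v => -pa (0, x, 0) (sw (pa (0, x, 0) (sw v))) = sw (-pa (0, x, 0) (sw (pa (0, x, 0) v)))) ∧
    (bas8.Forall fun v => -pa (0, x, 0) (sw (pa (0, x, 0) (-pa (0, x, 0) (sw (pa (0, x, 0) v))))) = v) ∧
    (bas6.Forall fun v => -pa (0, x, 0) (sw (pa (0, x, 0) (io v))) = io (ng k v)) ∧
    bas8.Forall fun v => -pa (0, x, 0) (sw (pa (0, x, 0) (pa (0, x, 0) v))) = pa (0, x, 0) (sw v)) k
  have n := nm_neg.mul ((nm_pa (0, x, 0)).mul (nm_sw'.mul (nm_pa (0, x, 0))))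
  exact ⟨_, ⟨⟨_, n⟩, ext8 (fun u v => by rw [sw_add, n.add]) (fun u v => by rw [n.add, sw_add]) a⟩,
    ext8 (k' := id) (n.mul n).add (fun _ _ => rfl) b,
    ext6 (fun u v => by rw [io_add, n.add]) (fun u v => by rw [ng_eq, ap_add, io_add]) c,
    _, ext8 (n.mul (nm_pa _)).add ((nm_pa _).mul nm_sw').add d⟩

theorem cs_I : Cs (pa (0, 0, (1, 0))) ∧ ∀ v, pa (0, 0, (1, 0)) (io v) = io (Mx.ap ⟨0, 1, -1, 0⟩ v) :=
  ⟨⟨⟨_, nm_pa _⟩, fun v => (sw_pa (0, 0, (1, 0)) v).symm⟩,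
    ext6 (fun u v => by rw [io_add, pa_add]) (fun u v => by rw [ap_add, io_add]) (by decide +kernel)⟩

theorem cs_J : Cs (pa (0, 0, (0, 1))) ∧ ∀ v, pa (0, 0, (0, 1)) (io v) = io (Mx.ap ⟨1, -1, -1, -1⟩ v) :=
  ⟨⟨⟨_, nm_pa _⟩, fun v => (sw_pa (0, 0, (0, 1)) v).symm⟩,
    ext6 (fun u v => by rw [io_add, pa_add]) (fun u v => by rw [ap_add, io_add]) (by decide +kernel)⟩

theorem cs_sq : ∃ φ, Cs φ ∧ ∀ v, φ (φ v) = -sw v :=
  ⟨u1, rs_u1.1, ext8 (nm_u1.mul nm_u1).add (nm_neg.mul nm_sw').add (by decide +kernel)⟩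

end H7.F3
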