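import Cfsg.Agent.Lib.F3L.Def8
import Cfsg.Agent.Lib.F3L.Gam
import Cfsg.Agent.Lib.LocStruct.SylowIn

/-! The Sylow 3-subgroup of `C(z) / Q` in the 3-local configuration of `Fi₂₃`. -/

set_option autoImplicit false

namespace H7.F3

open Subgroup Cfsg
open H87.U6 (F3 cm_cj)

namespace Ba

/-- the wreath product of two groups of order three -/
def W3 := X3 × Fin 3

instance : Fintype W3 := inferInstanceAs (Fintype (X3 × Fin 3))
instance : DecidableEq W3 := inferInstanceAs (DecidableEq (X3 × Fin 3))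

def rt (m : Fin 3) (c : X3) : X3 := fun i => c (i - m)

instance : Mul W3 := ⟨fun p q => (p.1 + rt p.2 q.1, p.2 + q.2)⟩
instance : One W3 := ⟨(0, 0)⟩
instance : Inv W3 := ⟨fun p => (-rt (-p.2) p.1, -p.2)⟩

instance : Group W3 := Group.ofLeftAxioms
  (fun p q r => by
    refine Prod.ext (funext fun i => ?_) (add_assoc _ _ _)
    show p.1 i + q.1 (i - p.2) + r.1 (i - (p.2 + q.2)) = p.1 i + (q.1 (i - p.2) + r.1 (i - p.2 - q.2))
    rw [sub_sub, add_assoc])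
  (fun p => by
    refine Prod.ext (funext fun i => ?_) (zero_add _)
    show 0 + p.1 (i - 0) = p.1 i
    rw [zero_add, sub_zero])
  (fun p => Prod.ext (neg_add_cancel _) (neg_add_cancel _))

def wf (q : W3) (v : V8) : V8 := tau q.1 (sig^[q.2.val] v)

theorem eqns_ba : True := by
  have := @rt.eq_1
  have := @wf.eq_1
  trivial

theorem card_W3 : Nat.card W3 = 81 := by
  show Nat.card (X3 × Fin 3) = 81
  simp

theorem sigs_add : ∀ (n : ℕ) (u v : V8), sig^[n] (u + v) = sig^[n] u + sig^[n] v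
  | 0, _, _ => rfl
  | n + 1, u, v => by simp only [Function.iterate_succ_apply', sigs_add n, sig_add]

theorem wf_add (q : W3) (u v : V8) : wf q (u + v) = wf q u + wf q v := by rw [wf, sigs_add, tau_add]; rfl

theorem tau_tau (c d : X3) (v : V8) : tau c (tau d v) = tau (c + d) v :=
  ext_v8 (k := fun v => tau c (tau d v)) (fun u v => by rw [tau_add, tau_add]) (tau_add _)
    ((by decide +kernel : ∀ c d : X3, ∀ v ∈ bas8, tau c (tau d v) = tau (c + d) v) c d) v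

theorem sigs_tau (m : Fin 3) (c : X3) (v : V8) : sig^[m.val] (tau c v) = tau (rt m c) (sig^[m.val] v) :=
  ext_v8 (k := fun v => sig^[m.val] (tau c v)) (k' := fun v => tau (rt m c) (sig^[m.val] v))
    (fun u v => by rw [tau_add, sigs_add]) (fun u v => by rw [sigs_add, tau_add])
    ((by decide +kernel : ∀ (m : Fin 3) (c : X3), ∀ v ∈ bas8,
      sig^[m.val] (tau c v) = tau (rt m c) (sig^[m.val] v)) m c) v

theorem sigs_sigs (m n : Fin 3) (v : V8) : sig^[m.val] (sig^[n.val] v) = sig^[(m + n).val] v := by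
  fin_cases m <;> fin_cases n <;> rfl

theorem wf_mul (p q : W3) (v : V8) : wf (p * q) v = wf p (wf q v) := by
  rw [wf, wf, wf, sigs_tau, tau_tau, sigs_sigs]; rfl

theorem wf_one (v : V8) : wf 1 v = v :=
  ext_v8 (wf_add 1) (k' := id) (fun _ _ => rfl) (by decide +kernel) v

theorem wf_eq_one {q : W3} (e : ∀ v, wf q v = v) : q = 1 :=
  (by decide +kernel : ∀ q : W3, (∀ v ∈ bas8, wf q v = v) → q = 1) q fun v _ => e v

theorem wf_inj {p q : W3} (e : ∀ v, wf p v = wf q v) : p = q :=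
  inv_mul_eq_one.1 (wf_eq_one fun v => by rw [wf_mul, ← e, ← wf_mul, inv_mul_cancel, wf_one])

theorem cent9 : ∀ q : W3, q.2 ≠ 0 → (Finset.univ.filter fun r => r * q = q * r).card ≤ 9 := by decide +kernel

theorem ord9 : ∃ q : W3, q * q * q ≠ 1 := ⟨(![1, 0, 0], 1), by decide +kernel⟩

theorem nm_sigs : ∀ n : ℕ, ∃ A, Nm sig^[n] A
  | 0 => ⟨_, nm_pa 0 |> fun h => (funext (fun v => rfl) : pa 0 = sig^[0]) ▸ h⟩
  | n + 1 => let ⟨_, a⟩ := nm_sigs n; let ⟨_, b⟩ := nm_sig; ⟨_, a.mul b⟩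

theorem nm_wf (q : W3) : ∃ A, Nm (wf q) A :=
  let ⟨_, a⟩ := nm_tau q.1; let ⟨_, b⟩ := nm_sigs q.2.val; ⟨_, a.mul b⟩

variable {G : Type*} [Group G] {z t : G} {l : V8 → G}

/-- the action on `Q / Z` as a homomorphism to the wreath product -/
theorem hom (h : A0 b8 z l t) {T : Subgroup G} (e : ∀ x ∈ T, ∃ q, Ac z l x (wf q)) :
    ∃ f : T →* W3, (∀ x : T, Ac z l x (wf (f x))) ∧ (∀ x : T, f x = 1 ↔ (x : G) ∈ Qs z l) ∧
      Nat.card T = Nat.card f.range * Nat.card (T ⊓ Qs z l : Subgroup G) := by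
  choose f hf using e
  let F : T →* W3 := MonoidHom.mk' (fun x => f x x.2) fun x y => wf_inj fun v => by
    rw [wf_mul]; exact h.ac_uniq (hf _ (x * y).2) (h.ac_mul (hf _ x.2) (hf _ y.2)) v
  have k : ∀ x : T, F x = 1 ↔ (x : G) ∈ Qs z l := fun x =>
    ⟨fun e => h.memQ_of_ac ((hf _ x.2).congr fun v => by rw [show f x x.2 = 1 from e, wf_one, id]),
      fun e => wf_eq_one (h.ac_uniq (hf _ x.2) (h.ac_Q e))⟩
  refine ⟨F, fun x => hf _ x.2, k, ?_⟩
  have : F.ker = (T ⊓ Qs z l).subgroupOf T := by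
    ext x; rw [MonoidHom.mem_ker, k, mem_subgroupOf, mem_inf]; exact ⟨fun a => ⟨x.2, a⟩, fun a => a.2⟩
  rw [← card_mul_index F.ker, index_ker, this, Nat.card_congr (subgroupOfEquivOfLe inf_le_left).toEquiv, mul_comm]

/-- the standard Sylow subgroup -/
def syl (h : A0 b8 z l t) : Subgroup G where
  carrier := {g | ∃ q, Ac z l g (wf q)}
  mul_mem' := fun ⟨p, a⟩ ⟨q, b⟩ => ⟨p * q, (h.ac_mul a b).congr fun v => (wf_mul p q v).symm⟩
  one_mem' := ⟨1, h.ac_one.congr fun v => (wf_one v).symm⟩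
  inv_mem' := fun ⟨p, a⟩ => ⟨p⁻¹, h.ac_inv a fun v => by rw [← wf_mul, mul_inv_cancel, wf_one]⟩

theorem card_syl (h : F8 z l t) : Nat.card (syl h.toA0) = 3 ^ 13 := by
  obtain ⟨f, a, -, e⟩ := hom h.toA0 (T := syl h.toA0) fun _ hx => hx
  have t1 : f.range = ⊤ := eq_top_iff.2 fun q _ => by
    obtain ⟨A, n⟩ := nm_wf q
    obtain ⟨g, b⟩ := h.all _ A n
    exact ⟨⟨g, q, b⟩, wf_inj (h.ac_uniq (a ⟨g, q, b⟩) b)⟩
  have t2 : Qs z l ≤ syl h.toA0 := fun x hx => ⟨1, (h.ac_Q hx).congr fun v => (wf_one v).symm⟩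
  rw [e, t1, card_top, card_W3, inf_eq_right.2 t2, h.cardQ, card_V8]
  rfl

end Ba

open Ba

variable {G : Type*} [Group G] [Finite G]

omit [Finite G] in
theorem F8.map {z t : G} {l : V8 → G} (h : F8 z l t) {G' : Type*} [Group G'] (f : G ≃* G') :
    F8 (f z) (fun v => f (l v)) (f t) where
  toA0 := h.toA0.map f
  img g hg := by
    obtain ⟨g, rfl⟩ := f.surjective g
    obtain ⟨φ, A, n, a⟩ := h.img g (f.injective (by simpa using hg))
    exact ⟨φ, A, n, (ac_map f).2 a⟩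
  all φ A n := let ⟨g, a⟩ := h.all φ A n; ⟨f g, (ac_map f).2 a⟩
  cM := by
    rw [← h.cM, ← card_map_of_injective (f := f.toMonoidHom) f.injective]
    congr 2
    ext g
    obtain ⟨g, rfl⟩ := f.surjective g
    refine Iff.trans ?_ (mem_map_iff_mem (f := f.toMonoidHom) f.injective).symm
    simp only [mem_centralizer_singleton_iff, ← map_mul, f.injective.eq_iff]

theorem Ba.adapt {z t : G} {l : V8 → G} (h : F8 z l t) {T : Subgroup G} (p : IsPGroup 3 T)
    (c : ∀ x ∈ T, x * z = z * x) : ∃ l' t', F8 z l' t' ∧ Qs z l' = Qs z l ∧ ∀ x ∈ T, ∃ q, Ac z l' x (wf q) := by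
  have : Fact (Nat.Prime 3) := ⟨Nat.prime_three⟩
  have le : syl h.toA0 ≤ centralizer {z} := fun x ⟨_, a⟩ => mem_centralizer_singleton_iff.2 a.1
  have s := H69.isSylowIn_of_not_dvd_relIndex (IsPGroup.of_card (card_syl h)) le (by
    have := card_mul_index ((syl h.toA0).subgroupOf (centralizer {z}))
    rw [Nat.card_congr (subgroupOfEquivOfLe le).toEquiv, card_syl h, h.cM] at this
    rw [relIndex, Nat.eq_of_mul_eq_mul_left (by norm_num) this]
    norm_num)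
  obtain ⟨g, gz, e⟩ := s.exists_cj_le p fun x hx => mem_centralizer_singleton_iff.2 (c x hx)
  rw [mem_centralizer_singleton_iff] at gz
  have gz' := (show Commute g z from gz).inv_left.eq
  have F := h.map (MulAut.conj g⁻¹)
  have ez : MulAut.conj g⁻¹ z = z := cm_cj.1 gz'
  have eQ : Qs z (fun v => MulAut.conj g⁻¹ (l v)) = Qs z l := by
    ext x
    obtain ⟨x, rfl⟩ := (MulAut.conj g⁻¹).surjective x
    conv_lhs => rw [← ez]
    rw [ez, ← ez, mem_Qs_map, ez]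
    exact ⟨h.nQ' gz', fun hx => by simpa [mul_assoc] using h.nQ' gz hx⟩
  rw [ez] at F
  refine ⟨_, _, F, eQ, fun x hx => ?_⟩
  obtain ⟨q, a⟩ := e (mem_map_of_mem _ hx)
  have := (ac_map (MulAut.conj g⁻¹)).2 a
  rw [ez] at this
  exact ⟨q, by simpa [mul_assoc] using this⟩

theorem F8.adapt {z t : G} {l : V8 → G} (h : F8 z l t) {T : Subgroup G} (p : IsPGroup 3 T)
    (c : ∀ x ∈ T, x * z = z * x) : ∃ l' t', F8 z l' t' ∧ Qs z l' = Qs z l ∧
      ∀ x ∈ T, ∃ c, ∃ m < 3, Ac z l' x fun v => tau c (sig^[m] v) := by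
  obtain ⟨l', t', F, e, a⟩ := Ba.adapt h p c
  exact ⟨l', t', F, e, fun x hx => let ⟨q, b⟩ := a x hx; ⟨q.1, q.2.val, q.2.isLt, b⟩⟩

omit [Finite G] in
theorem Ba.pg3 {T : Subgroup G} (p : ∀ x ∈ T, x ^ 3 = 1) : IsPGroup 3 T :=
  fun g => ⟨1, Subtype.ext (by simpa using p g g.2)⟩

theorem F8.idx27 {z t : G} {l : V8 → G} (h : F8 z l t) {T : Subgroup G} (p : ∀ x ∈ T, x ^ 3 = 1)
    (c : ∀ x ∈ T, x * z = z * x) : Nat.card T ≤ 27 * Nat.card (T ⊓ Qs z l : Subgroup G) := by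
  obtain ⟨l', t', F, e, a⟩ := Ba.adapt h (pg3 p) c
  obtain ⟨f, -, -, k⟩ := hom F.toA0 a
  rw [k, e]
  refine Nat.mul_le_mul_right _ ?_
  have d := card_subgroup_dvd_card f.range
  rw [card_W3, show 81 = 3 ^ 4 from rfl, Nat.dvd_prime_pow Nat.prime_three] at d
  obtain ⟨n, hn, e⟩ := d
  have : n ≠ 4 := by
    rintro rfl
    obtain ⟨q, hq⟩ := ord9
    obtain ⟨x, rfl⟩ : q ∈ f.range := eq_top_of_card_eq _ (e.trans card_W3.symm) ▸ mem_top q
    rw [← pow_three', ← map_pow, show x ^ 3 = 1 from Subtype.ext (p x x.2), map_one] at hq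
    exact hq rfl
  rw [e]
  exact Nat.pow_le_pow_right (by norm_num) (show n ≤ 3 by omega)

theorem F8.torus {z t : G} {l : V8 → G} (h : F8 z l t) {T : Subgroup G} (p : ∀ x ∈ T, x ^ 3 = 1)
    (c : ∀ x ∈ T, x * z = z * x) (ab : ∀ x ∈ T, ∀ y ∈ T, x * y * x⁻¹ * y⁻¹ ∈ Qs z l)
    (big : 27 * Nat.card (T ⊓ Qs z l : Subgroup G) ≤ Nat.card T) :
    ∃ l' t', F8 z l' t' ∧ Qs z l' = Qs z l ∧ (∀ x ∈ T, ∃ c, Ac z l' x (tau c)) ∧ ∀ c, ∃ x ∈ T, Ac z l' x (tau c) := by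
  obtain ⟨l', t', F, e, a⟩ := Ba.adapt h (pg3 p) c
  obtain ⟨f, a, k, s⟩ := hom F.toA0 a
  rw [s, e] at big
  replace big := Nat.le_of_mul_le_mul_right big Nat.card_pos
  have cm : ∀ x y : T, f x * f y = f y * f x := fun x y => by
    have := (k (x * y * x⁻¹ * y⁻¹)).2 (e ▸ ab x x.2 y y.2)
    rwa [map_mul, map_mul, map_mul, map_inv, map_inv, mul_inv_eq_one, mul_inv_eq_iff_eq_mul] at this
  have z0 : ∀ x, (f x).2 = 0 := fun x => by
    by_contra n
    have := Nat.card_le_card_of_injective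
      (fun q : f.range => (⟨q, by obtain ⟨_, y, rfl⟩ := q; simpa using cm y x⟩ :
        (Finset.univ.filter fun r => r * f x = f x * r))) fun q r e => Subtype.ext (congrArg (·.1) e)
    rw [Nat.card_eq_finsetCard] at this
    have := cent9 _ n
    omega
  have a' : ∀ x : T, Ac z l' x (tau (f x).1) := fun x => (a x).congr fun v => by rw [wf, z0]; rfl
  refine ⟨l', t', F, e, fun x hx => ⟨_, a' ⟨x, hx⟩⟩, fun c => ?_⟩
  have inj : Function.Injective fun q : f.range => q.1.1 := by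
    rintro ⟨_, x, rfl⟩ ⟨_, y, rfl⟩ e
    exact Subtype.ext (Prod.ext e ((z0 x).trans (z0 y).symm))
  obtain ⟨⟨_, x, rfl⟩, rfl⟩ := (inj.bijective_of_nat_card_le (by simpa using big)).2 c
  exact ⟨x, x.2, a' x⟩

/-- the fixed points of the torus -/
theorem tau_fix {v : V8} (h : ∀ c, tau c v = v) : ∃ a : F3, v = (((a, 0), 0), 0) := by
  obtain ⟨⟨⟨a, b⟩, c, d⟩, ⟨e, f⟩, g, k⟩ := v
  have h0 := h ![1, 0, 0]
  have h1 := h ![0, 1, 0]
  have h2 := h ![0, 0, 1]
  simp [tau, un, mp, ZMod.val_one] at h0 h1 h2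
  simp [h0, h1, h2]

end H7.F3
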