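import Cfsg.Agent.Lib.F3L.Q

/-! Sylow 3-subgroups recognised from their centre. -/

set_option autoImplicit false

namespace H7.F3

open Subgroup H87.Mc
open H87.U6 (F3 mem_zp cm_cj)

variable {G : Type*} [Group G] [Finite G]

theorem conj_z3 {z g : G} (z3 : z ^ 3 = 1) (z1 : z ≠ 1) {k : ℕ} (hg : g ^ 3 ^ k = 1)
    (h : g * z * g⁻¹ ∈ zpowers z) : g * z = z * g := by
  rcases (mem_z3 z3).1 h with e | e | e
  · exact absurd (by simpa using e) z1
  · exact cm_cj.2 e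
  · have : ∀ n, g ^ (2 * n + 1) * z * (g ^ (2 * n + 1))⁻¹ = z⁻¹ := fun n => by
      induction n with
      | zero => simpa using e
      | succ n ih =>
        calc _ = g ^ (2 * n + 1) * (g * (g * z * g⁻¹) * g⁻¹) * (g ^ (2 * n + 1))⁻¹ := by
              rw [show 2 * (n + 1) + 1 = 2 * n + 1 + 1 + 1 by ring, pow_succ, pow_succ]; group
          _ = _ := by rw [e, ← conj_inv, e, inv_inv, ih]
    obtain ⟨n, hn⟩ : Odd (3 ^ k) := Odd.pow (by decide)
    have := this n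
    rw [← hn, hg] at this
    exact absurd (by simpa using this) (ne_inv3 z3 z1)

/-- a maximal 3-subgroup of `C_K(z)` with centre `⟨z⟩` is a Sylow subgroup of `K` -/
theorem syl_cen {K X : Subgroup G} {z : G} (z3 : z ^ 3 = 1) (z1 : z ≠ 1) (hX : X ≤ K) (zX : z ∈ X)
    (p : IsPGroup 3 X) (c : ∀ x ∈ X, x * z = z * x) (cen : ∀ x ∈ X, (∀ s ∈ X, x * s = s * x) → x ∈ zpowers z)
    (mx : ∀ T ≤ K, IsPGroup 3 T → (∀ x ∈ T, x * z = z * x) → X ≤ T → T ≤ X) {T : Subgroup G} (hT : T ≤ K)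
    (pT : IsPGroup 3 T) : ∃ k ∈ K, ∀ x ∈ T, k * x * k⁻¹ ∈ X := by
  have : Fact (Nat.Prime 3) := ⟨Nat.prime_three⟩
  obtain ⟨P, hP⟩ := (p.comap_subtype (K := K)).exists_le_sylow
  obtain ⟨P', hP'⟩ := (pT.comap_subtype (K := K)).exists_le_sylow
  obtain ⟨k, rfl⟩ := MulAction.exists_smul_eq K P' P
  set P : Subgroup G := ((k • P' : Sylow 3 K) : Subgroup K).map K.subtype
  have pP : IsPGroup 3 P := (k • P').2.map _
  have XP : X ≤ P := fun x hx => ⟨⟨x, hX hx⟩, hP hx, rfl⟩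
  have PX : P ≤ X := by
    have hn := Group.normalizerCondition_of_isNilpotent (G := P) (h := pP.isNilpotent)
    by_contra hne
    have := hn (X.subgroupOf P) (lt_top_iff_ne_top.2 fun e => hne (subgroupOf_eq_top.1 e))
    refine this.not_ge fun g hg => mx ((normalizer (X.subgroupOf P : Set P)).map P.subtype)
      ((map_subtype_le _).trans (map_subtype_le _)) ((pP.to_subgroup _).map _) ?_
      (fun x hx => ⟨⟨x, XP hx⟩, le_normalizer hx, rfl⟩) (mem_map_of_mem _ hg)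
    rintro _ ⟨g, hg, rfl⟩
    obtain ⟨n, hn⟩ := pP g
    have m : ∀ {g : P}, g ∈ normalizer (X.subgroupOf P : Set P) → ∀ s ∈ X, (g : G) * s * (g : G)⁻¹ ∈ X :=
      fun hg s hs => (mem_normalizer_iff.1 hg ⟨s, XP hs⟩).1 hs
    refine conj_z3 z3 z1 (congrArg Subtype.val hn) (cen _ (m hg z zX) fun s hs => ?_)
    have := c _ (m (inv_mem hg) s hs)
    rw [coe_inv, inv_inv] at this
    calc _ = (g : G) * (z * ((g : G)⁻¹ * s * g)) * (g : G)⁻¹ := by simp [mul_assoc]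
      _ = _ := by rw [← this]; simp [mul_assoc]
  exact ⟨k, k.2, fun x hx => PX ⟨_, smul_mem_pointwise_smul _ (MulAut.conj k) _ (hP' (x := ⟨x, hT hx⟩) hx), rfl⟩⟩

/-- a central element of a large 3-subgroup of `K` is conjugate into `⟨z⟩` -/
theorem conj_cen {K X : Subgroup G} {z : G} (z3 : z ^ 3 = 1) (z1 : z ≠ 1) (hX : X ≤ K) (zX : z ∈ X)
    (p : IsPGroup 3 X) (c : ∀ x ∈ X, x * z = z * x) (cen : ∀ x ∈ X, (∀ s ∈ X, x * s = s * x) → x ∈ zpowers z)
    (mx : ∀ T ≤ K, IsPGroup 3 T → (∀ x ∈ T, x * z = z * x) → X ≤ T → T ≤ X) {T : Subgroup G} (hT : T ≤ K)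
    (pT : IsPGroup 3 T) (hc : Nat.card X ≤ Nat.card T) {y : G} (hy : y ∈ T) (cy : ∀ x ∈ T, x * y = y * x) :
    ∃ k ∈ K, k * y * k⁻¹ ∈ zpowers z := by
  obtain ⟨k, hk, e⟩ := syl_cen z3 z1 hX zX p c cen mx hT pT
  have : T.map (MulAut.conj k).toMonoidHom = X := eq_of_card (by rintro _ ⟨x, hx, rfl⟩; exact e x hx)
    (by rwa [card_map_of_injective (MulAut.conj k).injective])
  refine ⟨k, hk, cen _ (e y hy) fun s hs => ?_⟩
  obtain ⟨x, hx, rfl⟩ := this ▸ hs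
  show k * y * k⁻¹ * (k * x * k⁻¹) = k * x * k⁻¹ * (k * y * k⁻¹)
  rw [conj_mul, conj_mul, cy x hx]

omit [Finite G] in
/-- a Sylow 3-subgroup of `C(z)` -/
theorem A0.exists_syl {V : Type*} [AddCommGroup V] {be : V → V → F3} {z t : G} {l : V → G} (h : A0 be z l t) :
    ∃ X : Subgroup G, Qs z l ≤ X ∧ IsPGroup 3 X ∧ (∀ x ∈ X, x * z = z * x) ∧
      (∀ x ∈ X, (∀ s ∈ X, x * s = s * x) → x ∈ zpowers z) ∧
      ∀ T ≤ (⊤ : Subgroup G), IsPGroup 3 T → (∀ x ∈ T, x * z = z * x) → X ≤ T → T ≤ X := by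
  obtain ⟨P, hP⟩ := (h.pgQ.comap_subtype (K := centralizer {z})).exists_le_sylow
  have QP : Qs z l ≤ (P : Subgroup (centralizer {z})).map (centralizer {z}).subtype :=
    fun x hx => ⟨⟨x, mem_centralizer_singleton_iff.2 (h.QH hx)⟩, hP hx, rfl⟩
  have c : ∀ x ∈ (P : Subgroup (centralizer {z})).map (centralizer {z}).subtype, x * z = z * x := by
    rintro _ ⟨x, -, rfl⟩; exact mem_centralizer_singleton_iff.1 x.2
  refine ⟨_, QP, P.2.map _, c, fun x hx e => h.cQ x (c x hx) fun v => e _ (QP (lQ v)), fun T _ p cT le x hx => ?_⟩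
  have := P.3 (p.comap_subtype (K := centralizer {z})) fun y hy => le (mem_map_of_mem _ hy)
  exact ⟨⟨x, mem_centralizer_singleton_iff.2 (cT x hx)⟩, this ▸ hx, rfl⟩

end H7.F3
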