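import Cfsg.Agent.Lib.F3L.Bas
import Cfsg.Agent.Lib.U63.IucB

/-! Coordinates on a central product of three extraspecial groups of order `27`. -/

set_option autoImplicit false

namespace H7.F3.Ini

open Subgroup
open H87.U6 (F3 f3_cases pw_add pw_zero pw_one pw_two pw_neg pw_mul pw_inj mem_zp cj_pw cm_cj)

variable {X : Type*} [Group X]

/-- coordinates on one plane -/
def hm (z a b : X) (x y : F3) : X := a ^ x.val * b ^ y.val * z ^ (-(x * y)).val

section
variable {z a b : X} (z3 : z ^ 3 = 1) (zc : ∀ g, g * z = z * g)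
include z3 zc

omit z3 in
theorem swp (e : b * a = a * b * z) (m n : ℕ) : b ^ m * a ^ n = a ^ n * b ^ m * z ^ (m * n) := by
  have h1 : ∀ n : ℕ, b * a ^ n = a ^ n * b * z ^ n := fun n => by
    induction n with
    | zero => simp
    | succ n ih =>
      rw [pow_succ, ← mul_assoc, ih, mul_assoc, ← cz (zc a), ← mul_assoc, mul_assoc _ b, e, pow_succ' z]
      simp only [mul_assoc]
  induction m with
  | zero => simp
  | succ m ih =>
    rw [pow_succ', mul_assoc, ih, ← mul_assoc, ← mul_assoc, h1, mul_assoc _ (z ^ n), ← cz (zc _), add_mul,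
      one_mul, add_comm, pow_add]
    simp only [mul_assoc]

theorem hm_mul (a3 : a ^ 3 = 1) (b3 : b ^ 3 = 1) (e : b * a = a * b * z) (x y x' y' : F3) :
    hm z a b x y * hm z a b x' y' = hm z a b (x + x') (y + y') * z ^ (x * y' - y * x').val := by
  have e1 : b ^ y.val * a ^ x'.val = a ^ x'.val * b ^ y.val * z ^ (y * x').val := by
    rw [swp zc e, pw_mul z3, pow_mul]
  have k : -((x + x') * (y + y')) + (x * y' - y * x') = y * x' + (-(x * y) + -(x' * y')) := by
    linear_combination (-(y * x')) * three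
  calc hm z a b x y * hm z a b x' y'
      = a ^ x.val * (b ^ y.val * a ^ x'.val) * b ^ y'.val * (z ^ (-(x * y)).val * z ^ (-(x' * y')).val) := by
        simp only [hm, mul_assoc, ← cz (zc _) (-(x * y)).val]
    _ = _ := by
        rw [e1, hm, mul_assoc _ (z ^ _) (z ^ _), ← pw_add z3, ← pw_add z3, k, pw_add a3, pw_add b3,
          pw_add z3 (y * x')]
        simp only [mul_assoc]
        rw [← mul_assoc (z ^ (y * x').val), ← cz (zc _), mul_assoc]

omit z3 in
theorem hm_inv {r : X} (a3 : a ^ 3 = 1) (b3 : b ^ 3 = 1) (ra : r * a * r⁻¹ = a⁻¹) (rb : r * b * r⁻¹ = b⁻¹)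
    (x y : F3) : r * hm z a b x y * r⁻¹ = hm z a b (-x) (-y) := by
  rw [hm, hm, neg_mul_neg, pw_neg a3, pw_neg b3, ← inv_pow, ← inv_pow, ← cj_pw ra, ← cj_pw rb,
    ← cjz (zc r) (-(x * y)).val]
  nth_rewrite 1 [cjz (zc r)]
  group

theorem cube {g q : X} (e : g * q * g⁻¹ * q⁻¹ ∈ zpowers z) : g ^ 3 * q = q * g ^ 3 := by
  obtain ⟨k, e⟩ := (mem_zp z3).1 e
  have e1 : g * q * g⁻¹ = z ^ k.val * q := by rw [← e]; simp
  have e2 : ∀ y, g * (z ^ k.val * y) * g⁻¹ = z ^ k.val * (g * y * g⁻¹) := fun y => by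
    rw [← mul_assoc, cz (zc g)]; simp only [mul_assoc]
  have e3 : z ^ k.val * (z ^ k.val * z ^ k.val) = 1 := by
    rw [← pow_three, ← pow_mul, mul_comm, pow_mul, z3, one_pow]
  rw [cm_cj]
  calc g ^ 3 * q * (g ^ 3)⁻¹ = g * (g * (g * q * g⁻¹) * g⁻¹) * g⁻¹ := by rw [pow_three]; group
    _ = z ^ k.val * (z ^ k.val * z ^ k.val) * q := by rw [e1, e2, e1, e2, e2, e1]; simp only [mul_assoc]
    _ = q := by rw [e3, one_mul]

/-- an involution acting trivially modulo `Z` centralizes -/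
theorem inv_fix {r q : X} (r2 : r * r = 1) (e : r * q * r⁻¹ * q⁻¹ ∈ zpowers z) : r * q = q * r := by
  simpa [pow_succ, r2, mul_assoc, show r * (r * r) = r by rw [r2, mul_one]] using cube z3 zc e

/-- every coset of `Z` inverted by `r` contains an inverted element -/
theorem inv_adj {r q : X} (e : r * q * r⁻¹ * q ∈ zpowers z) :
    ∃ k : ℕ, r * (q * z ^ k) * r⁻¹ = (q * z ^ k)⁻¹ := by
  obtain ⟨k, e⟩ := (mem_zp z3).1 e
  refine ⟨k.val, eq_inv_of_mul_eq_one_left ?_⟩
  calc r * (q * z ^ k.val) * r⁻¹ * (q * z ^ k.val) = r * q * r⁻¹ * q * (z ^ k.val * z ^ k.val) := by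
        simp only [mul_assoc, ← cz (zc _) k.val]
    _ = 1 := by rw [e, ← pow_three, ← pow_mul, mul_comm, pow_mul, z3, one_pow]

end

theorem q8_of_four : ∀ a b c d : F3, a * d - b * c = 1 →
    (a * a + b * c) * (a * a + b * c) + (a * b + b * d) * (c * a + d * c) = 1 →
    (c * a + d * c) * (a * a + b * c) + (c * b + d * d) * (c * a + d * c) = 0 →
    (a * a + b * c) * (a * b + b * d) + (a * b + b * d) * (c * b + d * d) = 0 →
    a + d = 0 ∨ (b = 0 ∧ c = 0) := by decide +kernel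

theorem q8_four {m : Mx} (d : m.det1) (e : ∀ v, m.ap (m.ap (m.ap (m.ap v))) = v) : m.q8 := fun i => by
  have : (m.mul m).mul (m.mul m) = ⟨1, 0, 0, 1⟩ := Mx.eq_of_ap fun v => by
    rw [Mx.ap_mul, Mx.ap_mul, Mx.ap_mul, e]; simp [Mx.ap]
  exact q8_of_four _ _ _ _ (d i) (congrFun (congrArg Mx.a this) i) (congrFun (congrArg Mx.c this) i)
    (congrFun (congrArg Mx.b this) i)

/-- an additive isometry that permutes the planes is monomial -/
theorem mono {φ : V6 → V6} (ad : ∀ u v, φ (u + v) = φ u + φ v) (is : ∀ u v, b6 (φ u) (φ v) = b6 u v)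
    (π : Equiv.Perm (Fin 3)) (h : ∀ i j, i ≠ π j → ∀ v, ng i v = -v → (φ v).1 j = 0 ∧ (φ v).2 j = 0) :
    ∃ m : Mx, m.det1 ∧ ∀ v, φ v = m.ap (pm π v) := by
  have n1 : ∀ i, ng i (Pi.single i 1, 0) = -(Pi.single i 1, 0) := by decide
  have n2 : ∀ i, ng i (0, Pi.single i 1) = -(0, Pi.single i 1) := by decide
  refine ⟨⟨fun j => (φ (Pi.single (π j) 1, 0)).1 j, fun j => (φ (0, Pi.single (π j) 1)).1 j,
    fun j => (φ (Pi.single (π j) 1, 0)).2 j, fun j => (φ (0, Pi.single (π j) 1)).2 j⟩, fun j => ?_, fun v => ?_⟩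
  · have e := is (Pi.single (π j) 1, 0) (0, Pi.single (π j) 1)
    rw [(by decide : ∀ i, b6 (Pi.single i 1, 0) (0, Pi.single i 1) = 1), b6,
      Finset.sum_eq_single j (fun k _ hk => by
        have := h (π j) k (fun e => hk (π.injective e).symm) _ (n1 _)
        rw [this.1, this.2]; simp) (by simp)] at e
    linear_combination e
  · have s : ∀ (f : Fin 3 → F3) (j : Fin 3), (∀ i, i ≠ π j → f i = 0) → f 0 + f 1 + f 2 = f (π j) :=
      fun f j hf => by rw [← Fin.sum_univ_three, Finset.sum_eq_single (π j) (fun i _ => hf i) (by simp)]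
    have sm : ∀ a b : F3, a.val • b = a * b := by decide
    rw [add_v6 ad v]
    ext j <;> simp only [Mx.ap, pm, Prod.fst_add, Prod.snd_add, Pi.add_apply, Pi.mul_apply, Prod.smul_fst,
      Prod.smul_snd, Pi.smul_apply, sm, Function.comp]
    · rw [s (fun i => v.1 i * (φ (Pi.single i 1, 0)).1 j) j fun i hi => by rw [(h i j hi _ (n1 i)).1, mul_zero],
        s (fun i => v.2 i * (φ (0, Pi.single i 1)).1 j) j fun i hi => by rw [(h i j hi _ (n2 i)).1, mul_zero]]
      ring
    · rw [s (fun i => v.1 i * (φ (Pi.single i 1, 0)).2 j) j fun i hi => by rw [(h i j hi _ (n1 i)).2, mul_zero],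
        s (fun i => v.2 i * (φ (0, Pi.single i 1)).2 j) j fun i hi => by rw [(h i j hi _ (n2 i)).2, mul_zero]]
      ring

theorem ng_fix {i j : Fin 3} {v : V6} (e : ng i v = -v) (ij : j ≠ i) : ng j v = v := by
  have d := (by decide : ∀ k : F3, k = -k → k = 0)
  have e1 : v.1 j = 0 := d _ (by simpa [ng, sg, ij] using congrFun (congrArg Prod.fst e) j)
  have e2 : v.2 j = 0 := d _ (by simpa [ng, sg, ij] using congrFun (congrArg Prod.snd e) j)
  ext k <;> by_cases hk : k = j <;> simp [ng, sg, hk, e1, e2]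

theorem diag {ψ : V6 → V6} (ad : ∀ u v, ψ (u + v) = ψ u + ψ v) {ε : X3}
    (h : ∀ j v, ng j v = -v → ψ v = ε j • v) (w : V6) : ψ w = (ε * w.1, ε * w.2) := by
  let p : Fin 3 → V6 := fun j => (Pi.single j (w.1 j), Pi.single j (w.2 j))
  have n : ∀ j, ng j (p j) = -p j := fun j => by
    ext k <;> by_cases hk : k = j <;> simp [p, ng, sg, hk]
  have e : w = p 0 + p 1 + p 2 := by ext k <;> fin_cases k <;> simp [p]
  conv_lhs => rw [e, ad, ad, h _ _ (n 0), h _ _ (n 1), h _ _ (n 2)]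
  ext k <;> fin_cases k <;> simp [p]

theorem perm {φ : V6 → V6} {ε : Fin 3 → X3} (h : ∀ i v, φ (ng i v) = (ε i * (φ v).1, ε i * (φ v).2))
    (ne : ∀ v, φ (-v) = -φ v) (inj : ∀ v, φ v = 0 → v = 0) :
    ∃ π : Equiv.Perm (Fin 3), ∀ i j, i ≠ π j → ∀ v, ng i v = -v → (φ v).1 j = 0 ∧ (φ v).2 j = 0 := by
  have own : ∀ i j v, ng i v = -v → ¬ ((φ v).1 j = 0 ∧ (φ v).2 j = 0) → ε i j = -1 ∧ ∀ k, k ≠ i → ε k j = 1 :=
    fun i j v hv n => by
      have d := (by decide : ∀ a b c e : F3, ¬ (a = 0 ∧ b = 0) → c * a = e * a → c * b = e * b → c = e)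
      have e := h i v
      rw [hv, ne] at e
      refine ⟨d _ _ _ _ n (by simpa using (congrFun (congrArg Prod.fst e) j).symm)
        (by simpa using (congrFun (congrArg Prod.snd e) j).symm), fun k hk => ?_⟩
      have e := h k v
      rw [ng_fix hv hk] at e
      exact d _ _ _ _ n (by simpa using (congrFun (congrArg Prod.fst e) j).symm)
        (by simpa using (congrFun (congrArg Prod.snd e) j).symm)
  have uq : ∀ i k j, ε i j = -1 → (∀ i, i ≠ k → ε i j = 1) → i = k := fun i k j a b => by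
    by_contra n
    exact absurd (a.symm.trans (b i n)) (by decide)
  have ex : ∀ i, ∃ j, ε i j = -1 ∧ ∀ k, k ≠ i → ε k j = 1 := fun i => by
    by_contra n
    have n1 := (by decide : ∀ i, ng i (Pi.single i 1, 0) = -(Pi.single i 1, 0)) i
    have : ∀ j, (φ (Pi.single i 1, 0)).1 j = 0 ∧ (φ (Pi.single i 1, 0)).2 j = 0 := fun j =>
      by_contra fun c => n ⟨j, own i j _ n1 c⟩
    exact (by decide : ∀ i, ((Pi.single i 1, 0) : V6) ≠ 0) i
      (inj _ (Prod.ext (funext fun j => (this j).1) (funext fun j => (this j).2)))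
  choose f hf using ex
  have fi : Function.Injective f := fun i k e => uq i k (f i) (hf i).1 (e ▸ (hf k).2)
  let σ := Equiv.ofBijective f (Finite.injective_iff_bijective.1 fi)
  refine ⟨σ.symm, fun i j ij v hv => by_contra fun c => ij (uq _ _ j (own i j v hv c).1 ?_)⟩
  have := (hf (σ.symm j)).2
  rwa [show f (σ.symm j) = j from σ.apply_symm_apply j] at this

end H7.F3.Ini
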