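import Cfsg.Agent.Lib.F3L.Q

/-! Orthogonal complements for a non-degenerate alternating form over the field with three elements. -/

set_option autoImplicit false

namespace H7.F3

open H87.U6 (F3 f3_cases)

variable {V : Type*} [AddCommGroup V] {be : V → V → F3}

namespace Sy

variable (h : Sy be)
include h

def perp (W : AddSubgroup V) : AddSubgroup V where
  carrier := {v | ∀ w ∈ W, be w v = 0}
  zero_mem' w _ := h.zero_r w
  add_mem' ha hb w hw := by rw [h.add_r, ha w hw, hb w hw, add_zero]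
  neg_mem' ha w hw := by rw [h.neg_r, ha w hw, neg_zero]

theorem mem_perp {W : AddSubgroup V} {v : V} : v ∈ h.perp W ↔ ∀ w ∈ W, be w v = 0 := Iff.rfl

theorem nsmul_l (n : ℕ) (u v : V) : be (n • u) v = n * be u v := by
  induction n with
  | zero => simp [h.zero_l]
  | succ n ih => rw [succ_nsmul, h.add_l, ih]; push_cast; ring

theorem nsmul_r (n : ℕ) (u v : V) : be u (n • v) = n * be u v := by
  rw [h.skew, h.nsmul_l, h.skew u v]; ring

theorem card_perp [Finite V] (W : AddSubgroup V) : Nat.card W * Nat.card (h.perp W) = Nat.card V := by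
  let : Module (ZMod 3) V := AddCommGroup.zmodModule fun v => by rw [three_nsmul, ← add_assoc, h.tri]
  have : Fact (Nat.Prime 3) := ⟨Nat.prime_three⟩
  have sm : ∀ (c : F3) (u : V), c • u = c.val • u := fun c u => by
    conv_lhs => rw [← ZMod.natCast_zmod_val c, Nat.cast_smul_eq_nsmul]
  let B : LinearMap.BilinForm (ZMod 3) V := LinearMap.mk₂ (ZMod 3) be h.add_l
    (fun c u v => by rw [sm, h.nsmul_l]; simp) h.add_r fun c u v => by rw [sm, h.nsmul_r]; simp
  have nd : B.Nondegenerate := ⟨fun w hw => h.nd w hw, fun w hw => h.nd w fun v => by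
    rw [h.skew, neg_eq_zero]; exact hw v⟩
  have k := LinearMap.BilinForm.finrank_orthogonal nd (AddSubgroup.toZModSubmodule 3 W)
  have k1 : Nat.card W = 3 ^ Module.finrank (ZMod 3) (AddSubgroup.toZModSubmodule 3 W) := 
    (Module.natCard_eq_pow_finrank (K := ZMod 3) (V := AddSubgroup.toZModSubmodule 3 W)).trans (by rw [Nat.card_zmod])
  have k2 : Nat.card (h.perp W) = 3 ^ Module.finrank (ZMod 3) (B.orthogonal (AddSubgroup.toZModSubmodule 3 W)) := 
    (Module.natCard_eq_pow_finrank (K := ZMod 3) (V := B.orthogonal (AddSubgroup.toZModSubmodule 3 W))).trans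
      (by rw [Nat.card_zmod])
  have k3 : Nat.card V = 3 ^ Module.finrank (ZMod 3) V := 
    (Module.natCard_eq_pow_finrank (K := ZMod 3)).trans (by rw [Nat.card_zmod])
  rw [k1, k2, k3, k, ← pow_add, Nat.add_sub_cancel' (Submodule.finrank_le _)]

theorem iso_le [Finite V] {W : AddSubgroup V} (i : ∀ u ∈ W, ∀ v ∈ W, be u v = 0) :
    Nat.card W * Nat.card W ≤ Nat.card V := by
  rw [← h.card_perp W]
  exact Nat.mul_le_mul_left _ (AddSubgroup.card_le_of_le fun v hv w hw => i w hw v hv)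

theorem mem_of_lag [Finite V] {W : AddSubgroup V} (i : ∀ u ∈ W, ∀ v ∈ W, be u v = 0)
    (c : Nat.card V ≤ Nat.card W * Nat.card W) {v : V} (hv : ∀ w ∈ W, be w v = 0) : v ∈ W := by
  rw [← h.card_perp W] at c
  have := AddSubgroup.eq_of_le_of_card_ge (H := W) (K := h.perp W) (fun v hv w hw => i w hw v hv)
    (Nat.le_of_mul_le_mul_left c Nat.card_pos)
  exact this ▸ hv

theorem perp_perp [Finite V] (W : AddSubgroup V) : h.perp (h.perp W) = W := by
  refine (AddSubgroup.eq_of_le_of_card_ge (fun v hv w hw => ?_) ?_).symm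
  · rw [h.skew, hw v hv, neg_zero]
  · have := (h.card_perp (h.perp W)).trans (h.card_perp W).symm
    rw [mul_comm] at this
    exact (Nat.eq_of_mul_eq_mul_right Nat.card_pos this).le

theorem card_zm {v : V} (hv : v ≠ 0) : Nat.card (AddSubgroup.zmultiples v) = 3 := by
  have : Fact (Nat.Prime 3) := ⟨Nat.prime_three⟩
  rw [Nat.card_zmultiples]
  exact addOrderOf_eq_prime (by rw [three_nsmul, ← add_assoc, h.tri]) hv

theorem mem_perp_zm {u v : V} : v ∈ h.perp (AddSubgroup.zmultiples u) ↔ be u v = 0 :=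
  ⟨fun e => e u (AddSubgroup.mem_zmultiples u), fun e w hw => by
    obtain ⟨n, rfl⟩ := hw
    have := map_zsmul (AddMonoidHom.mk' (fun u => be u v) fun a b => h.add_l a b v) n u
    simpa [e] using this⟩

theorem card_hyp [Finite V] {v : V} (hv : v ≠ 0) : 3 * Nat.card (h.perp (AddSubgroup.zmultiples v)) = Nat.card V := by
  rw [← h.card_perp (AddSubgroup.zmultiples v), h.card_zm hv]

end Sy

namespace A0

open Subgroup

variable {G : Type*} [Group G] {z t : G} {l : V → G} (h : A0 be z l t)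
include h

theorem finV [Finite G] : Finite V := Finite.of_injective l fun _ _ => h.l_inj

theorem cent_q {v : V} {k : F3} :
    Qs z l ⊓ centralizer {qq z l v k} = h.pre (h.perp (AddSubgroup.zmultiples v)) := by
  ext g
  rw [mem_inf, mem_centralizer_singleton_iff]
  constructor
  · rintro ⟨hg, c⟩
    obtain ⟨u, m, rfl⟩ := h.memQ.1 hg
    rw [h.q_mem_pre, h.mem_perp_zm, ← h.qcm, c]
  · rintro ⟨u, hu, m, rfl⟩
    exact ⟨qQ _ _, ((h.qcm _ _).2 (h.mem_perp_zm.1 hu)).symm⟩

theorem card_cent [Finite G] {y : G} (hy : y ∈ Qs z l) (hz : y ∉ zpowers z) :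
    Nat.card (Qs z l ⊓ centralizer {y} : Subgroup G) = Nat.card V := by
  have := h.finV
  obtain ⟨v, k, rfl⟩ := h.memQ.1 hy
  rw [h.cent_q, h.card_pre, h.card_hyp fun e => hz (by rw [e, h.qz]; exact pow_mem (mem_zpowers z) _)]

theorem bar_iso {B : Subgroup G} (c : ∀ x ∈ B, ∀ y ∈ B, x * y = y * x) : ∀ u ∈ h.bar B, ∀ v ∈ h.bar B, be u v = 0 :=
  fun _ ⟨a, ha⟩ _ ⟨b, hb⟩ => (h.qcm a b).1 (c _ ha _ hb)

theorem comm_zp {x y : G} (hx : x ∈ Qs z l) (hy : y ∈ Qs z l) : x * y * x⁻¹ * y⁻¹ ∈ zpowers z := by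
  obtain ⟨u, a, rfl⟩ := h.memQ.1 hx
  obtain ⟨v, b, rfl⟩ := h.memQ.1 hy
  rw [h.qcj, h.qinv, h.qmul, add_neg_cancel, h.qz]
  exact pow_mem (mem_zpowers z) _

end A0

end H7.F3
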