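import Cfsg.Agent.Lib.F3L.Ba8
import Cfsg.Agent.Lib.F3L.Perp

/-! A conjugate of `z` in `Q` and the large 3-subgroup of the centralizer of the lift of `sw`. -/

set_option autoImplicit false

namespace H7.F3

open Subgroup Cfsg
open H87.U6 (F3 f3_cases pw_zero pw_one pw_two mem_zp cm_cj)

variable {G : Type*} [Group G] [Finite G]

namespace Tw

theorem card_mul_le {A B T : Subgroup G} (hA : A ≤ T) (hB : B ≤ T) :
    Nat.card A * Nat.card B ≤ Nat.card T * Nat.card (A ⊓ B : Subgroup G) := by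
  have k : ∀ C : Subgroup G, Nat.card (A ⊓ C : Subgroup G) * A.relIndex C = Nat.card C := fun C => by
    rw [relIndex, ← (A.subgroupOf C).card_mul_index, ← inf_subgroupOf_right,
      Nat.card_congr (subgroupOfEquivOfLe inf_le_right).toEquiv]
  have k1 := k T
  rw [inf_eq_left.2 hA] at k1
  have k2 := relIndex_le_of_le_right (H := A) hB index_ne_zero_of_finite
  rw [← k B, ← k1]
  calc _ = Nat.card A * A.relIndex B * Nat.card (A ⊓ B : Subgroup G) := by ring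
    _ ≤ _ := by gcongr

theorem card_le_three {V : Type*} [AddCommGroup V] [Finite V] {R K : AddSubgroup V} (j : R → F3)
    (h : ∀ u v, j u = j v → (v : V) - u ∈ K) : Nat.card R ≤ 3 * Nat.card K := by
  have e := fun v : R => Function.invFun_eq (f := j) ⟨v, rfl⟩
  refine (Nat.card_le_card_of_injective (fun v : R => (j v, (⟨_, h _ v (e v)⟩ : K)))
    fun u v a => ?_).trans (by rw [Nat.card_prod, Nat.card_zmod])
  have a1 : j u = j v := congrArg Prod.fst a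
  have a2 : (u : V) - Function.invFun j (j u) = v - Function.invFun j (j v) :=
    congrArg (fun p : F3 × K => (p.2 : V)) a
  rw [a1] at a2
  exact Subtype.ext (sub_left_injective a2)

theorem iso3 {ι : Type*} (a : ι → W2) (i : Function.Injective a) (h : ∀ u v, b2 (a u) (a v) = 0) :
    Nat.card ι ≤ 3 := by
  obtain ⟨w, w0, hw⟩ : ∃ w : W2, w ≠ 0 ∧ ∀ v, b2 w (a v) = 0 := by
    by_cases e : ∃ u, a u ≠ 0
    · exact let ⟨u, hu⟩ := e; ⟨a u, hu, h u⟩
    · push Not at e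
      exact ⟨(1, 0), by decide, fun v => by rw [e v]; decide⟩
  refine (Nat.card_le_card_of_injective (fun v => (⟨a v, hw v⟩ : {x // b2 w x = 0}))
    fun u v e => i (congrArg Subtype.val e)).trans ?_
  rw [Nat.card_eq_fintype_card]
  exact (by decide : ∀ w : W2, w ≠ 0 → Fintype.card {x // b2 w x = 0} ≤ 3) w w0

theorem nm_sw : Nm sw fun x => (x.2.1, x.1, x.2.2) where
  add := sw_add
  inj := Function.LeftInverse.injective sw_sw
  nm x := Or.inl (ext_v8 (fun u v => by rw [pa_add, sw_add]) (fun u v => by rw [sw_add, pa_add])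
    ((by decide +kernel : ∀ x : W6, ∀ v ∈ bas8, sw (pa x v) = pa (x.2.1, x.1, x.2.2) (sw v)) x))
  om _ := rfl

theorem tau_sw : ∀ c c' : X3, (∀ v ∈ bas8, tau c (sw (tau c (sw v))) = v) →
    (∀ v ∈ bas8, tau c' (sw (tau c' (sw v))) = v) → c 0 = c' 0 → c = c' := by decide +kernel

theorem neg_sw {w : V8} (h : sw w = -w) : w = ((0, w.1.2), (-w.1.2, 0)) := by
  obtain ⟨⟨a, b⟩, c, d⟩ := w
  simp only [sw, Prod.neg_mk, Prod.mk.injEq] at h
  have k : ∀ a : W2, a = -a → a = 0 := by decide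
  rw [k a h.1.1, k d h.2.2, h.1.2]

theorem b8_neg (a b : W2) : b8 ((0, a), (-a, 0)) ((0, b), (-b, 0)) = -b2 a b := by
  simp only [b8, b4, b2, Prod.fst_neg, Prod.snd_neg, Prod.fst_zero, Prod.snd_zero]
  linear_combination (a.1 * b.2 - a.2 * b.1) * three

/-- `io` as a homomorphism -/
def ioH : V6 →+ V8 := AddMonoidHom.mk' io io_add

theorem ioH_inj : Function.Injective ioH := (injective_iff_map_eq_zero _).2 fun u hu =>
  sy6.nd u fun v => by rw [← b8_io, show io u = 0 from hu, sy8.zero_l]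

variable {V : Type*} [AddCommGroup V] {be : V → V → F3} {z y t t' d : G}

theorem zp_inf {z : G} (z3 : z ^ 3 = 1) {B : Subgroup G} (hz : z ∉ B) {x : G} (h1 : x ∈ zpowers z)
    (h2 : x ∈ B) : x = 1 := by
  obtain ⟨k, rfl⟩ := (mem_zp z3).1 h1
  rcases f3_cases k with rfl | rfl | rfl
  · exact pw_zero z
  · exact absurd (pw_one z ▸ h2) hz
  · exact absurd (inv_mem_iff.1 (pw_two z3 ▸ h2)) hz

theorem comm_of {x x' : G} (h : x * x' * x⁻¹ * x'⁻¹ = 1) : x * x' = x' * x := by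
  rw [← mul_inv_eq_iff_eq_mul, ← mul_inv_eq_one, h]

theorem iso81 {l : V8 → G} (h : A0 b8 z l t) {B : Subgroup G} (c : ∀ x ∈ B, ∀ y ∈ B, x * y = y * x) :
    Nat.card (h.bar B) ≤ 81 := by
  have := sy8.iso_le (h.bar_iso c)
  rw [card_V8] at this
  nlinarith

variable {l l' : V8 → G}

/-- symmetry -/
theorem zQ' (h : A0 b8 z l t) (h' : F8 y l' t') (y1 : y ∈ Qs z l) (y2 : y ∉ zpowers z) :
    z ∈ Qs y l' := by
  by_contra hz
  have c1 := h.card_cent y1 y2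
  have c2 := h'.idx27 (T := Qs z l ⊓ centralizer {y}) (fun x hx => h.Q3 hx.1)
    fun x hx => mem_centralizer_singleton_iff.1 hx.2
  have c3 := h.card_bar' (B := Qs z l ⊓ centralizer {y} ⊓ Qs y l') fun e => hz e.2
  have c4 := iso81 h (B := Qs z l ⊓ centralizer {y} ⊓ Qs y l') fun a ha b hb =>
    comm_of (zp_inf h.z3 hz (h.comm_zp ha.1.1 hb.1.1)
      (mul_mem (mul_mem (mul_mem ha.2 hb.2) (inv_mem ha.2)) (inv_mem hb.2)))
  rw [inf_eq_left.2 (inf_le_left.trans inf_le_left)] at c3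
  rw [card_V8] at c1
  omega

theorem comm_E (h : A0 b8 z l t) (h' : A0 b8 y l' t') (y2 : y ∉ zpowers z) {a b : G} (a1 : a ∈ Qs z l)
    (a2 : a ∈ Qs y l') (b1 : b ∈ Qs z l) (b2 : b ∈ Qs y l') : a * b = b * a :=
  comm_of (zp_inf h'.z3 y2 (h'.comm_zp a2 b2) (h.comm_zp a1 b1))

/-- the fixed points of `d` on the second extraspecial group -/
theorem big (h : A0 b8 z l t) (h' : A0 b8 y l' t') (y1 : y ∈ Qs z l) (y2 : y ∉ zpowers z)
    (z1 : z ∈ Qs y l') (ed : Ex z l t d sw) (d2 : d * d = 1) (dy : d * y = y * d)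
    (tor : ∀ x ∈ Qs y l', x * z = z * x → ∃ c, Ac z l x (tau c)) :
    3 ^ 7 ≤ Nat.card (Qs y l' ⊓ centralizer {d} : Subgroup G) := by
  obtain ⟨ψ, a⟩ := h'.exists_ac dy
  obtain ⟨κ, ka, act⟩ := h'.ac_kap a
  have pa := h'.ac_add a
  have di : d⁻¹ = d := inv_eq_of_mul_eq_one_right d2
  have two : ∀ v, ψ (ψ v) = v ∧ κ (ψ v) + κ v = 0 := fun v => by
    have := act (ψ v) (κ v + 0)
    rw [← act, show d * (d * qq y l' v 0 * d⁻¹) * d⁻¹ = d * d * qq y l' v 0 * (d * d)⁻¹ by group, d2,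
      one_mul, inv_one, mul_one] at this
    exact ⟨(h'.q_inj this).1.symm, by simpa using (h'.q_inj this).2.symm⟩
  let F : V8 →+ V8 := AddMonoidHom.mk' (fun v => ψ v - v) fun u v => by rw [pa]; abel
  have neg : ∀ v ∈ F.range, ψ v = -v := by
    rintro _ ⟨v, rfl⟩
    change ψ (ψ v - v) = -(ψ v - v)
    rw [add_sub' pa, (two v).1, neg_sub]
  have inv : ∀ v ∈ F.range, d * qq y l' v (κ v) * d⁻¹ = (qq y l' v (κ v))⁻¹ := fun v hv => by
    rw [act, neg v hv, h'.qinv]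
    congr 1
    linear_combination κ v * three
  obtain ⟨w, j, ez⟩ := h'.memQ.1 z1
  have pw : ψ w = w := by
    have := act w j
    rw [← ez, cm_cj.1 ed.cz, ez] at this
    exact (h'.q_inj this).1.symm
  have cz : ∀ v ∈ F.range, qq y l' v (κ v) * z = z * qq y l' v (κ v) := fun v hv => by
    rw [ez, h'.qcm]
    have := h'.ac_be a v w
    rw [neg v hv, pw, sy8.neg_l] at this
    exact (by decide : ∀ k : F3, -k = k → k = 0) _ this
  choose c hc using fun v : F.range => tor _ (qQ v.1 (κ v)) (cz v v.2)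
  have hc' : ∀ v : F.range, ∀ u ∈ bas8, tau (c v) (sw (tau (c v) (sw u))) = u := fun v u _ => by
    have := h.ac_mul (hc v) (h.ac_mul (h.ac_mul ed.ac (hc v)) (h.ac_inv ed.ac sw_sw))
    rw [inv v v.2, mul_inv_cancel] at this
    exact h.ac_uniq this h.ac_one u
  have c1 : Nat.card F.range ≤ 3 * Nat.card (F.range ⊓ h'.bar (Qs z l) : AddSubgroup V8) := by
    refine card_le_three (fun v => c v 0) fun u v e => ⟨F.range.sub_mem v.2 u.2, ?_⟩
    have := h.div_memQ (hc u) (tau_sw _ _ (hc' u) (hc' v) e ▸ hc v)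
    rw [h'.qinv, h'.qmul, neg_add_eq_sub] at this
    exact ⟨_, this⟩
  have c2 : Nat.card (F.range ⊓ h'.bar (Qs z l) : AddSubgroup V8) ≤ 3 := by
    have m : ∀ v : (F.range ⊓ h'.bar (Qs z l) : AddSubgroup V8), qq y l' v (κ v) ∈ Qs z l :=
      fun v => ((h'.pre_bar y1).le (h'.q_mem_pre.2 v.2.2)).1
    have m' : ∀ v : (F.range ⊓ h'.bar (Qs z l) : AddSubgroup V8), ∃ b : W2,
        qq y l' v (κ v) = qq z l ((0, b), (-b, 0)) 0 := fun v => by
      obtain ⟨u, k, e⟩ := h.memQ.1 (m v)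
      have := inv v v.2.1
      rw [e, ed.q, h.qinv] at this
      exact ⟨u.1.2, by rw [e, ← neg_sw (h.q_inj this).1,
        (by decide : ∀ k : F3, k = -k → k = 0) k (h.q_inj this).2]⟩
    choose b hb using m'
    refine iso3 b (fun u v e => Subtype.ext (h'.q_inj (a := κ u) (b := κ v) ?_).1) fun u v => ?_
    · rw [hb, hb, e]
    · have := comm_E h h' y2 (m u) (qQ _ _) (m v) (qQ _ _)
      rwa [hb, hb, h.qcm, b8_neg, neg_eq_zero] at this
  have c3 := F.ker.card_mul_index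
  rw [AddSubgroup.index_ker, card_V8] at c3
  have c4 : h'.pre F.ker ≤ Qs y l' ⊓ centralizer {d} := by
    rintro _ ⟨v, hv, k, rfl⟩
    have e : ψ v = v := sub_eq_zero.1 hv
    have e' := (two v).2
    rw [e] at e'
    refine ⟨qQ _ _, mem_centralizer_singleton_iff.2 (cm_cj.2 ?_).symm⟩
    rw [act, e, (by decide : ∀ k : F3, k + k = 0 → k = 0) _ e', zero_add]
  have c5 := card_le_of_le c4
  rw [h'.card_pre] at c5
  nlinarith

theorem eqns_tw8 : True := by
  have := @ioH.eq_1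
  trivial

end Tw

open Tw in
theorem F8.two {z t : G} {l : V8 → G} (h : F8 z l t) {g : G} (h1 : g * z * g⁻¹ ∈ Qs z l)
    (h2 : g * z * g⁻¹ ∉ zpowers z) : ∃ l' t' d y, F8 z l' t' ∧ Ex z l' t' d sw ∧ d * d = 1 ∧ y ∈ Qs z l' ∧
      y ∉ zpowers z ∧ ∃ T : Subgroup G, IsPGroup 3 T ∧ 3 ^ 9 ≤ Nat.card T ∧ y ∈ T ∧
        ∀ x ∈ T, x * d = d * x ∧ x * y = y * x := by
  obtain ⟨l₂, t₂, h'⟩ : ∃ l₂ t₂, F8 (g * z * g⁻¹) l₂ t₂ := ⟨_, _, h.map (MulAut.conj g)⟩
  generalize g * z * g⁻¹ = y at h1 h2 h'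
  have z1 := zQ' h.toA0 h' h1 h2
  have z2 : z ∉ zpowers y := fun e => h.z1 (zp_inf h'.z3 h2 e (mem_zpowers z))
  have c1 := h'.card_cent z1 z2
  have c2 := h.card_bar (B := Qs y l₂ ⊓ centralizer {z} ⊓ Qs z l)
    ⟨⟨z1, mem_centralizer_singleton_iff.2 rfl⟩, zQ⟩
  have c3 := iso81 h.toA0 (B := Qs y l₂ ⊓ centralizer {z} ⊓ Qs z l) fun a ha b hb =>
    comm_E h.toA0 h'.toA0 h2 ha.2 ha.1.1 hb.2 hb.1.1
  rw [inf_assoc, inf_idem] at c2
  rw [card_V8] at c1
  obtain ⟨l', t', k, eQ, tor, all⟩ := h.torus (T := Qs y l₂ ⊓ centralizer {z}) (fun x hx => h'.Q3 hx.1)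
    (fun x hx => mem_centralizer_singleton_iff.1 hx.2)
    (fun a ha b hb => zpowers_le.2 h1 (h'.comm_zp ha.1 hb.1)) (by omega)
  rw [← eQ] at h1
  clear c1 c2 c3 eQ h
  obtain ⟨w, m, ey⟩ := k.memQ.1 h1
  obtain ⟨a, ea⟩ := tau_fix (v := w) fun c => by
    obtain ⟨x, hx, ax⟩ := all c
    obtain ⟨n, e⟩ := k.ac_q' ax w
    have := e m
    rw [← ey, cm_cj.1 (h'.QH hx.1), ey] at this
    exact (k.q_inj this).1.symm
  obtain ⟨g₀, a₀⟩ := k.all _ _ nm_sw
  obtain ⟨n, -, e₀⟩ := k.exists_ex a₀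
  generalize n * g₀ = d₀ at e₀
  obtain ⟨j, ej⟩ := k.ex_eq Ex.one (e₀.pow 2) fun _ => rfl
  have ed : Ex z l' t' (d₀ ^ 3) sw := e₀.pow 3
  have d2 : d₀ ^ 3 * d₀ ^ 3 = 1 := by
    rw [← pow_add, show 3 + 3 = 2 * 3 from rfl, pow_mul, ej, one_mul, ← pow_mul, mul_comm, pow_mul, k.z3,
      one_pow]
  generalize d₀ ^ 3 = d at ed d2
  have dy : d * y = y * d := by rw [cm_cj, ey, ed.q, ea]; rfl
  have c1 := big k.toA0 h'.toA0 h1 h2 z1 ed d2 dy fun x a b =>
    tor x ⟨a, mem_centralizer_singleton_iff.2 b⟩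
  let f : V6 →+ F3 := AddMonoidHom.mk' (fun u => b8 w (io u)) fun u v => by rw [io_add, sy8.add_r]
  have c2 := f.ker.card_mul_index
  have c3 : Nat.card f.range ≤ 3 := (AddSubgroup.card_le_card_addGroup _).trans (Nat.card_zmod 3).le
  rw [AddSubgroup.index_ker, card_V6] at c2
  have c4 := k.card_pre (f.ker.map ioH)
  rw [AddSubgroup.card_map_of_injective ioH_inj] at c4
  set C := k.pre (f.ker.map ioH) with hC
  have Cy : ∀ x ∈ C, x * y = y * x := by
    rintro _ ⟨_, ⟨u, hu, rfl⟩, i, rfl⟩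
    rw [ey, eq_comm, k.qcm]
    exact hu
  have Cd : C ≤ centralizer {d} := by
    rintro _ ⟨_, ⟨u, hu, rfl⟩, i, rfl⟩
    exact mem_centralizer_singleton_iff.2 (cm_cj.2 (ed.q _ _)).symm
  obtain ⟨p1, p2, -⟩ := h'.sup_pg (k.pgQ.to_le (k.pre_le _) : IsPGroup 3 C) Cy
  refine ⟨l', t', d, y, k, ed, d2, h1, h2, (C ⊔ Qs y l₂) ⊓ centralizer {d}, p1.to_inf_left, ?_,
    ⟨mem_sup_right zQ, mem_centralizer_singleton_iff.2 dy.symm⟩,
    fun x hx => ⟨mem_centralizer_singleton_iff.1 hx.2, p2 x hx.1⟩⟩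
  have c5 := card_mul_le (le_inf (le_sup_left (b := Qs y l₂)) Cd) (inf_le_inf_right _ le_sup_right)
  set B := C ⊓ (Qs y l₂ ⊓ centralizer {d}) with hB
  have c6 := k.card_bar (B := B) ⟨k.q01 ▸ k.q_mem_pre.2 (zero_mem _), z1,
    mem_centralizer_singleton_iff.2 ed.cz.symm⟩
  rw [(inf_eq_left (a := B)).2 (inf_le_left.trans (k.pre_le _))] at c6
  have c7 : k.bar B ≤ ioH.range := fun v ⟨i, hv⟩ => AddSubgroup.map_le_range _ _ (k.q_mem_pre.1 hv.1)
  have c8 := sy6.iso_le (W := (k.bar B).comap ioH) fun u hu v hv => by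
    rw [← b8_io]
    exact k.bar_iso (B := B) (fun a ha b hb => comm_E k.toA0 h'.toA0 h2 (k.pre_le _ ha.1) ha.2.1
      (k.pre_le _ hb.1) hb.2.1) _ hu _ hv
  rw [← AddSubgroup.card_map_of_injective ioH_inj, AddSubgroup.map_comap_eq_self c7, card_V6] at c8
  have c9 : Nat.card (k.bar B) ≤ 27 := by nlinarith
  have c10 : 243 ≤ Nat.card f.ker := by nlinarith
  have c11 : 729 * 2187 ≤ Nat.card C * Nat.card (Qs y l₂ ⊓ centralizer {d} : Subgroup G) :=
    Nat.mul_le_mul (by omega) c1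
  have c12 := Nat.mul_le_mul_left (Nat.card ((C ⊔ Qs y l₂) ⊓ centralizer {d} : Subgroup G))
    (show Nat.card B ≤ 81 by omega)
  omega

end H7.F3
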