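import Cfsg.Agent.Lib.F3L.Bas

/-! The action of `R` on the three planes. -/

set_option autoImplicit false
set_option linter.unusedSectionVars false

namespace H7.F3

open Subgroup H87.Mc Cfsg
open H87.U6 (F3 f3_cases pw_add pw_zero pw_one pw_two pw_neg pw_mul pw_inj mem_zp cj_pw cm_cj)

variable {G : Type*} [Group G]

namespace U6x

/-- the quaternion group as a set of matrices -/
abbrev T8 := {x : F3 × F3 × F3 × F3 // x.1 * x.2.2.2 - x.2.1 * x.2.2.1 = 1 ∧ (x.1 + x.2.2.2 = 0 ∨ (x.2.1 = 0 ∧ x.2.2.1 = 0))}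

theorem card_T8 : Nat.card T8 = 8 := by rw [Nat.card_eq_fintype_card]; decide +kernel

/-- the matrix `x` on the plane `j`, the identity elsewhere -/
def on (j : Fin 3) (a b c d : F3) : Mx :=
  ⟨fun i => if i = j then a else 1, fun i => if i = j then b else 0, fun i => if i = j then c else 0,
    fun i => if i = j then d else 1⟩

/-- induced by some element -/
def In (z : G) (l : V6 → G) (m : Mx) : Prop := ∃ g, Ac z l g m.ap

theorem on_mul (j : Fin 3) (a b c d a' b' c' d' : F3) : (on j a b c d).mul (on j a' b' c' d') =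
    on j (a * a' + b * c') (a * b' + b * d') (c * a' + d * c') (c * b' + d * d') := by
  ext i <;> simp only [on, Mx.mul, Pi.add_apply, Pi.mul_apply] <;> split_ifs <;> simp

theorem on_conj (j : Fin 3) (a b c d : F3) (m : Mx) (hm : m.det1) (π : Equiv.Perm (Fin 3)) :
    (m.mul ((on (π j) a b c d).pr π)).mul m.adj =
    on j ((m.a j * a + m.b j * c) * m.d j + (m.a j * b + m.b j * d) * -m.c j)
      ((m.a j * a + m.b j * c) * -m.b j + (m.a j * b + m.b j * d) * m.a j)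
      ((m.c j * a + m.d j * c) * m.d j + (m.c j * b + m.d j * d) * -m.c j)
      ((m.c j * a + m.d j * c) * -m.b j + (m.c j * b + m.d j * d) * m.a j) := by
  ext i <;> have := hm i <;>
    simp only [on, Mx.mul, Mx.adj, Mx.pr, Pi.add_apply, Pi.mul_apply, Pi.neg_apply, Function.comp,
      EmbeddingLike.apply_eq_iff_eq] <;> split_ifs with e
  all_goals first | (subst e; rfl) | linear_combination this | ring

variable {z : G} {l : V6 → G} {r : Fin 3 → G} {R : Subgroup G}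

theorem In.mul (h : Fr0 z l r R) {m n : Mx} (a : In z l m) (b : In z l n) : In z l (m.mul n) :=
  let ⟨_, a⟩ := a; let ⟨_, b⟩ := b; ⟨_, (h.ac_mul a b).congr fun v => (Mx.ap_mul ..).symm⟩

theorem In.conj (h : Fr0 z l r R) {g : G} {m n : Mx} {π : Equiv.Perm (Fin 3)} (d : m.det1)
    (a : Ac z l g fun v => m.ap (pm π v)) (b : In z l n) : In z l ((m.mul (n.pr π)).mul m.adj) :=
  let ⟨_, b⟩ := b; ⟨_, (h.ac_mul (h.ac_mul a b) (h.mono_inv d a)).congr h.mono_conj⟩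

theorem ng_on (i : Fin 3) : ng i = (on i (-1) 0 0 (-1)).ap := by
  rw [ng_eq]; congr 1; ext j <;> simp [on, sg]

theorem in_ng (h : Fr0 z l r R) (i : Fin 3) : In z l (on i (-1) 0 0 (-1)) := ⟨_, ng_on i ▸ (h.er i).ac⟩

theorem in_sc (h : Fr0 z l r R) (i : Fin 3) {a : F3} (e : a * a = 1) : In z l (on i a 0 0 a) := by
  rcases (by decide : ∀ a : F3, a * a = 1 → a = 1 ∨ a = -1) a e with rfl | rfl
  · exact ⟨1, h.ac_one.congr fun v => by ext j <;> simp [on, Mx.ap]⟩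
  · exact in_ng h i

set_option synthInstance.maxSize 4000 in
set_option synthInstance.maxHeartbeats 400000 in
/-- a set of matrices closed under products and conjugation by `u` -/
theorem gen8 {P : F3 → F3 → F3 → F3 → Prop}
    (mul : ∀ a b c d a' b' c' d', P a b c d → P a' b' c' d' →
      P (a * a' + b * c') (a * b' + b * d') (c * a' + d * c') (c * b' + d * d'))
    (cj : ∀ a b c d, P a b c d → P ((1 * a + 1 * c) * 1 + (1 * b + 1 * d) * -0) ((1 * a + 1 * c) * -1 + (1 * b + 1 * d) * 1)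
      ((0 * a + 1 * c) * 1 + (0 * b + 1 * d) * -0) ((0 * a + 1 * c) * -1 + (0 * b + 1 * d) * 1))
    {a b c d : F3} (hd : a * d - b * c = 1) (ht : a + d = 0) (p : P a b c d) (x : T8) :
    P x.1.1 x.1.2.1 x.1.2.2.1 x.1.2.2.2 := by
  have p0 : P 0 1 2 0 := by
    have p1 := cj _ _ _ _ p
    have p2 := cj _ _ _ _ p1
    have q := fun a b c d (p : P a b c d) => mul _ _ _ _ _ _ _ _ p (mul _ _ _ _ _ _ _ _ p p)
    have q0 := q _ _ _ _ p
    have q1 := q _ _ _ _ p1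
    have q2 := q _ _ _ _ p2
    rcases (by decide : ∀ a b c d : F3, a * d - b * c = 1 → a + d = 0 →
      (a = 0 ∧ b = 1 ∧ c = 2 ∧ d = 0) ∨ (a = 0 ∧ b = 2 ∧ c = 1 ∧ d = 0) ∨ (a = 1 ∧ b = 1 ∧ c = 1 ∧ d = 2) ∨
      (a = 1 ∧ b = 2 ∧ c = 2 ∧ d = 2) ∨ (a = 2 ∧ b = 1 ∧ c = 1 ∧ d = 1) ∨ (a = 2 ∧ b = 2 ∧ c = 2 ∧ d = 1)) a b c d hd ht with
      e | e | e | e | e | e <;> obtain ⟨rfl, rfl, rfl, rfl⟩ := e <;>
      first | exact p | exact p1 | exact p2 | exact q0 | exact q1 | exact q2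
  have p1 := cj _ _ _ _ p0
  have p2 := cj _ _ _ _ p1
  have q := fun a b c d (p : P a b c d) => mul _ _ _ _ _ _ _ _ p (mul _ _ _ _ _ _ _ _ p p)
  have q0 := q _ _ _ _ p0
  have q1 := q _ _ _ _ p1
  have q2 := q _ _ _ _ p2
  have s := mul _ _ _ _ _ _ _ _ p0 p0
  have s' := mul _ _ _ _ _ _ _ _ s s
  obtain ⟨⟨a, b, c, d⟩, hd, ht⟩ := x
  rcases (by decide : ∀ a b c d : F3, a * d - b * c = 1 → (a + d = 0 ∨ b = 0 ∧ c = 0) →
      (a = 0 ∧ b = 1 ∧ c = 2 ∧ d = 0) ∨ (a = 0 ∧ b = 2 ∧ c = 1 ∧ d = 0) ∨ (a = 1 ∧ b = 1 ∧ c = 1 ∧ d = 2) ∨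
      (a = 1 ∧ b = 2 ∧ c = 2 ∧ d = 2) ∨ (a = 2 ∧ b = 1 ∧ c = 1 ∧ d = 1) ∨ (a = 2 ∧ b = 2 ∧ c = 2 ∧ d = 1) ∨
      (a = 1 ∧ b = 0 ∧ c = 0 ∧ d = 1) ∨ (a = 2 ∧ b = 0 ∧ c = 0 ∧ d = 2)) a b c d hd ht with
      e | e | e | e | e | e | e | e <;> obtain ⟨rfl, rfl, rfl, rfl⟩ := e <;>
      first | exact p0 | exact p1 | exact p2 | exact q0 | exact q1 | exact q2 | exact s | exact s'

/-- `R` cannot induce the quaternion group on each plane separately -/
theorem not_all (h : Fr0 z l r R) (a : ∀ i, ∀ x : T8, In z l (on i x.1.1 x.1.2.1 x.1.2.2.1 x.1.2.2.2)) : False := by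
  have : Finite R := Nat.finite_of_card_ne_zero (by rw [h.cR]; norm_num)
  let M : (Fin 3 → T8) → Mx := fun x => ⟨fun i => (x i).1.1, fun i => (x i).1.2.1, fun i => (x i).1.2.2.1,
    fun i => (x i).1.2.2.2⟩
  have b : ∀ x, ∃ ρ : R, Ac z l ρ (M x).ap := fun x => by
    obtain ⟨g, hg⟩ := ((a 0 (x 0)).mul h (a 1 (x 1))).mul h (a 2 (x 2))
    obtain ⟨ρ, hρ, e⟩ := h.Rmax g (M x) (fun i => (x i).2.1) (fun i => (x i).2.2) (by
      convert hg using 2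
      ext i <;> fin_cases i <;> simp [M, on, Mx.mul])
    exact ⟨⟨ρ, hρ⟩, e⟩
  choose f hf using b
  have := Nat.card_le_card_of_injective f fun x x' e => by
    have e := Mx.eq_of_ap (h.ac_uniq (hf x) (e ▸ hf x'))
    funext i
    exact Subtype.ext (Prod.ext (congrFun (congrArg Mx.a e) i) (Prod.ext (congrFun (congrArg Mx.b e) i)
      (Prod.ext (congrFun (congrArg Mx.c e) i) (congrFun (congrArg Mx.d e) i))))
  rw [h.cR, Nat.card_fun, card_T8] at this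
  simp at this

theorem det_Ym (c : X3) : (⟨1, c, 0, 1⟩ : Mx).det1 := fun i => by simp

end U6x

open U6x

/-- an element of `R` acting as a scalar on two planes acts as a scalar on the third -/
theorem St.rco {z : G} {l : V6 → G} {r : Fin 3 → G} {R : Subgroup G} {y : G} (h : St z l r R y) {ρ : G}
    (hρ : ρ ∈ R) {m : Mx} (a : Ac z l ρ m.ap) (j : Fin 3) (e : ∀ i, i ≠ j → m.b i = 0 ∧ m.c i = 0) :
    m.b j = 0 ∧ m.c j = 0 := by
  have h0 := h.toFr0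
  obtain ⟨n, d, q, b⟩ := h.eR ρ hρ
  obtain rfl := Mx.eq_of_ap (h.ac_uniq a b.ac)
  refine (q j).resolve_left fun tr => not_all h0 ?_
  have all : ∀ {i a b c d}, a * d - b * c = 1 → a + d = 0 → In z l (on i a b c d) →
      ∀ x : T8, In z l (on i x.1.1 x.1.2.1 x.1.2.2.1 x.1.2.2.2) := fun {i a b c d} hd ht p =>
    gen8 (P := fun a b c d => In z l (on i a b c d)) (fun _ _ _ _ _ _ _ _ p p' => on_mul .. ▸ p.mul h0 p')
      (fun a b c d p => by
        have := In.conj h0 (π := 1) (det_Ym 1) (Ym_eq 1 ▸ h.ey.ac) p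
        exact on_conj i a b c d _ (det_Ym 1) 1 ▸ this) hd ht p
  have sq : ∀ i, i ≠ j → m.a i * m.a i = 1 ∧ m.d i = m.a i := fun i hi => by
    have := d i
    rw [(e i hi).1, (e i hi).2] at this
    exact (by decide : ∀ a d : F3, a * d - 0 * 0 = 1 → a * a = 1 ∧ d = a) _ _ this
  have n1 : ∀ j : Fin 3, j + 1 ≠ j ∧ j + 2 ≠ j ∧ ∀ i, i = j ∨ i = j + 1 ∨ i = j + 2 := by decide
  have n2 : ∀ j : Fin 3, j + 1 ≠ j + 2 ∧ ro (j + 2) = j ∧ ro (j + 1) = j + 2 := by decide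
  have p0 : In z l (on j (m.a j) (m.b j) (m.c j) (m.d j)) := by
    have := (In.mul h0 (m := m) ⟨ρ, a⟩ (in_sc h0 (j + 1) (sq _ (n1 j).1).1)).mul h0
      (in_sc h0 (j + 2) (sq _ (n1 j).2.1).1)
    convert this using 1
    obtain ⟨k1, k2, k3⟩ := n1 j
    have k4 := (n2 j).1
    ext i <;> rcases k3 i with rfl | rfl | rfl <;>
      simp [on, Mx.mul, k1, k2, k4, k1.symm, k2.symm, k4.symm, e _ k1, e _ k2, sq _ k1, sq _ k2]
  obtain ⟨σ, c, hσ⟩ := h.sig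
  have step : ∀ i, (∀ x : T8, In z l (on (ro i) x.1.1 x.1.2.1 x.1.2.2.1 x.1.2.2.2)) →
      ∀ x : T8, In z l (on i x.1.1 x.1.2.1 x.1.2.2.1 x.1.2.2.2) := fun i p => by
    have := In.conj h0 (det_Ym c) (Ym_eq c ▸ hσ) (p ⟨(0, 1, 2, 0), by decide⟩)
    rw [on_conj i _ _ _ _ _ (det_Ym c)] at this
    refine all ?_ ?_ this <;> simp only [Pi.one_apply, Pi.zero_apply] <;> generalize c i = k <;> revert k <;> decide
  have a0 := all (d j) tr p0
  have a2 := step (j + 2) (by rw [(n2 j).2.1]; exact a0)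
  have a1 := step (j + 1) (by rw [(n2 j).2.2]; exact a2)
  intro i
  rcases (n1 j).2.2 i with rfl | rfl | rfl <;> assumption

/-- `R` induces `Q₈ × Q₈` on the last two planes -/
theorem St.rsur {z : G} {l : V6 → G} {r : Fin 3 → G} {R : Subgroup G} {y : G} (h : St z l r R y) (m : Mx)
    (d : m.det1) (q : m.q8) : ∃ ρ ∈ R, ∃ n : Mx, n.det1 ∧ n.q8 ∧ Ex z l (r 0 * r 1 * r 2) ρ n.ap ∧
      ∀ i, i ≠ 0 → n.a i = m.a i ∧ n.b i = m.b i ∧ n.c i = m.c i ∧ n.d i = m.d i := by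
  choose M hd hq hM using fun ρ : R => h.eR ρ ρ.2
  let t : R → Fin 3 → T8 := fun ρ i => ⟨((M ρ).a i, (M ρ).b i, (M ρ).c i, (M ρ).d i), hd ρ i, hq ρ i⟩
  let f : R → T8 × T8 × Bool := fun ρ => (t ρ 1, t ρ 2, decide ((M ρ).a 0 = 1 ∨ ((M ρ).a 0 = 0 ∧ (M ρ).b 0 = 1)))
  have inj : Function.Injective f := fun ρ ρ' e => by
    simp only [f, t, Prod.mk.injEq, Subtype.mk.injEq, decide_eq_decide] at e
    obtain ⟨⟨a1, b1, c1, d1⟩, ⟨a2, b2, c2, d2⟩, e0⟩ := e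
    have b := (h.ac_mul (h.ac_inv (hM ρ).ac (hd ρ).ap_adj) (hM ρ').ac).congr fun v => (Mx.ap_mul ..).symm
    have k := h.rco (mul_mem (inv_mem ρ.2) ρ'.2) b 0 fun i hi => by
      rcases (by decide : ∀ i : Fin 3, i ≠ 0 → i = 1 ∨ i = 2) i hi with rfl | rfl <;>
        simp only [Mx.mul, Mx.adj, Pi.add_apply, Pi.mul_apply, Pi.neg_apply, a1, b1, c1, d1, a2, b2, c2, d2] <;>
        constructor <;> ring
    simp only [Mx.mul, Mx.adj, Pi.add_apply, Pi.mul_apply, Pi.neg_apply] at k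
    obtain ⟨a0, b0, c0, d0⟩ := (by decide +kernel : ∀ a b c d a' b' c' d' : F3, a * d - b * c = 1 →
      a' * d' - b' * c' = 1 → d * b' + -b * d' = 0 → -c * a' + a * c' = 0 →
      (a = 1 ∨ a = 0 ∧ b = 1 ↔ a' = 1 ∨ a' = 0 ∧ b' = 1) → a = a' ∧ b = b' ∧ c = c' ∧ d = d')
      _ _ _ _ _ _ _ _ (hd ρ 0) (hd ρ' 0) k.1 k.2 e0
    have : M ρ = M ρ' := by ext i <;> fin_cases i <;> assumption
    exact Subtype.ext (h.R_eq ρ.2 ρ'.2 (hM ρ).ac (this ▸ (hM ρ').ac))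
  obtain ⟨ρ, e⟩ := (inj.bijective_of_nat_card_le (by
    rw [h.cR, Nat.card_prod, Nat.card_prod, card_T8]; simp)).2
    (⟨(m.a 1, m.b 1, m.c 1, m.d 1), d 1, q 1⟩, ⟨(m.a 2, m.b 2, m.c 2, m.d 2), d 2, q 2⟩, true)
  simp only [f, t, Prod.mk.injEq, Subtype.mk.injEq] at e
  refine ⟨ρ, ρ.2, M ρ, hd ρ, hq ρ, hM ρ, fun i hi => ?_⟩
  rcases (by decide : ∀ i : Fin 3, i ≠ 0 → i = 1 ∨ i = 2) i hi with rfl | rfl
  exacts [e.1, e.2.1]

end H7.F3
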