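import Cfsg.Agent.Lib.F3L.EndD
import Cfsg.Agent.Lib.F3L.U6R
import Cfsg.Agent.S1713

/-! The end game of the 3-local recognition of `Fi₂₂`. -/

set_option autoImplicit false

namespace H7.F3

open Subgroup Cfsg

variable {G : Type*} [Group G] [Finite G]

theorem St.cases {z : G} {l : V6 → G} {r : Fin 3 → G} {R : Subgroup G} {y : G} (h : St z l r R y)
    {L : Subgroup G} (hL : LD (r 0) L) :
    Spor.IsoFi22 G ∨ ∃ t b, I2 (r 0) L t b ∧ t * z = z * t ∧ t ∉ Qs z l ⊔ R := by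
  have s : End.SU z l r R y L := ⟨h, hL, h.rsur, fun _ hρ _ a => h.rco hρ a⟩
  by_cases e : ∀ g, g * r 0 = r 0 * g → g ∈ L
  · obtain rfl : L = centralizer {r 0} := le_antisymm (End.Lle hL) fun g hg => e g (End.mc.1 hg)
    obtain ⟨_, K, _, _, hK, ⟨f⟩⟩ := hL.iso
    obtain ⟨g, hg⟩ := End.conj1 h
    exact Or.inl (Cfsg.Agent.S1713.result (r 0) (End.ord2 h.toFr0) (End.quasi hL s.dcomm) K hK f
      ⟨g, hg ▸ s.rL 1, hg ▸ End.r10 h⟩)
  · push Not at e
    obtain ⟨g, gd, gL⟩ := e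
    exact Or.inr (s.i2 gd gL)

end H7.F3
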