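import Cfsg.Agent.Lib.F3L.OneA

/-! `Z` is not weakly closed in `Q`. -/

set_option autoImplicit false
set_option linter.unusedSectionVars false

namespace H7.F3

open Subgroup Cfsg
open H87.U6 (F3 f3_cases pw_zero pw_one pw_two mem_zp cm_cj)

variable {G : Type*} [Group G] [Finite G]

namespace One

/-- two commuting conjugates, each weakly closed in its own `Q` -/
structure Pr (z : G) (l : V6 → G) (r : Fin 3 → G) (R S : Subgroup G)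
    (y : G) (l' : V6 → G) (r' : Fin 3 → G) (R' S' : Subgroup G) : Prop where
  F : Fr z l r R S
  F' : Fr y l' r' R' S'
  c : y * z = z * y
  yN : y ∉ Qs z l
  zN : z ∉ Qs y l'
  w : ∀ g, g * z * g⁻¹ ∈ Qs z l → g * z * g⁻¹ ∈ zpowers z
  w' : ∀ g, g * y * g⁻¹ ∈ Qs y l' → g * y * g⁻¹ ∈ zpowers y

variable {z y : G} {l l' : V6 → G} {r r' : Fin 3 → G} {R S R' S' : Subgroup G}

theorem Pr.symm (P : Pr z l r R S y l' r' R' S') : Pr y l' r' R' S' z l r R S :=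
  ⟨P.F', P.F, P.c.symm, P.zN, P.yN, P.w', P.w⟩

theorem pgD {t : G} (h : A0 b6 z l t) (y : G) : IsPGroup 3 (centralizer {y} ⊓ Qs z l : Subgroup G) :=
  h.pgQ.to_le inf_le_right

theorem cD {x : G} (h : x ∈ centralizer {y} ⊓ Qs z l) : x * y = y * x := mem_centralizer_singleton_iff.1 h.1

theorem mkPr (F : Fr z l r R S) (w : ∀ g, g * z * g⁻¹ ∈ Qs z l → g * z * g⁻¹ ∈ zpowers z) {g : G}
    (hy : g * z * g⁻¹ = y) (c : y * z = z * y) (yQ : y ∉ Qs z l) :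
    ∃ l' r' R' S', Pr z l r R S y l' r' R' S' ∧ centralizer {y} ⊓ Qs z l ≤ S' := by
  have F0 := F.map (MulAut.conj g)
  have w0 : ∀ k, k * y * k⁻¹ ∈ Qs y (fun v => MulAut.conj g (l v)) → k * y * k⁻¹ ∈ zpowers y := fun k hk => by
    have e : k * y * k⁻¹ = MulAut.conj g (g⁻¹ * k * g * z * (g⁻¹ * k * g)⁻¹) := by
      rw [← hy, MulAut.conj_apply]; group
    rw [e] at hk ⊢
    obtain ⟨n, hn⟩ := mem_zpowers_iff.1
      (w (g⁻¹ * k * g) ((mem_Qs_map (MulAut.conj g)).1 (by rwa [MulAut.conj_apply g z, hy])))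
    exact mem_zpowers_iff.2 ⟨n, by rw [← hn, map_zpow, MulAut.conj_apply, hy]⟩
  rw [MulAut.conj_apply g z, hy] at F0
  obtain ⟨l', r', R', S', F', hS, hQ, -⟩ := F0.adapt (pgD F.toA0 y) fun _ => cD
  refine ⟨l', r', R', S', ⟨F, F', c, yQ, fun hz => yQ ?_, w, hQ ▸ w0⟩, hS⟩
  have e : g⁻¹ * y * g⁻¹⁻¹ = z := by rw [← hy]; group
  obtain ⟨k, hk⟩ := (mem_zp F'.z3).1 (e ▸ w0 g⁻¹ (by rwa [e, ← hQ]))
  rcases f3_cases k with rfl | rfl | rfl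
  · exact absurd (hk.trans (pw_zero y)) F.z1
  · exact (hk.trans (pw_one y)) ▸ zQ
  · rw [pw_two F'.z3] at hk
    exact inv_mem_iff.1 (hk ▸ zQ)

theorem Pr.adapt (P : Pr z l r R S y l' r' R' S') : ∃ l2 r2 R2 S2, Pr z l2 r2 R2 S2 y l' r' R' S' ∧
    centralizer {z} ⊓ Qs y l' ≤ S2 ∧ Qs z l2 = Qs z l := by
  obtain ⟨l2, r2, R2, S2, F, hS, hQ, -⟩ := P.F.adapt (pgD P.F'.toA0 z) fun _ => cD
  exact ⟨l2, r2, R2, S2, ⟨F, P.F', P.c, hQ ▸ P.yN, P.zN, hQ ▸ P.w, P.w'⟩, hS, hQ⟩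

section Act

variable {t : G} (h : A0 b6 z l t) {φ : V6 → V6} {κ : V6 → F3}
  (act : ∀ v m, y * qq z l v m * y⁻¹ = qq z l (φ v) (κ v + m))
include h act

theorem fix_iff {v : V6} {m : F3} : qq z l v m * y = y * qq z l v m ↔ φ v = v ∧ κ v = 0 := by
  rw [eq_comm, cm_cj, act]
  exact ⟨fun e => ⟨(h.q_inj e).1, add_eq_right.1 (h.q_inj e).2⟩, fun e => by rw [e.1, e.2, zero_add]⟩

theorem cm_eq (v : V6) (m : F3) :
    y * qq z l v m * y⁻¹ * (qq z l v m)⁻¹ = qq z l (φ v - v) (κ v - b6 (φ v) v) := by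
  rw [act, h.qinv, h.qmul, h.neg_r, ← sub_eq_add_neg]
  congr 1; ring

end Act

theorem Pr.e0 (P : Pr z l r R S y l' r' R' S') {k : F3} (h : qq z l 0 k ∈ Qs y l') : k = 0 :=
  P.F.bar_uniq P.zN h (P.F.q00 ▸ one_mem _)

theorem Pr.la (P : Pr z l r R S y l' r' R' S') {φ : V6 → V6} (a : Ac z l y φ) :
    ∃ κ, (∀ v m, y * qq z l v m * y⁻¹ = qq z l (φ v) (κ v + m)) ∧
      LA b6 φ κ fun u k => qq z l u k ∈ Qs y l' := by
  have h := P.F.toA0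
  obtain ⟨κ, ka, act⟩ := h.ac_kap a
  have eD : ∀ {u k}, qq z l u k ∈ Qs y l' → φ u = u ∧ κ u = 0 := fun hu => (fix_iff h act).1 (P.F'.QH hu)
  have mD : ∀ {u}, φ u = u → κ u = 0 → qq z l u 0 ∈ centralizer {y} ⊓ Qs z l := fun h1 h2 =>
    ⟨mem_centralizer_singleton_iff.2 ((fix_iff h act).2 ⟨h1, h2⟩), qQ _ _⟩
  have iso : ∀ {u v}, φ u = u → κ u = 0 → φ v = v → κ v = 0 → b6 u v = 0 := fun {u v} h1 h2 h3 h4 => by
    have := P.F'.comm_mem (pgD h y) (fun _ => cD) (mD h1 h2) (mD h3 h4)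
    rw [h.qcj, h.qinv, h.qmul, add_neg_cancel, h.neg_r, h.alt] at this
    simpa using P.e0 this
  refine ⟨κ, act, sy6, h.ac_add a, ka, h.ac_be a, fun v => ?_, fun {u a v b} hu hv => ?_,
    fun {u a} hu => h.qinv u a ▸ inv_mem hu, eD, fun v hv => ?_, iso, fun {u v} h1 h2 h3 h4 => ?_⟩
  · exact h.ac_uniq (h.ac_pow a 3) (P.F'.z3 ▸ h.ac_one) v
  · have := mul_mem hu hv
    rwa [h.qmul, iso (eD hu).1 (eD hu).2 (eD hv).1 (eD hv).2, zero_add] at this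
  · rw [← cm_eq h act v 0] at hv
    have h1 : qq z l v 0 * y * (qq z l v 0)⁻¹ ∈ Qs y l' := by
      have := mul_mem (inv_mem hv) (zQ (z := y) (l := l'))
      rwa [show (y * qq z l v 0 * y⁻¹ * (qq z l v 0)⁻¹)⁻¹ * y = qq z l v 0 * y * (qq z l v 0)⁻¹ by group] at this
    have h2 : qq z l v 0 * y * (qq z l v 0)⁻¹ * y⁻¹ ∈ Qs z l := by
      have := mul_mem (qQ v 0) (h.nQ' P.c (inv_mem (qQ v 0)))
      rwa [← mul_assoc, ← mul_assoc] at this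
    obtain ⟨k, hk⟩ := (mem_zp P.F'.z3).1 (P.w' _ h1)
    rcases f3_cases k with rfl | rfl | rfl
    · exact absurd (by simpa using hk) P.F'.z1
    · exact ((fix_iff h act).1 (cm_cj.2 (hk.trans (pw_one y)))).1
    · rw [hk, pw_two P.F'.z3, ← mul_inv_rev, inv_mem_iff, ← pow_two, ← show (2 : F3).val = 2 from rfl,
        pw_two P.F'.z3, inv_mem_iff] at h2
      exact absurd h2 P.yN
  · have QC : Qs y l' ≤ centralizer {y} := fun x hx => mem_centralizer_singleton_iff.2 (P.F'.QH hx)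
    have k := P.F'.idx9 (pgD h y) fun _ => cD
    rw [inf_right_comm, inf_eq_right.2 QC, h.card_bar (mem_centralizer_singleton_iff.2 P.c.symm),
      h.card_bar' P.zN] at k
    exact idx3 h.tri (E := h.bar (Qs y l')) (D := h.bar (centralizer {y})) (fun v ⟨k, hk⟩ => ⟨k, QC hk⟩)
      (by omega) ⟨0, (mD h1 h2).1⟩ ⟨0, (mD h3 h4).1⟩

/-- in the second case `Q ∩ Q'` has order at most three -/
theorem Pr.s3 (P : Pr z l r R S y l' r' R' S') {c : X3} {π : Equiv.Perm (Fin 3)} (h3 : π ^ 3 = 1) (h1 : π ≠ 1)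
    (a : Ac z l y fun v => Ym c (pm π v)) {x x' : G} (hx : x ∈ Qs z l) (hy : x ∈ Qs y l') (hx' : x' ∈ Qs z l)
    (hy' : x' ∈ Qs y l') : x = 1 ∨ x' = 1 ∨ x * x' = 1 ∨ x * x'⁻¹ = 1 := by
  have h := P.F.toA0
  obtain ⟨κ, -, L⟩ := P.la a
  obtain ⟨u, k, rfl⟩ := h.memQ.1 hx
  obtain ⟨v, m, rfl⟩ := h.memQ.1 hx'
  have e0 : ∀ {w k}, qq z l w k ∈ Qs y l' → w = 0 → qq z l w k = 1 := by
    rintro _ k hk rfl
    rw [P.e0 hk, h.q00]
  have m1 := mul_mem hy hy'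
  have m2 := mul_mem hy (inv_mem hy')
  rw [h.qinv] at m2 ⊢
  rw [h.qmul] at m1 m2
  rw [h.qmul, h.qmul]
  exact (L.L2 (B_im h3 h1 L) hy hy').imp (e0 hy) fun k => k.imp (e0 hy') fun k =>
    k.imp (e0 m1) fun k => e0 m2 (by rwa [← sub_eq_add_neg])

theorem av_ind : ∀ i : Fin 3, i + 1 ≠ i ∧ i + 2 ≠ i ∧ av (i + 1) ≠ 0 ∧ av (i + 2) ≠ 0 ∧
    av (i + 1) + av (i + 2) ≠ 0 ∧ av (i + 1) + -av (i + 2) ≠ 0 := by decide

theorem perm_one : ∀ (i : Fin 3) (π : Equiv.Perm (Fin 3)), (∀ j, j ≠ i → π j = j) → π = 1 := by decide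

theorem mono_fix {m : Mx} {π : Equiv.Perm (Fin 3)} {j : Fin 3} (e : m.ap (pm π (av j)) = av j) : π j = j := by
  by_contra hn
  have := congrFun (congrArg Prod.fst e) j
  simp [Mx.ap, pm, av, hn] at this

/-- `y` does not act diagonally -/
theorem Pr.noA (P : Pr z l r R S y l' r' R' S') (hS : z ∈ S') {c : X3} (a : Ac z l y (Ym c)) : False := by
  have h := P.F.toA0
  have h' := P.F'.toA0
  obtain ⟨κ, act, L⟩ := P.la a
  obtain ⟨v, hv⟩ : ∃ v, ∀ j, l v * r j * (l v)⁻¹ * y = y * (l v * r j * (l v)⁻¹) := by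
    obtain ⟨n, hn, b⟩ := h.exists_ex a
    obtain ⟨w, k, rfl⟩ := h.memQ.1 hn
    have w2 : w.2 = 0 := by
      funext j
      have e1 := b.act (av j)
      have e2 := cm_cj.1 ((fix_iff h act (m := 0)).2 ⟨Ym_a c (Pi.single j 1), A_ker L _⟩).symm
      rw [q0] at e2
      rw [av, Ym_a, show ∀ a b c : G, a * b * c * (a * b)⁻¹ = a * (b * c * b⁻¹) * a⁻¹ by intros; group, e2,
        ← cm_cj, ← q0 z l (_, 0), h.qcm] at e1
      simpa [b6, Pi.single_apply] using e1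
    obtain ⟨v, hv⟩ : ∃ v, Ym c v - v = w :=
      ⟨(0, c * w.1), by
        rw [Ym_n, ← Prod.mk.eta (p := w), w2]; congr 1; funext j; exact cc _ _ fun hj => absurd hj (A_wt L j)⟩
    refine ⟨v, fun j => ?_⟩
    have e1 : qq z l w k * y * l v * (qq z l w k * y)⁻¹ * (l v)⁻¹ = qq z l w (-b6 (Ym c v) v) := by
      rw [b.act, ← q0 z l v, ← q0 z l (Ym c v), h.qinv, h.qmul, h.neg_r, ← sub_eq_add_neg, hv]; simp
    obtain ⟨n, e2⟩ : ∃ n : ℕ, qq z l w (-b6 (Ym c v) v) = qq z l w k * z ^ n :=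
      ⟨_, by rw [← h.qz (-b6 (Ym c v) v - k), h.qmul, h.zero_r, add_zero, zero_add, add_sub_cancel]⟩
    have c1 : Commute (l v * r j * (l v)⁻¹) (l v * (qq z l w k * y) * (l v)⁻¹) := by
      rw [Commute, SemiconjBy, conj_mul, conj_mul, P.F.ex_Ym b j]
    have c2 : Commute (l v * r j * (l v)⁻¹) z :=
      ((show Commute (l v) z from h.lz v).mul_left (P.F.rz j)).mul_left (show Commute (l v) z from h.lz v).inv_left
    have e3 : y = z ^ n * (l v * (qq z l w k * y) * (l v)⁻¹) := by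
      calc y = (qq z l w k)⁻¹ * (qq z l w k * y * l v * (qq z l w k * y)⁻¹ * (l v)⁻¹) *
          (l v * (qq z l w k * y) * (l v)⁻¹) := by group
        _ = _ := by rw [e1, e2]; group
    conv_lhs => rw [e3]
    conv_rhs => rw [e3]
    exact ((c2.pow_right n).mul_right c1).eq
  have ar : ∀ j, Ac z l (l v * r j * (l v)⁻¹) (ng j) := fun j =>
    (h.ac_mul (h.ac_mul (h.ac_Q (lQ v)) (P.F.er j).ac) (h.ac_Q (inv_mem (lQ v))) :)
  obtain ⟨i, hi, hj⟩ := A_inv L fun j u k hu => by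
    obtain ⟨k', e⟩ := h.ac_q' (ar j) u
    exact ⟨_, e k ▸ h'.nQ' (hv j) hu⟩
  obtain ⟨ρ, hρ⟩ : ∃ ρ, ρ = l v * r i * (l v)⁻¹ := ⟨_, rfl⟩
  have ρ2 : ρ * ρ = 1 := by rw [hρ, conj_mul, P.F.r2]; simp
  have ρy : ρ * y = y * ρ := hρ ▸ hv i
  have aρ : Ac z l ρ (ng i) := hρ ▸ ar i
  have ρE : ∀ x ∈ Qs z l, x ∈ Qs y l' → ρ * x * ρ⁻¹ = x := fun x hx hx' => by
    obtain ⟨u, k, rfl⟩ := h.memQ.1 hx
    obtain ⟨k', e⟩ := h.ac_q' aρ u
    have := h'.nQ' ρy hx'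
    rw [e, hi u k hx'] at this ⊢
    rw [h.bar_uniq P.zN this hx']
  obtain ⟨c', π, h3, a'⟩ := P.F'.std z hS
  by_cases h1 : π ≠ 1
  · obtain ⟨o1, o2, o3, o4, o5, o6⟩ := av_ind i
    obtain ⟨k1, m1⟩ := hj _ o1
    obtain ⟨k2, m2⟩ := hj _ o2
    rcases P.symm.s3 h3 h1 a' m1 (qQ _ _) m2 (qQ _ _) with e | e | e | e
    · exact o3 (h.q_one e).1
    · exact o4 (h.q_one e).1
    · exact o5 (h.q_one (h.qmul .. ▸ e)).1
    · rw [h.qinv, h.qmul] at e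
      exact o6 (h.q_one e).1
  obtain rfl := not_not.1 h1
  obtain ⟨κ', act', L'⟩ := P.symm.la (φ := Ym c') a'
  have ρD : ∀ u, ρ * l' (u, 0) * ρ⁻¹ = l' (u, 0) := fun u => by
    obtain ⟨x, hx⟩ : ∃ x, x = qq y l' (u, 0) 0 := ⟨_, rfl⟩
    rw [← q0 y l', ← hx]
    have xQ : x ∈ Qs y l' := hx ▸ qQ _ _
    have xz : x * z = z * x := hx ▸ (fix_iff h' act').2 ⟨Ym_a c' u, A_ker L' u⟩
    obtain ⟨π, m, -, b⟩ := P.F.mon x xz
    obtain rfl : π = 1 := perm_one i π fun j hn => mono_fix (m := m) (by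
      obtain ⟨k, hk⟩ := hj j hn
      obtain ⟨k', e⟩ := h.ac_q' b (av j)
      obtain ⟨w, n, ew⟩ := h'.memQ.1 hk
      have w2 := A_fix L' (L'.eD (ew ▸ qQ (av j) k)).1
      have : x * qq z l (av j) k = qq z l (av j) k * x := by
        rw [hx, ew, h'.qcm, ← Prod.mk.eta (p := w), w2, b6_aa]
      exact (h.q_inj ((e k).symm.trans (cm_cj.1 this))).1)
    have m1 := h.div_memQ' (h.ac_mul b aρ) ((h.ac_mul aρ b).congr fun v => (m.ap_ng i v).symm)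
    have m2 := mul_mem (h'.nQ' ρy xQ) (inv_mem xQ)
    rw [mul_inv_rev, ← mul_assoc] at m1
    have e1 := ρE _ m1 m2
    have e3 := h.Q3 m1
    have e2 : ρ * x * ρ⁻¹ * x⁻¹ * (ρ * x * ρ⁻¹ * x⁻¹) = 1 := by
      nth_rw 1 [← e1]
      calc _ = ρ * ρ * x * (ρ * ρ)⁻¹ * x⁻¹ := by group
        _ = 1 := by rw [ρ2]; group
    rw [pow_succ, pow_two, e2, one_mul] at e3
    exact mul_inv_eq_one.1 e3
  obtain ⟨ψ, b⟩ := h'.exists_ac ρy
  have hψ := lag L' (h'.ac_add b) (h'.ac_be b) (h'.ac_uniq (h'.ac_mul b b) (ρ2 ▸ h'.ac_one)) fun u => by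
    obtain ⟨k, e⟩ := b.2 (u, 0)
    rw [ρD, ← q0 y l'] at e
    exact (h'.q_inj e).1.symm
  have e3 := h'.Q3 (h'.memQ_of_ac (b.congr hψ))
  rw [pow_succ, pow_two, ρ2, one_mul, hρ] at e3
  exact P.F.rne i (by simpa using e3)

theorem perm3' : ∀ π σ : Equiv.Perm (Fin 3), π ^ 3 = 1 → π ≠ 1 → σ ^ 3 = 1 →
    σ = 1 ∨ π * σ = 1 ∨ π * (π * σ) = 1 := by decide

theorem Pr.exists_x (P : Pr z l r R S y l' r' R' S') (hS : centralizer {z} ⊓ Qs y l' ≤ S)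
    {c c' : X3} {π π' : Equiv.Perm (Fin 3)} (h3 : π ^ 3 = 1) (h1 : π ≠ 1) (h3' : π' ^ 3 = 1) (h1' : π' ≠ 1)
    (a : Ac z l y fun v => Ym c (pm π v)) (a' : Ac y l' z fun v => Ym c' (pm π' v)) :
    ∃ x ∈ Qs y l', x ∉ Qs z l ∧ ∃ d, Ac z l x (Ym d) := by
  have h := P.F.toA0
  have h' := P.F'.toA0
  obtain ⟨κ', act', L'⟩ := P.symm.la a'
  obtain ⟨p, q, hp, hq, -, n1, n2, n3, n4⟩ := B_two h3' h1' L'
  obtain ⟨w, w1, w2, w3⟩ := L'.T (B_im h3' h1' L') hp hq n1 n2 n3 n4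
  obtain ⟨d, σ, s3, b⟩ := P.F.std _ (hS ⟨mem_centralizer_singleton_iff.2
    ((fix_iff h' act' (m := 0)).2 ⟨w1, w2⟩), qQ _ _⟩)
  have step : ∀ {k d σ}, Ac z l (qq y l' w k) (fun v => Ym d (pm σ v)) →
      Ac z l (qq y l' w (k + 1)) fun v => Ym (d + c ∘ σ) (pm (π * σ) v) := fun {k d σ} b => by
    have := (h.ac_mul b a).congr fun v => by rw [pm_Ym, Ym_Ym, pm_pm]
    have e := h'.qmul w 0 k 1
    rw [h'.q01, h'.zero_r, add_zero, zero_add] at e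
    rwa [e] at this
  rcases perm3' π σ h3 h1 s3 with e | e | e
  · exact ⟨_, qQ _ _, w3 _, d, by rwa [e] at b⟩
  · exact ⟨_, qQ _ _, w3 _, _, by have := step b; rwa [e] at this⟩
  · exact ⟨_, qQ _ _, w3 _, _, by have := step (step b); rwa [e] at this⟩

/-- `y` does not centralize the fixed vectors -/
theorem Pr.no27 (P : Pr z l r R S y l' r' R' S') {c : X3} {π : Equiv.Perm (Fin 3)} (h3 : π ^ 3 = 1)
    (h1 : π ≠ 1) {κ : V6 → F3} (act : ∀ v m, y * qq z l v m * y⁻¹ = qq z l (Ym c (pm π v)) (κ v + m))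
    (L : LA b6 (fun v => Ym c (pm π v)) κ fun u k => qq z l u k ∈ Qs y l') {x : G} (hx : x ∈ Qs y l')
    (hx' : x ∉ Qs z l) {d : X3} (b : Ac z l x (Ym d)) : ∃ a, Ym c (pm π a) = a ∧ κ a ≠ 0 := by
  have h := P.F.toA0
  by_contra hn
  obtain ⟨-, q, -, hq, q2, -⟩ := B_two h3 h1 L
  have kq : κ q = 0 := by_contra fun k => hn ⟨q, hq, k⟩
  obtain ⟨v0, e0⟩ := B_im h3 h1 L q hq
  obtain ⟨v, hv⟩ : ∃ v, Ym c (pm π v) - v = q := ⟨_, (L.nn v0).trans e0⟩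
  have xy : Commute x y := P.F'.QH hx
  have e1 := cm_eq h act v 0
  have my : Commute (qq z l (Ym c (pm π v) - v) (κ v - b6 (Ym c (pm π v)) v)) y :=
    (fix_iff h act).2 (hv ▸ ⟨hq, kq⟩)
  obtain ⟨k, e2⟩ := h.ac_q' b v
  have e3 : x * qq z l (Ym c (pm π v) - v) (κ v - b6 (Ym c (pm π v)) v) * x⁻¹ =
      qq z l (Ym c (pm π (Ym d v)) - Ym d v) (κ (Ym d v) - b6 (Ym c (pm π (Ym d v))) (Ym d v)) := by
    rw [← cm_eq h act (Ym d v) (k + 0), ← e2, ← e1]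
    calc _ = x * y * x⁻¹ * (x * qq z l v 0 * x⁻¹) * (x * y * x⁻¹)⁻¹ * (x * qq z l v 0 * x⁻¹)⁻¹ := by group
      _ = _ := by rw [cm_cj.1 xy]
  have f1 := ((fix_iff h act).1 (e3 ▸ ((xy.mul_left my).mul_left xy.inv_left).eq)).1
  have m1 := mul_mem hx (P.F'.nQ' my (inv_mem hx))
  rw [← mul_assoc, ← mul_assoc, e3, h.qinv, h.qmul, h.neg_r, L.be_fix (a := _ - v) (hv ▸ hq), neg_zero, zero_add,
    ← sub_eq_add_neg, ← sub_eq_add_neg] at m1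
  have e4 := L.L3 (B_im h3 h1 L) f1 (hv ▸ hq) m1
  obtain ⟨k', e5⟩ := h.ac_q' b (Ym c (pm π v) - v)
  have e6 := (h.q_inj ((e5 _).symm.trans e3)).1.trans e4
  rw [hv] at e6
  have e7 : d = 0 := by simpa [Ym, q2] using congrArg Prod.fst e6
  exact hx' (h.memQ_of_ac (b.congr fun v => by rw [e7, Ym_zero]; rfl))

end One

theorem Fr.one {z : G} {l : V6 → G} {r : Fin 3 → G} {R S : Subgroup G} (h : Fr z l r R S) (nw : NW z) :
    ∃ g, g * z * g⁻¹ ∈ Qs z l ∧ g * z * g⁻¹ ∉ zpowers z := by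
  by_contra hn
  have w : ∀ g, g * z * g⁻¹ ∈ Qs z l → g * z * g⁻¹ ∈ zpowers z := fun g hg => by_contra fun k => hn ⟨g, hg, k⟩
  obtain ⟨g, c, hg⟩ := nw
  obtain ⟨y, hy⟩ : ∃ y, g * z * g⁻¹ = y := ⟨_, rfl⟩
  have yQ : y ∉ Qs z l := fun k => hg (w g (hy ▸ k))
  obtain ⟨l', r', R', S', P0, hS', -⟩ : ∃ l' r' R' S', One.Pr z l r R S y l' r' R' S' ∧
    centralizer {y} ⊓ Qs z l ≤ S' ∧ True := by simpa using One.mkPr h w hy (hy ▸ c) yQ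
  obtain ⟨l2, r2, R2, S2, P, hS, hQ⟩ := P0.adapt
  rw [← hQ] at hS'
  have yS := hS ⟨mem_centralizer_singleton_iff.2 P.c, zQ⟩
  have zS := hS' ⟨mem_centralizer_singleton_iff.2 P.c.symm, zQ⟩
  obtain ⟨c, π, h3, a⟩ := P.F.std y yS
  obtain ⟨c', π', h3', a'⟩ := P.F'.std z zS
  have h1 : π ≠ 1 := by rintro rfl; exact P.noA zS a
  have h1' : π' ≠ 1 := by rintro rfl; exact P.symm.noA yS a'
  obtain ⟨x, hx, hx', d, b⟩ := P.exists_x hS h3 h1 h3' h1' a a'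
  obtain ⟨x', kx, kx', d', b'⟩ := P.symm.exists_x hS' h3' h1' h3 h1 a' a
  obtain ⟨κ, act, L⟩ := P.symm.la a'
  obtain ⟨p, hp, kp⟩ := P.symm.no27 h3' h1' act L kx kx' b'
  obtain ⟨u, k, rfl⟩ := P.F'.memQ.1 hx
  obtain ⟨v0, e0⟩ := One.B_im h3' h1' L u ((One.fix_iff P.F'.toA0 act).1 b.1).1
  obtain ⟨v, e1, e2⟩ := L.L0 hp kp (Ym c' (pm π' v0) - v0) k
  have e3 := One.cm_eq P.F'.toA0 act v 0
  rw [e1, e2, (L.nn v0).trans e0] at e3
  have e4 : qq y l' v 0 * z * (qq y l' v 0)⁻¹ = (qq y l' u k)⁻¹ * z := by rw [← e3]; group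
  have b2 : Ac z l2 ((qq y l' u k)⁻¹ * z) (Ym (-d)) :=
    (P.F.ac_mul (P.F.ac_inv (φ' := Ym (-d)) b fun v => by rw [Ym_Ym, add_neg_cancel, Ym_zero])
      (P.F.ac_Q zQ) :)
  obtain ⟨l3, r3, R3, S3, P3, hS3⟩ := One.mkPr P.F P.w e4 b2.1
    fun k => hx' (inv_mem_iff.1 ((mul_mem_cancel_right zQ).1 k))
  exact P3.noA (hS3 ⟨mem_centralizer_singleton_iff.2 P3.c.symm, zQ⟩) b2

end H7.F3
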