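import Cfsg.Agent.Lib.F3L.Bas
import Cfsg.Agent.Lib.LocStruct.SylowIn

/-! Coordinates adapted to a Sylow 3-subgroup of `C(z)`. -/

set_option autoImplicit false
set_option linter.unusedSectionVars false

namespace H7.F3

open Subgroup H87.Mc Cfsg H69
open H87.U6 (F3 f3_cases pw_add pw_zero pw_one pw_two pw_neg pw_mul pw_inj mem_zp cj_pw cm_cj)

variable {G : Type*} [Group G] [Finite G]

namespace Syl

theorem cnt {ι : Type*} (T N : Subgroup G) (J : Finset ι) (P : G → ι → Prop)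
    (h1 : ∀ g ∈ T, ∃ i ∈ J, P g i) (h2 : ∀ g ∈ T, ∀ g' ∈ T, ∀ i, P g i → P g' i → g⁻¹ * g' ∈ N) :
    Nat.card T ≤ J.card * Nat.card N := by
  classical
  choose f hf hP using fun g : T => h1 g g.2
  let s : ι → T := fun i => if e : ∃ g, f g = i then e.choose else 1
  have hs : ∀ g, f (s (f g)) = f g := fun g => by
    have e : ∃ g', f g' = f g := ⟨g, rfl⟩
    simp only [s, dif_pos e]
    exact e.choose_spec
  rw [← Nat.card_eq_finsetCard J, ← Nat.card_prod]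
  refine Nat.card_le_card_of_injective (fun g : T => ((⟨f g, hf g⟩ : J),
    (⟨_, h2 _ (s (f g)).2 _ g.2 _ ((hs g).subst (motive := P _) (hP (s (f g)))) (hP g)⟩ : N))) fun g g' e => ?_
  have e1 : f g = f g' := congrArg (fun p : J × N => (p.1 : ι)) e
  have e2 : ((s (f g) : G))⁻¹ * g = (s (f g') : G)⁻¹ * g' := congrArg (fun p : J × N => (p.2 : G)) e
  rw [e1, mul_left_cancel_iff] at e2
  exact Subtype.ext e2

/-- one matrix at the place `j` -/
def E (j : Fin 3) (a b c d : F3) : Mx :=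
  ⟨fun i => if i = j then a else 1, fun i => if i = j then b else 0, fun i => if i = j then c else 0,
    fun i => if i = j then d else 1⟩

/-- induced matrices -/
def Ind (z : G) (l : V6 → G) (m : Mx) : Prop := ∃ g, Ac z l g m.ap

theorem eqs : True := (fun _ _ => trivial) (@E.eq_1) (@Ind.eq_1.{0})

theorem E_mul (j : Fin 3) (a b c d a' b' c' d' : F3) : (E j a b c d).mul (E j a' b' c' d') =
    E j (a * a' + b * c') (a * b' + b * d') (c * a' + d * c') (c * b' + d * d') := by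
  ext i <;> by_cases e : i = j <;> simp [E, Mx.mul, e]

theorem E_conj {m : Mx} (hd : m.det1) (j : Fin 3) (a b c d : F3) :
    (m.mul (E j a b c d)).mul m.adj =
      E j ((m.a j * a + m.b j * c) * m.d j + (m.a j * b + m.b j * d) * -m.c j)
        ((m.a j * a + m.b j * c) * -m.b j + (m.a j * b + m.b j * d) * m.a j)
        ((m.c j * a + m.d j * c) * m.d j + (m.c j * b + m.d j * d) * -m.c j)
        ((m.c j * a + m.d j * c) * -m.b j + (m.c j * b + m.d j * d) * m.a j) := by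
  ext i <;> by_cases e : i = j <;> simp [E, Mx.mul, Mx.adj, e]
  exacts [by linear_combination hd i, by ring, by ring, by linear_combination hd i]

theorem E_pr {π : Equiv.Perm (Fin 3)} {j : Fin 3} (e : π j = j) (a b c d : F3) :
    (E j a b c d).pr π = E j a b c d := by
  have k : ∀ i, π i = j ↔ i = j := fun i => by rw [← π.apply_eq_iff_eq (x := i), e]
  ext i <;> simp [E, Mx.pr, k]

theorem E_det {j : Fin 3} {a b c d : F3} (e : a * d - b * c = 1) : (E j a b c d).det1 := fun i => by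
  by_cases e' : i = j <;> simp [E, e', e]

theorem E_q8 {j : Fin 3} {a b c d : F3} (e : a + d = 0 ∨ (b = 0 ∧ c = 0)) : (E j a b c d).q8 := fun i => by
  by_cases e' : i = j <;> simp [E, e', e]

theorem ap_add (m : Mx) (u v : V6) : m.ap (u + v) = m.ap u + m.ap v := by
  simp only [Mx.ap, Prod.fst_add, Prod.snd_add, Prod.mk_add_mk]; congr 1 <;> ring

theorem ap_neg (m : Mx) (v : V6) : m.ap (-v) = -m.ap v := add_neg' (ap_add m) v

theorem b6_ap {m : Mx} (d : m.det1) (u v : V6) : b6 (m.ap u) (m.ap v) = b6 u v := by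
  refine Finset.sum_congr rfl fun i _ => ?_
  simp only [Mx.ap, Pi.add_apply, Pi.mul_apply]
  linear_combination (u.1 i * v.2 i - u.2 i * v.1 i) * d i

theorem ac_chg {z g : G} {l : V6 → G} {n : Mx} (d : n.det1) {φ : V6 → V6} (a : Ac z l g φ) :
    Ac z (fun v => l (n.ap v)) g fun v => n.adj.ap (φ (n.ap v)) :=
  ⟨a.1, fun v => by simpa only [qq, d.ap_adj] using a.2 (n.ap v)⟩

theorem ex_chg {z t g : G} {l : V6 → G} {n : Mx} (d : n.det1) {φ : V6 → V6} (a : Ex z l t g φ) :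
    Ex z (fun v => l (n.ap v)) t g fun v => n.adj.ap (φ (n.ap v)) :=
  ⟨a.cz, a.ct, fun v => by simpa only [d.ap_adj] using a.act (n.ap v)⟩

theorem adj_adj (n : Mx) : n.adj.adj = n := by simp [Mx.adj]

theorem Qs_chg {z : G} {l : V6 → G} {n : Mx} (d : n.det1) : Qs z (fun v => l (n.ap v)) = Qs z l := by
  rw [Qs, Qs, show Set.range (fun v => l (n.ap v)) = Set.range l from
    Function.Surjective.range_comp (fun v => ⟨_, d.ap_adj v⟩) l]

variable {z : G} {l : V6 → G} {r : Fin 3 → G} {R : Subgroup G}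

theorem chg (h : Fr0 z l r R) {n : Mx} (d : n.det1) : Fr0 z (fun v => l (n.ap v)) r R where
  toSy := h.toSy
  z3 := h.z3
  z1 := h.z1
  lz v := h.lz _
  lmul u v := by rw [h.lmul, ap_add, b6_ap d]
  linj v hv := by rw [← d.adj_ap v, h.linj _ hv]; exact add_zero' (ap_add _)
  nQ g hg v := by
    obtain ⟨w, k, e⟩ := h.nQ g hg (n.ap v)
    exact ⟨n.adj.ap w, k, by rw [e, d.ap_adj]⟩
  cQ g hg hv := h.cQ g hg fun v => by simpa only [d.ap_adj] using hv (n.adj.ap v)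
  t2 := h.t2
  tz := h.tz
  tl v := by rw [h.tl, ap_neg]
  r2 := h.r2
  rR := h.rR
  er i := (ex_chg d (h.er i)).congr fun v => by rw [← Mx.ap_ng, d.adj_ap]
  mon g hg := by
    obtain ⟨π, m, d', a⟩ := h.mon g hg
    exact ⟨π, _, d.adj.mul (d'.mul (d.pr π)),
      (ac_chg d a).congr fun v => by rw [Mx.pm_ap, Mx.ap_mul, Mx.ap_mul]⟩
  cR := h.cR
  eR ρ hρ := by
    obtain ⟨m, d', q, a⟩ := h.eR ρ hρ
    exact ⟨_, (d.adj.mul d').mul d.adj.adj, q.conj d.adj d',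
      (ex_chg d a).congr fun v => by rw [Mx.ap_mul, Mx.ap_mul, adj_adj]⟩
  Rmax g m d' q a := by
    have b := ac_chg d.adj a
    simp only [d.ap_adj, adj_adj] at b
    obtain ⟨ρ, hρ, c⟩ := h.Rmax g _ ((d.mul d').mul d.adj) (q.conj d d')
      (b.congr fun v => by rw [Mx.ap_mul, Mx.ap_mul])
    exact ⟨ρ, hρ, (ac_chg d c).congr fun v => by rw [Mx.ap_mul, Mx.ap_mul, d.adj_ap, d.adj_ap]⟩

theorem mono_mul (h : Fr0 z l r R) {g g' : G} {m n : Mx} {π π' : Equiv.Perm (Fin 3)}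
    (a : Ac z l g fun v => m.ap (pm π v)) (b : Ac z l g' fun v => n.ap (pm π' v)) :
    Ac z l (g * g') fun v => (m.mul (n.pr π)).ap (pm (π' * π) v) :=
  (h.ac_mul a b).congr fun v => by rw [Mx.pm_ap, pm_pm, Mx.ap_mul]

theorem mono_pow (h : Fr0 z l r R) {g : G} {m : Mx} {π : Equiv.Perm (Fin 3)} (d : m.det1)
    (a : Ac z l g fun v => m.ap (pm π v)) :
    ∀ k : ℕ, ∃ n : Mx, n.det1 ∧ Ac z l (g ^ k) fun v => n.ap (pm (π ^ k) v)
  | 0 => ⟨⟨1, 0, 0, 1⟩, fun i => by simp, by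
      rw [pow_zero]; exact h.ac_one.congr fun v => by simp [Mx.ap, pm_one]⟩
  | k + 1 => by
    obtain ⟨n, d', b⟩ := mono_pow h d a k
    exact ⟨_, d.mul (d'.pr π), by rw [pow_succ', pow_succ]; exact mono_mul h a b⟩

theorem perm_three (h : Fr0 z l r R) {g : G} {m : Mx} {π : Equiv.Perm (Fin 3)} (d : m.det1)
    (a : Ac z l g fun v => m.ap (pm π v)) {k : ℕ} (hk : g ^ 3 ^ k = 1) : π ^ 3 = 1 := by
  obtain ⟨n, d', b⟩ := mono_pow h d a (3 ^ k)
  rw [hk] at b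
  have e := (Mx.mono_uniq (n := ⟨1, 0, 0, 1⟩) (π' := 1) d' fun v =>
    (h.ac_uniq b h.ac_one v).trans (by simp [Mx.ap, pm_one])).1
  rcases (by decide : ∀ π : Equiv.Perm (Fin 3), π ^ 3 = 1 ∨ π ^ 2 = 1) π with e' | e'
  · exact e'
  · obtain ⟨j, hj⟩ : Odd (3 ^ k) := Odd.pow (by decide)
    rw [hj, pow_succ, pow_mul, e', one_pow, one_mul] at e
    rw [e, one_pow]

theorem ne_ap : ∀ a b c d x y : F3, a * d - b * c = 1 → (x ≠ 0 ∨ y ≠ 0) →
    a * x + b * y ≠ 0 ∨ c * x + d * y ≠ 0 := by decide +kernel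

theorem card512 : ¬ 3 ∣ Nat.card {v : V6 // ∀ i, v.1 i ≠ 0 ∨ v.2 i ≠ 0} := by
  rw [Nat.card_eq_fintype_card]; decide +kernel

theorem exists_fix (h : Fr0 z l r R) {S : Subgroup G} (p : IsPGroup 3 S) (c : ∀ g ∈ S, g * z = z * g) :
    ∃ A : V6, (∀ i, A.1 i ≠ 0 ∨ A.2 i ≠ 0) ∧ ∀ g ∈ S, ∀ φ, Ac z l g φ → φ A = A := by
  have : Fact (Nat.Prime 3) := ⟨Nat.prime_three⟩
  choose φ hφ using fun g : S => h.exists_ac (c g g.2)
  have k : ∀ g v, (∀ i, v.1 i ≠ 0 ∨ v.2 i ≠ 0) → ∀ i, (φ g v).1 i ≠ 0 ∨ (φ g v).2 i ≠ 0 := fun g v hv i => by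
    obtain ⟨π, m, d, a⟩ := h.mon g (c g g.2)
    rw [h.ac_uniq (hφ g) a]
    exact ne_ap _ _ _ _ _ _ (d i) (hv (π i))
  let _ : MulAction S {v : V6 // ∀ i, v.1 i ≠ 0 ∨ v.2 i ≠ 0} :=
    { smul := fun g v => ⟨φ g v.1, k g v.1 v.2⟩
      one_smul := fun v => Subtype.ext (h.ac_uniq (hφ 1) h.ac_one v.1)
      mul_smul := fun g g' v => Subtype.ext (h.ac_uniq (hφ (g * g')) (h.ac_mul (hφ g) (hφ g')) v.1) }
  obtain ⟨A, hA⟩ := p.nonempty_fixed_point_of_prime_not_dvd_card _ card512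
  exact ⟨A.1, A.2, fun g hg ψ a => (h.ac_uniq a (hφ ⟨g, hg⟩) _).trans (congrArg Subtype.val (hA ⟨g, hg⟩))⟩

theorem exists_std (h : Fr0 z l r R) {S : Subgroup G} (p : IsPGroup 3 S) (c : ∀ g ∈ S, g * z = z * g) :
    ∃ n : Mx, n.det1 ∧ ∀ g ∈ S, ∃ c π, π ^ 3 = 1 ∧
      Ac z (fun v => l (n.ap v)) g fun v => Ym c (pm π v) := by
  obtain ⟨A, hA, f⟩ := exists_fix h p c
  choose b d e using fun i => (by decide : ∀ x y : F3, (x ≠ 0 ∨ y ≠ 0) → ∃ b d, x * d - b * y = 1)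
    _ _ (hA i)
  let n : Mx := ⟨A.1, b, A.2, d⟩
  have dn : n.det1 := e
  have en : n.ap (1, 0) = A := by simp [n, Mx.ap]
  refine ⟨n, dn, fun g hg => ?_⟩
  obtain ⟨π, m, dm, a⟩ := (chg h dn).mon g (c g hg)
  obtain ⟨φ, a'⟩ := h.exists_ac (c g hg)
  have e1 := (chg h dn).ac_uniq a (ac_chg dn a') (1, 0)
  rw [en, f g hg φ a', ← en, dn.adj_ap] at e1
  have e2 : m.a = 1 := by simpa [Mx.ap, pm] using congrArg Prod.fst e1
  have e3 : m.c = 0 := by simpa [Mx.ap, pm] using congrArg Prod.snd e1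
  have e4 : m.d = 1 := funext fun i => by simpa [e2, e3] using dm i
  obtain ⟨k, hk⟩ := p ⟨g, hg⟩
  exact ⟨m.b, π, perm_three (chg h dn) dm a (congrArg Subtype.val hk),
    a.congr fun v => by simp [Mx.ap, Ym, e2, e3, e4]⟩

/-! ### the bound -/

theorem Ind.mul (h : Fr0 z l r R) {m n : Mx} (a : Ind z l m) (b : Ind z l n) : Ind z l (m.mul n) :=
  let ⟨_, a⟩ := a; let ⟨_, b⟩ := b; ⟨_, (h.ac_mul a b).congr fun v => (Mx.ap_mul m n v).symm⟩

theorem Ind.conj (h : Fr0 z l r R) {g : G} {m n : Mx} {π : Equiv.Perm (Fin 3)} (d : m.det1)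
    (a : Ac z l g fun v => m.ap (pm π v)) (b : Ind z l n) : Ind z l ((m.mul (n.pr π)).mul m.adj) :=
  let ⟨_, b⟩ := b; ⟨_, (h.ac_mul (h.ac_mul a b) (h.mono_inv d a)).congr h.mono_conj⟩

theorem ind_one (h : Fr0 z l r R) : Ind z l ⟨1, 0, 0, 1⟩ := ⟨1, h.ac_one.congr fun v => by simp [Mx.ap]⟩

theorem ind_sign (h : Fr0 z l r R) {s : X3} (hs : ∀ i, s i * s i = 1) : Ind z l ⟨s, 0, 0, s⟩ := by
  have k : ∀ i, Ind z l ⟨if s i = 1 then 1 else sg i, 0, 0, if s i = 1 then 1 else sg i⟩ := fun i => by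
    split_ifs
    exacts [ind_one h, ⟨_, ng_eq i ▸ (h.er i).ac⟩]
  have := ((k 0).mul h (k 1)).mul h (k 2)
  simp only [Mx.mul, mul_zero, zero_mul, add_zero, zero_add] at this
  rwa [← (by decide +kernel : ∀ s : X3, (∀ i, s i * s i = 1) → s = (if s 0 = 1 then 1 else sg 0) *
    (if s 1 = 1 then 1 else sg 1) * (if s 2 = 1 then 1 else sg 2)) s hs] at this

set_option synthInstance.maxSize 4000 in
set_option synthInstance.maxHeartbeats 400000 in
theorem cube : ∀ a b c d k : F3, a * d - b * c = 1 → (a + d = 0 ∨ (b = 0 ∧ c = 0)) →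
    ∀ b' d', b' = a * k + b → d' = c * k + d → ∀ x y u w, x = (a * a + b' * c) * a + (a * b' + b' * d') * c →
    y = (a * a + b' * c) * b' + (a * b' + b' * d') * d' → u = (c * a + d' * c) * a + (c * b' + d' * d') * c →
    w = (c * a + d' * c) * b' + (c * b' + d' * d') * d' →
    (k ≠ 0 → x * x = 1 ∧ y = 0 ∧ u = 0 ∧ w = x) ∧
      (k = 0 → ¬ (b = 0 ∧ c = 0) → x * w - y * u = 1 ∧ x + w = 0) := by
  intro a b c d k h1 h2 b' d' e1 e2 x y u w e3 e4 e5 e6
  subst e3 e4 e5 e6 e1 e2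
  revert a b c d k
  decide +kernel

set_option synthInstance.maxSize 4000 in
set_option synthInstance.maxHeartbeats 400000 in
theorem gen8 : ∀ a b c d : F3, a * d - b * c = 1 → a + d = 0 → ∀ k : F3, k ≠ 0 →
    ∀ p q u w, p = a + k * c → q = (a + k * c) * -k + (b + k * d) → w = c * -k + d → u = c →
    ∀ x y v t : F3, x * t - y * v = 1 → (x + t = 0 ∨ (y = 0 ∧ v = 0)) → ∃ s : F3, s * s = 1 ∧
      ((x = s ∧ y = 0 ∧ v = 0 ∧ t = s) ∨ (x = s * a ∧ y = s * b ∧ v = s * c ∧ t = s * d) ∨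
      (x = s * p ∧ y = s * q ∧ v = s * u ∧ t = s * w) ∨
      (x = s * (a * p + b * u) ∧ y = s * (a * q + b * w) ∧ v = s * (c * p + d * u) ∧
        t = s * (c * q + d * w))) := by
  intro a b c d h1 h2 k hk p q u w e1 e2 e3 e4
  subst e1 e2 e3 e4
  revert a b u d k
  decide +kernel

/-- a plane on which some quaternion element is not scalar carries the whole quaternion group -/
theorem full (h : Fr0 z l r R) (hC : ∀ c : X3, c 0 + c 1 + c 2 = 0 → Ind z l ⟨1, c, 0, 1⟩) {m : Mx}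
    (d : m.det1) (q : m.q8) (a : Ind z l m) {j : Fin 3} (hj : ¬ (m.b j = 0 ∧ m.c j = 0)) (x y v t : F3)
    (e1 : x * t - y * v = 1) (e2 : x + t = 0 ∨ (y = 0 ∧ v = 0)) : Ind z l (E j x y v t) := by
  obtain ⟨c, c0, cj, ci⟩ := (by decide +kernel : ∀ j : Fin 3, ∃ c : X3, c 0 + c 1 + c 2 = 0 ∧ c j = 0 ∧
    ∀ i, i ≠ j → c i ≠ 0) j
  have a1 := a.mul h (hC c c0)
  have a3 := (a1.mul h a1).mul h a1
  set n := ((m.mul ⟨1, c, 0, 1⟩).mul (m.mul ⟨1, c, 0, 1⟩)).mul (m.mul ⟨1, c, 0, 1⟩) with hn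
  have k := fun i => cube _ _ _ _ (c i) (d i) (q i) _ _ rfl rfl (n.a i) (n.b i) (n.c i) (n.d i)
    (by simp [hn, Mx.mul]) (by simp [hn, Mx.mul]) (by simp [hn, Mx.mul]) (by simp [hn, Mx.mul])
  have sc : ∀ s : F3, s * s = 1 → Ind z l (E j s 0 0 s) := fun s hs => by
    convert ind_sign h (s := fun i => if i = j then s else 1) (fun i => by split_ifs <;> simp [hs]) using 1
    ext i <;> simp [E]
  have a4 : Ind z l (E j (n.a j) (n.b j) (n.c j) (n.d j)) := by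
    convert (ind_sign h (s := fun i => if i = j then 1 else n.a i) fun i => ?_).mul h a3 using 1
    · ext i <;> by_cases e : i = j <;> simp only [E, Mx.mul, e, Pi.mul_apply, if_true, if_false,
        zero_mul, one_mul, add_zero, zero_add]
      all_goals obtain ⟨k1, k2, k3, k4⟩ := (k i).1 (ci i e)
      exacts [k1.symm, by rw [k2, mul_zero], by rw [k3, mul_zero], by rw [k4, k1]]
    · split_ifs with e
      exacts [one_mul _, ((k i).1 (ci i e)).1]
  obtain ⟨g, b⟩ := hC 1 rfl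
  have a5 := Ind.conj h (m := ⟨1, 1, 0, 1⟩) (π := 1) (fun i => by simp) b a4
  rw [E_pr rfl, E_conj fun i => by simp] at a5
  obtain ⟨k1, k2⟩ := (k j).2 cj hj
  obtain ⟨s, hs, e | e | e | e⟩ := gen8 _ _ _ _ k1 k2 1 one_ne_zero _ _ _ _ rfl rfl rfl rfl x y v t e1 e2
  all_goals obtain ⟨rfl, rfl, rfl, rfl⟩ := e
  · exact sc _ hs
  · simpa [E_mul] using (sc s hs).mul h a4
  · simpa [E_mul] using (sc s hs).mul h a5
  · simpa [E_mul] using (sc s hs).mul h (a4.mul h a5)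

/-- the quaternion elements are scalar on the plane `j` -/
def Sc (z : G) (l : V6 → G) (j : Fin 3) : Prop :=
  ∀ m : Mx, m.det1 → m.q8 → Ind z l m → m.b j = 0 ∧ m.c j = 0

theorem eqs' : True := (fun _ => trivial) (@Sc.eq_1.{0})

theorem exists_sc (h : Fr0 z l r R) (hC : ∀ c : X3, c 0 + c 1 + c 2 = 0 → Ind z l ⟨1, c, 0, 1⟩) :
    ∃ j, Sc z l j := by
  by_contra hn
  simp only [Sc, not_exists, not_forall] at hn
  choose m d q a hj using hn
  let K := {x : F3 × F3 × F3 × F3 // x.1 * x.2.2.2 - x.2.1 * x.2.2.1 = 1 ∧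
    (x.1 + x.2.2.2 = 0 ∨ (x.2.1 = 0 ∧ x.2.2.1 = 0))}
  let M : (Fin 3 → K) → Mx := fun x =>
    ⟨fun i => (x i).1.1, fun i => (x i).1.2.1, fun i => (x i).1.2.2.1, fun i => (x i).1.2.2.2⟩
  have k : ∀ x, ∃ ρ ∈ R, Ac z l ρ (M x).ap := fun x => by
    have f := fun j => full h hC (d j) (q j) (a j) (hj j) _ _ _ _ (x j).2.1 (x j).2.2
    obtain ⟨g, b⟩ := ((f 0).mul h (f 1)).mul h (f 2)
    refine h.Rmax g _ (fun i => (x i).2.1) (fun i => (x i).2.2) ?_
    convert b using 2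
    ext i <;> fin_cases i <;> simp [M, E, Mx.mul]
  choose ρ hρ b using k
  have := Nat.card_le_card_of_injective (fun x => (⟨ρ x, hρ x⟩ : R)) fun x y e => by
    have e' : ρ x = ρ y := congrArg Subtype.val e
    have e1 := Mx.eq_of_ap (h.ac_uniq (b x) (e' ▸ b y))
    funext i
    exact Subtype.ext (Prod.ext (congrFun (congrArg Mx.a e1) i) (Prod.ext (congrFun (congrArg Mx.b e1) i)
      (Prod.ext (congrFun (congrArg Mx.c e1) i) (congrFun (congrArg Mx.d e1) i))))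
  rw [h.cR, Nat.card_fun, Nat.card_eq_fintype_card (α := K),
    show Fintype.card K = 8 by decide +kernel] at this
  simp at this

theorem sc_uniq (h : Fr0 z l r R) {i j : Fin 3} (hi : Sc z l i) (hj : Sc z l j) : i = j := by
  by_contra hne
  obtain ⟨k, hk⟩ := (by decide : ∀ i j : Fin 3, ∃ k, i ≠ j → ∀ x, x = i ∨ x = j ∨ x = k) i j
  have := cnt R ⊥ (Finset.univ.filter fun x : F3 × F3 × F3 × F3 × F3 × F3 =>
      x.1 * x.2.2.2.1 - x.2.1 * x.2.2.1 = 1 ∧ (x.1 + x.2.2.2.1 = 0 ∨ (x.2.1 = 0 ∧ x.2.2.1 = 0)))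
    (fun ρ x => ∃ m : Mx, m.det1 ∧ m.q8 ∧ Ac z l ρ m.ap ∧
      x = (m.a k, m.b k, m.c k, m.d k, m.a i, m.a j))
    (fun ρ hρ => by
      obtain ⟨m, d, q, a⟩ := h.eR ρ hρ
      exact ⟨_, by simpa using ⟨d k, q k⟩, m, d, q, a.ac, rfl⟩)
    (by
      rintro ρ hρ ρ' hρ' _ ⟨m, d, q, a, rfl⟩ ⟨n, d', q', b, e⟩
      simp only [Prod.mk.injEq] at e
      have sd : ∀ a a' d d' b b' c c' : F3, a * d - b * c = 1 → a' * d' - b' * c' = 1 → b = 0 → b' = 0 →
          a = a' → d = d' := by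
        rintro a a' d d' _ _ c c' e e' rfl rfl rfl
        revert a d d' c c'
        decide
      obtain ⟨i1, i2⟩ := hi m d q ⟨_, a⟩
      obtain ⟨i3, i4⟩ := hi n d' q' ⟨_, b⟩
      obtain ⟨j1, j2⟩ := hj m d q ⟨_, a⟩
      obtain ⟨j3, j4⟩ := hj n d' q' ⟨_, b⟩
      obtain rfl : m = n := by
        ext x <;> rcases hk hne x with rfl | rfl | rfl
        exacts [e.2.2.2.2.1, e.2.2.2.2.2, e.1, i1.trans i3.symm, j1.trans j3.symm, e.2.1,
          i2.trans i4.symm, j2.trans j4.symm, e.2.2.1,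
          sd _ _ _ _ _ _ _ _ (d x) (d' x) i1 i3 e.2.2.2.2.1,
          sd _ _ _ _ _ _ _ _ (d x) (d' x) j1 j3 e.2.2.2.2.2, e.2.2.2.1]
      rw [h.R_eq hρ hρ' a b, inv_mul_cancel]
      exact one_mem _)
  rw [h.cR, card_bot] at this
  revert this
  decide +kernel

set_option synthInstance.maxSize 4000 in
set_option synthInstance.maxHeartbeats 400000 in
theorem sc_fix (h : Fr0 z l r R) {j : Fin 3} (hj : Sc z l j) {g : G} {m : Mx} {π : Equiv.Perm (Fin 3)}
    (d : m.det1) (a : Ac z l g fun v => m.ap (pm π v)) : π j = j := by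
  refine sc_uniq h (fun n d' q b => ?_) hj
  have := hj _ ((d.mul (d'.pr π)).mul d.adj) ((q.pr π).conj d (d'.pr π)) (b.conj h d a)
  exact (by decide +kernel : ∀ a b c d a' b' c' d' : F3, a * d - b * c = 1 → a' * d' - b' * c' = 1 →
    ((a * a' + b * c') * -b + (a * b' + b * d') * a = 0 ∧ (c * a' + d * c') * d + (c * b' + d * d') * -c = 0) →
    (a' + d' = 0 ∨ (b' = 0 ∧ c' = 0)) → b' = 0 ∧ c' = 0) _ _ _ _ _ _ _ _ (d j) (d' (π j)) this (q (π j))

set_option synthInstance.maxSize 4000 in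
set_option synthInstance.maxHeartbeats 400000 in
theorem uconj : ∀ a b c d k : F3, a * d - b * c = 1 → ∀ x y u w,
    x = (a * 1 + b * 0) * d + (a * k + b * 1) * -c → y = (a * 1 + b * 0) * -b + (a * k + b * 1) * a →
    u = (c * 1 + d * 0) * d + (c * k + d * 1) * -c → w = (c * 1 + d * 0) * -b + (c * k + d * 1) * a →
    (x * 1 + y * 0) * (u * -k + w * 1) - (x * -k + y * 1) * (u * 1 + w * 0) = 1 ∧
    (x * 1 + y * 0 + (u * -k + w * 1) = 0 ∨ (x * -k + y * 1 = 0 ∧ u * 1 + w * 0 = 0)) ∧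
    ((x * -k + y * 1 = 0 ∧ u * 1 + w * 0 = 0) → x = 1 ∧ y = k ∧ u = 0 ∧ w = 1) := by
  intro a b c d k h1 x y u w e3 e4 e5 e6
  subst e3 e4 e5 e6
  revert a b c d k
  decide +kernel

theorem not_all (h : Fr0 z l r R) (o : O3 z l) (hC : ∀ c : X3, Ind z l ⟨1, c, 0, 1⟩) : False := by
  obtain ⟨j, hj⟩ := exists_sc h fun c _ => hC c
  have eE : ∀ k : F3, E j 1 k 0 1 = ⟨1, fun i => if i = j then k else 0, 0, 1⟩ := fun k => by
    ext i <;> simp [E]
  have eY : ∀ k : F3, (E j 1 k 0 1).ap = Ym fun i => if i = j then k else 0 := fun k => by rw [eE, Ym_eq]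
  have e0 : ∀ v, (E j 1 0 0 1).ap v = v := fun v => by
    rw [eY, ← Ym_zero v, Ym_Ym]; congr 1; ext i; simp
  have em : ∀ k k' v, (E j 1 k 0 1).ap ((E j 1 k' 0 1).ap v) = (E j 1 (k + k') 0 1).ap v := fun k k' v => by
    rw [← Mx.ap_mul, E_mul]; simp [add_comm]
  let N : Subgroup G :=
    { carrier := {g | ∃ k, Ac z l g (E j 1 k 0 1).ap}
      one_mem' := ⟨0, h.ac_one.congr fun v => (e0 v).symm⟩
      mul_mem' := by
        rintro _ _ ⟨k, a⟩ ⟨k', b⟩
        exact ⟨_, (h.ac_mul a b).congr (em k k')⟩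
      inv_mem' := by
        rintro _ ⟨k, a⟩
        exact ⟨-k, h.ac_inv a fun v => by rw [em, add_neg_cancel, e0]⟩ }
  have hN := o N (pg3 (k := 2) (by
      rintro x ⟨k, a⟩
      have := h.Q3 (h.memQ_of_ac ((h.ac_mul (h.ac_mul a a) a).congr fun v => by
        rw [em, em, show k + k + k = 0 by linear_combination k * three, e0, id]))
      rwa [← pow_two, ← pow_succ, ← pow_mul] at this)) (fun x ⟨_, a⟩ => a.1) (by
      rintro g gz x ⟨k, a⟩
      obtain ⟨π, m, d, b⟩ := h.mon g gz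
      have c := (h.ac_mul (h.ac_mul b a) (h.mono_inv d b)).congr h.mono_conj
      rw [E_pr (sc_fix h hj d b), E_conj d] at c
      obtain ⟨k1, k2, k3⟩ := uconj _ _ _ _ k (d j) _ _ _ _ rfl rfl rfl rfl
      have := hj _ (E_det k1) (E_q8 k2) (E_mul .. ▸ Ind.mul h ⟨_, c⟩ (eE (-k) ▸ hC _))
      simp only [E, if_true] at this
      obtain ⟨e1, e2, e3, e4⟩ := k3 this
      rw [e1, e2, e3, e4] at c
      exact ⟨k, c⟩)
  obtain ⟨g, a⟩ := eE 1 ▸ hC fun i => if i = j then 1 else 0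
  have := congrFun (congrArg Prod.fst (h.ac_uniq a (h.ac_Q (hN ⟨1, a⟩)) (0, 1))) j
  simp [E, Mx.ap] at this

theorem bound (h : Fr0 z l r R) (o : O3 z l) {S : Subgroup G}
    (std : ∀ g ∈ S, ∃ c π, π ^ 3 = 1 ∧ Ac z l g fun v => Ym c (pm π v)) : Nat.card S ≤ 3 ^ 9 := by
  classical
  by_contra hn
  have cQ : Nat.card (Qs z l) = 3 ^ 7 := by rw [h.cardQ, card_V6]; rfl
  let C : AddSubgroup X3 :=
    { carrier := {c | ∃ g, Ac z l g (Ym c)}
      zero_mem' := ⟨1, h.ac_one.congr fun v => (Ym_zero v).symm⟩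
      add_mem' := by
        rintro c c' ⟨_, a⟩ ⟨_, b⟩
        exact ⟨_, (h.ac_mul a b).congr (Ym_Ym c c')⟩
      neg_mem' := by
        rintro c ⟨_, a⟩
        exact ⟨_, h.ac_inv a fun v => by rw [Ym_Ym, add_neg_cancel, Ym_zero]⟩ }
  have hC : ∀ c ∈ C, Ind z l ⟨1, c, 0, 1⟩ := fun c ⟨g, a⟩ => ⟨g, Ym_eq c ▸ a⟩
  have hi : ∀ {g c π}, (Ac z l g fun v => Ym c (pm π v)) → Ac z l g⁻¹ fun v => pm π⁻¹ (Ym (-c) v) :=
    fun a => h.ac_inv a fun v => by rw [pm_pm, inv_mul_cancel, pm_one, Ym_Ym, add_neg_cancel, Ym_zero]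
  by_cases sig : ∃ g c, Ac z l g fun v => Ym c (pm ro v)
  · obtain ⟨σ, c₀, a⟩ := sig
    have hro : ∀ c ∈ C, c ∘ ro ∈ C := fun c ⟨g, b⟩ =>
      ⟨_, (h.ac_mul (h.ac_mul a b) (hi a)).congr fun v => by
        rw [pm_Ym, pm_pm, inv_mul_cancel, pm_one, Ym_Ym, Ym_Ym]; congr 1; ring⟩
    obtain ⟨c, hc, nc⟩ : ∃ c ∈ C, ¬ (c 1 = c 0 ∧ c 2 = c 0) := by
      by_contra hk
      push Not at hk
      have := cnt S (Qs z l) (Finset.univ.filter fun x : F3 × Equiv.Perm (Fin 3) => x.2 ^ 3 = 1)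
        (fun g x => ∃ c, c 0 = x.1 ∧ Ac z l g fun v => Ym c (pm x.2 v))
        (fun g hg => by
          obtain ⟨c, π, e, b⟩ := std g hg
          exact ⟨(c 0, π), by simpa using e, c, rfl, b⟩)
        (by
          rintro g - g' - x ⟨c, e, b⟩ ⟨c', e', b'⟩
          obtain ⟨k1, k2⟩ := hk (c + -c') ⟨_, (h.ac_mul b (hi b')).congr fun v => by
            rw [pm_pm, inv_mul_cancel, pm_one, Ym_Ym]⟩
          obtain rfl : c = c' := by
            simp only [Pi.add_apply, Pi.neg_apply, e, e', add_neg_cancel, add_neg_eq_zero] at k1 k2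
            ext i; fin_cases i
            exacts [e.trans e'.symm, k1, k2]
          exact h.div_memQ b b')
      rw [cQ, show (Finset.univ.filter fun x : F3 × Equiv.Perm (Fin 3) => x.2 ^ 3 = 1).card = 9 by
        decide +kernel] at this
      omega
    obtain ⟨j, hj⟩ := exists_sc h fun e he => by
      obtain ⟨α, β, γ, rfl⟩ := (by decide +kernel : ∀ c : X3, ¬ (c 1 = c 0 ∧ c 2 = c 0) → ∀ e : X3,
        e 0 + e 1 + e 2 = 0 → ∃ α β γ : F3,
          e = α.val • c + β.val • (c ∘ ro) + γ.val • ((c ∘ ro) ∘ ro)) c nc e he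
      exact hC _ (add_mem (add_mem (nsmul_mem hc _) (nsmul_mem (hro _ hc) _))
        (nsmul_mem (hro _ (hro _ hc)) _))
    exact (by decide : ∀ j, ro j ≠ j) j
      (sc_fix h hj (m := ⟨1, c₀, 0, 1⟩) (fun i => by simp) (Ym_eq c₀ ▸ a))
  · have := cnt S (Qs z l) (Finset.univ.filter (· ∈ C)) (fun g c => Ac z l g (Ym c))
      (fun g hg => by
        obtain ⟨c, π, e, b⟩ := std g hg
        rcases (perm3 π).1 e with rfl | rfl | rfl
        · exact ⟨c, by simpa using ⟨g, b⟩, b⟩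
        · exact absurd ⟨g, c, b⟩ sig
        · exact absurd ⟨_, _, (h.ac_mul b b).congr fun v => by
            rw [pm_Ym, pm_pm, Ym_Ym, show ro⁻¹ * ro⁻¹ = ro by decide]⟩ sig)
      (fun g _ g' _ c a b => h.div_memQ a b)
    rw [cQ, ← Fintype.card_subtype, ← Nat.card_eq_fintype_card] at this
    have k : Nat.card X3 = 3 ^ 3 := by simp
    obtain ⟨i, hi3, e⟩ := dvd_pow3 (k ▸ C.card_addSubgroup_dvd_card)
    have e' : Nat.card C = Nat.card X3 := by
      rw [e] at this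
      rw [e, k]
      interval_cases i <;> omega
    exact not_all h o fun c => hC c (C.eq_top_of_card_eq e' ▸ AddSubgroup.mem_top c)

end Syl

open Syl

theorem A0.nw {V : Type*} [AddCommGroup V] {be : V → V → F3} {z t : G} {l : V → G} (h : A0 be z l t)
    (S : Sylow 3 G) (hz : z ∈ S) {g : G} (h1 : g * z * g⁻¹ ∈ S) (h2 : g * z * g⁻¹ ∉ zpowers z) : NW z := by
  have : Fact (Nat.Prime 3) := ⟨Nat.prime_three⟩
  obtain ⟨k, -, hk⟩ := (isSylowIn_top S).exists_cj_le h.pgQ le_top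
  have : Nontrivial S := ⟨⟨z, hz⟩, 1, fun e => h.z1 (congrArg Subtype.val e)⟩
  obtain ⟨⟨⟨c, cS⟩, hc⟩, c1⟩ := @exists_ne _ S.isPGroup'.center_nontrivial 1
  have cc : ∀ s ∈ S, s * c = c * s := fun s hs => congrArg Subtype.val (mem_center_iff.1 hc ⟨s, hs⟩)
  have cq : ∀ q ∈ Qs z l, k⁻¹ * c * k * q = q * (k⁻¹ * c * k) := fun q hq => by
    calc _ = k⁻¹ * (c * (k * q * k⁻¹)) * k := by group
      _ = _ := by rw [← cc _ (hk (cj_mem k hq))]; group
  have ck : ∀ s ∈ S, Commute (k * z * k⁻¹) s := fun s hs => by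
    rcases (mem_z3 h.z3).1 (h.cQ _ (cq z zQ) fun v => cq _ (lQ v)) with e | e | e
    · exact absurd (Subtype.ext (Subtype.ext (conj_eq_one_iff.1
        (show k⁻¹ * c * k⁻¹⁻¹ = 1 by rwa [inv_inv])))) c1
    · rw [← e]; simpa [mul_assoc] using (show Commute s c from cc s hs).symm
    · rw [← inv_inv z, ← e]; simpa [mul_assoc] using (show Commute s c from cc s hs).symm.inv_left
  by_cases e : k * z * k⁻¹ ∈ zpowers z
  · refine ⟨g, ?_, h2⟩
    have := ck _ h1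
    rcases (mem_z3 h.z3).1 e with e | e | e <;> rw [e] at this
    · exact absurd (by simpa using e) h.z1
    · exact this.symm
    · exact (Commute.inv_left_iff.1 this).symm
  · exact ⟨k, ck z hz, e⟩

theorem Fr0.exists_fr {z : G} {l : V6 → G} {r : Fin 3 → G} {R : Subgroup G} (h : Fr0 z l r R)
    (hb : O3 z l ∨ B9 z) : ∃ l' S, Fr z l' r R S ∧ Qs z l' = Qs z l := by
  have : Fact (Nat.Prime 3) := ⟨Nat.prime_three⟩
  obtain ⟨S, hS⟩ := exists_isSylowIn 3 (centralizer {z})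
  obtain ⟨n, d, std⟩ := exists_std h hS.isP fun g hg => mem_centralizer_singleton_iff.1 (hS.le hg)
  refine ⟨_, S, ⟨chg h d, hS.isP, fun T p c => ?_, std, hb.elim (fun o T p c => ?_) id⟩, Qs_chg d⟩
  · obtain ⟨g, hg, e⟩ := hS.exists_cj_le p fun x hx => mem_centralizer_singleton_iff.2 (c x hx)
    exact ⟨g, mem_centralizer_singleton_iff.1 hg, fun x hx => e (cj_mem g hx)⟩
  · refine (hS.card_le p fun x hx => mem_centralizer_singleton_iff.2 (c x hx)).trans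
      (bound (chg h d) (fun N a b c => ?_) std)
    rw [Qs_chg d]
    exact o N a b c

end H7.F3
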