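import Cfsg.Agent.Lib.F3L.TwoB

/-! Fusion of `z` inside the centralizer of `r 0`. -/

set_option autoImplicit false
set_option linter.unusedSectionVars false

namespace H7.F3

namespace Two

open Subgroup H87.Mc Cfsg
open H87.U6 (F3 f3_cases pw_add pw_zero pw_one pw_two pw_neg pw_mul pw_inj mem_zp cj_pw cm_cj)

variable {G : Type*} [Group G] [Finite G]

def nn (u : X3) : F3 := u 0 * u 0 + u 1 * u 1 + u 2 * u 2

/-- the abelian subgroup of order `3 ^ 5` -/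
structure JJ (z : G) (l : V6 → G) (S J : Subgroup G) : Prop where
  le : J ≤ S
  ab : ∀ x ∈ J, ∀ y ∈ J, x * y = y * x
  big : 243 ≤ Nat.card J
  mem : ∀ u k, qq z l (u, 0) k ∈ J

theorem eqns_nn : True := trivial

theorem avg {τ : Fin 3 → V6 → V6} {lam : V6 → F3} (ad : ∀ j u v, τ j (u + v) = τ j u + τ j v)
    (inv : ∀ j v, τ j (τ j v) = v) (cm : ∀ i j v, τ i (τ j v) = τ j (τ i v)) (la : ∀ u v, lam (u + v) = lam u + lam v)
    (lt : ∀ j v, lam (τ j v) = lam v) {v : V6} (hv : lam v ≠ 0) : ∃ w, lam w ≠ 0 ∧ ∀ j, τ j w = w := by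
  have k1 : ∀ j v, lam v ≠ 0 → lam (v + τ j v) ≠ 0 := fun j v hv => by
    rw [la, lt]; exact (by decide : ∀ a : F3, a ≠ 0 → a + a ≠ 0) _ hv
  have k2 : ∀ j v, τ j (v + τ j v) = v + τ j v := fun j v => by rw [ad, inv, add_comm]
  have k3 : ∀ i j v, τ i v = v → τ i (v + τ j v) = v + τ j v := fun i j v e => by rw [ad, cm, e]
  refine ⟨_, k1 2 _ (k1 1 _ (k1 0 _ hv)), fun j => ?_⟩
  fin_cases j
  exacts [k3 0 2 _ (k3 0 1 _ (k2 0 v)), k3 1 2 _ (k2 1 _), k2 2 _]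

theorem cnt9 : ∀ e m : F3, e ≠ 0 → m ≠ 0 → (Finset.univ.filter fun u : X3 => ∀ i, u i ≠ 0).card <
    (Finset.univ.filter fun u : X3 => u ≠ 0 ∧ (nn u = 0 ∨ 0 - e * nn u = m)).card := by decide +kernel

theorem Ym_ne : Ym 1 ((0, 1) : V6) ≠ id (0, 1) := by decide

theorem signs : ∀ a b k : F3, a ≠ 0 → b ≠ 0 → k ≠ 0 → a = k ∨ b = k ∨ a + b = k := by decide

theorem supp : ∀ (i : Fin 3) (u : X3), (∀ j, j ≠ i → sg j * u = u) → u ≠ 0 →
    sg i * u = -u ∧ (u = Pi.single i 1 ∨ u = -Pi.single i 1) := by decide +kernel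

section

variable {z : G} {l : V6 → G} {r : Fin 3 → G} {R S : Subgroup G} (h : Fs z l r R S)
include h

theorem cjY {t x : G} {e : F3} (e0 : e ≠ 0) (a : Ex z l t x (Ym fun _ => e)) (u : X3) (m : F3) :
    l (0, e • u) * (qq z l (u, 0) m * x) * (l (0, e • u))⁻¹ = z ^ (m - e * nn u).val * x := by
  have ee : e * e = 1 := (by decide : ∀ e : F3, e ≠ 0 → e * e = 1) e e0
  have := a.act (-(0, e • u))
  rw [mul_inv_eq_iff_eq_mul] at this
  rw [← h.linv, mul_assoc, mul_assoc, this, ← q0 z l, ← q0 z l (Ym _ _), ← mul_assoc, ← mul_assoc, h.qmul, h.qmul,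
    ← h.qz]
  congr 2
  · ext i <;> simp [Ym, ← mul_assoc, ee]
  · simp only [b6_eq, Ym, nn, Prod.fst_add, Prod.snd_add, Prod.fst_neg, Prod.snd_neg, Pi.add_apply, Pi.mul_apply,
      Pi.neg_apply, Pi.smul_apply, Pi.zero_apply, smul_eq_mul]
    linear_combination (e * (u 0 * u 0 + u 1 * u 1 + u 2 * u 2)) * ee

theorem ex_pw {t x : G} {e : F3} (a : Ex z l t x (Ym fun _ => e)) (k : F3) :
    Ex z l t (x ^ k.val) (Ym fun _ => k * e) := (a.pow _).congr fun v => by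
  rcases f3_cases k with rfl | rfl | rfl
  · simp [Ym, Prod.ext_iff, funext_iff]
  · rw [one_mul]; rfl
  · rw [two_mul]; exact Ym_Ym _ _ v

theorem exJ {t c : G} (a : Ex z l t c (Ym 1)) (hc : c ∈ S) : JJ z l S (h.pre AA ⊔ zpowers c) := by
  have cA : ∀ x ∈ h.pre AA, c * x = x * c := by
    rintro _ ⟨v, hv, k, rfl⟩
    rw [cm_cj, a.q, show Ym 1 v = v from Prod.ext (by simp [Ym, mem_AA.1 hv]) rfl]
  have AA' : ∀ x ∈ h.pre AA, ∀ y ∈ h.pre AA, x * y = y * x := by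
    rintro _ ⟨u, hu, k, rfl⟩ _ ⟨v, hv, m, rfl⟩
    exact (h.qcm _ _).2 (b6_AA (mem_AA.1 hu) (mem_AA.1 hv))
  have le : h.pre AA ⊔ zpowers c ≤ S := sup_le ((h.pre_le _).trans h.QS) (zpowers_le.2 hc)
  have k1 : ∀ y, (∀ x ∈ h.pre AA, x * y = y * x) → c * y = y * c → ∀ x ∈ h.pre AA ⊔ zpowers c, x * y = y * x :=
    fun y e1 e2 x hx => mem_centralizer_singleton_iff.1 ((sup_le (fun x hx => mem_centralizer_singleton_iff.2 (e1 x hx))
      (zpowers_le.2 (mem_centralizer_singleton_iff.2 e2)) : _ ≤ centralizer {y}) hx)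
  refine ⟨le, fun x hx y hy => k1 y (fun a ha => (k1 a (fun b hb => AA' b hb a ha) (cA a ha) y hy).symm)
    (k1 c (fun b hb => (cA b hb).symm) rfl y hy).symm x hx, ?_, fun u k => mem_sup_left (h.q_mem_pre.2 (mem_AA.2 rfl))⟩
  have : Fact (Nat.Prime 3) := ⟨Nat.prime_three⟩
  obtain ⟨n, hn⟩ := (h.pS.to_le le).exists_card_eq
  have k2 : Nat.card (h.pre AA) < Nat.card (h.pre AA ⊔ zpowers c : Subgroup G) :=
    lt_of_le_of_ne (card_le_of_le le_sup_left) fun e => by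
      have := h.ac_uniq a.ac (h.ac_Q (h.pre_le _ (eq_of_card le_sup_left e.ge ▸ mem_sup_right (mem_zpowers c)))) (0, 1)
      exact Ym_ne this
  rw [h.card_pre, card_AA, hn, show 3 * 27 = 3 ^ 4 from rfl, Nat.pow_lt_pow_iff_right (by norm_num)] at k2
  exact hn ▸ Nat.pow_le_pow_right (n := 3) (by norm_num) k2

variable {J : Subgroup G} (j : JJ z l S J)
include j

theorem JJ.zJ : z ∈ J := h.q01 ▸ j.mem 0 1
theorem JJ.pg : IsPGroup 3 J := h.pS.to_le j.le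
theorem JJ.inQ {x : G} (hx : x ∈ J) (hq : x ∈ Qs z l) : ∃ u k, x = qq z l (u, 0) k := by
  obtain ⟨v, k, rfl⟩ := h.memQ.1 hq
  have := mem_AA.1 ((h.abJ j.le (j.zJ h) j.ab j.big).2.le ⟨k, hx⟩)
  exact ⟨v.1, k, by rw [← this]⟩

/-- a conjugate of `z` in `J` outside `Q` -/
theorem out {y σ : G} {l' : V6 → G} {r' : Fin 3 → G} {R' S' : Subgroup G} (h' : Fs y l' r' R' S') (hJ : J ≤ S')
    {a k : F3} (a0 : a ≠ 0) (e : y = qq z l (fun _ => a, 0) k) (σQ : σ ∈ Qs y l') {c : X3}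
    (aσ : Ac z l σ fun v => Ym c (pm ro v)) : ∃ x ∈ J, IsConj y x ∧ x ∉ Qs z l := by
  have j' : JJ y l' S' J := ⟨hJ, j.ab, j.big, fun u k => ((h'.pre_bar (e ▸ j.mem _ _)).le
    (h'.q_mem_pre.2 ((h'.abJ hJ (e ▸ j.mem _ _) j.ab j.big).2 ▸ mem_AA.2 rfl))).1⟩
  have e2 : r 0 * y * (r 0)⁻¹ = qq z l (sg 0 * fun _ => a, 0) k := by rw [e, h.rq]; simp [ng]
  have yJ : r 0 * y * (r 0)⁻¹ ∈ J := e2 ▸ j.mem _ _
  have nq : r 0 * y * (r 0)⁻¹ ∉ Qs y l' := fun hq => by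
    have := h'.comm_zp σQ hq
    obtain ⟨n, hn⟩ := h.ac_q' aσ (sg 0 * fun _ => a, 0)
    rw [e2, hn, h.qinv, h.qmul] at this
    have key : ∀ a : F3, a ≠ 0 → ∀ b : F3, ((sg 0 * fun _ => a) ∘ ro + -(sg 0 * fun _ => a) : X3) ≠ b • fun _ => a := by
      decide
    rcases (mem_z3 h'.z3).1 this with e1 | e1 | e1
    · exact key a a0 0 (by simpa [Ym, pm] using (congrArg Prod.fst (h.q_one e1).1 :))
    · exact key a a0 1 (by simpa [Ym, pm] using congrArg Prod.fst (h.q_inj (e1.trans e)).1)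
    · rw [e, h.qinv] at e1
      exact key a a0 (-1) (by simpa [Ym, pm] using congrArg Prod.fst (h.q_inj e1).1)
  obtain ⟨η, b⟩ := (h'.abJ hJ (j'.zJ h') j.ab j.big).1 _ yJ
  have η0 : η ≠ 0 := by rintro rfl; exact nq (Ym_Q h'.toFr b)
  have ηη : η * η = 1 := (by decide : ∀ e : F3, e ≠ 0 → e * e = 1) η η0
  by_contra! hn
  have key : ∀ u k, qq y l' (u, 0) k ∈ Qs z l := fun u k => by
    obtain ⟨n, hn'⟩ := h'.ac_q' b (-(0, -η • u))
    have e3 : ∃ m, l' (0, -η • u) * (r 0 * y * (r 0)⁻¹) * (l' (0, -η • u))⁻¹ =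
        qq y l' (u, 0) m * (r 0 * y * (r 0)⁻¹) := ⟨_, by
      have := hn' 0
      rw [q0, mul_inv_eq_iff_eq_mul] at this
      rw [← h'.linv, mul_assoc, this, ← mul_assoc, ← q0 y l' (0, _), h'.qmul]
      congr 2
      ext i <;> simp [Ym, ← mul_assoc, ηη]⟩
    obtain ⟨m, e3⟩ := e3
    have m1 := hn _ (e3 ▸ mul_mem (j'.mem u m) yJ) ((isConj_iff.2 ⟨_, rfl⟩).trans (isConj_iff.2 ⟨_, rfl⟩))
    rw [e3, mul_mem_cancel_right (e2 ▸ qQ _ _)] at m1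
    have := mul_mem m1 (pow_mem (e ▸ qQ _ _ : y ∈ Qs z l) (k - m).val)
    rwa [← h'.qz, h'.qmul, add_zero, h'.zero_r, zero_add, add_sub_cancel] at this
  have := eq_of_card (A := h'.pre AA) (B := h.pre AA) (by
      rintro _ ⟨v, hv, k, rfl⟩
      have e4 : v = (v.1, 0) := Prod.ext rfl (mem_AA.1 hv)
      obtain ⟨u, m, e5⟩ := j.inQ h (j'.mem v.1 k) (key v.1 k)
      rw [e4, e5]
      exact h.q_mem_pre.2 (mem_AA.2 rfl))
    (by rw [h.card_pre, h'.card_pre])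
  exact nq (h'.pre_le _ (this ▸ e2 ▸ h.q_mem_pre.2 (mem_AA.2 rfl)))

variable {y : G} {l' : V6 → G} {r' : Fin 3 → G} {R' S' : Subgroup G} (h' : Fs y l' r' R' S') (hJ : J ≤ S')
  (yJ : y ∈ J) {e : F3} (e0 : e ≠ 0) (ey : Ex z l (r 0 * r 1 * r 2) y (Ym fun _ => e))
include h' hJ yJ e0 ey

omit j hJ yJ h' in
theorem pw_Q {k : F3} (hq : y ^ k.val ∈ Qs z l) : k = 0 :=
  (by decide : ∀ k e : F3, e ≠ 0 → Ym (fun _ => k * e) (0, 1) = id (0, 1) → k = 0) k e e0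
    (h.ac_uniq (ex_pw h ey k).ac (h.ac_Q hq) (0, 1))

omit j hJ yJ in
theorem zq : z ∉ Qs y l' := fun hz => by
  have := sym h'.toFr h.toFr hz fun hz => by
    obtain ⟨k, e1⟩ := (mem_zp h'.z3).1 hz
    rw [pw_Q h e0 ey (k := k) (e1 ▸ zQ), pw_zero] at e1
    exact h.z1 e1
  exact absurd (pw_Q h e0 ey (k := 1) (by rwa [pw_one])) (by decide)

theorem z_act : ∃ η : F3, η ≠ 0 ∧ Ac y l' z (Ym fun _ => η) := by
  obtain ⟨η, b⟩ := (h'.abJ hJ yJ j.ab j.big).1 _ (j.zJ h)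
  exact ⟨η, by rintro rfl; exact zq h h' e0 ey (Ym_Q h'.toFr b), b⟩

theorem psi : ∃ ψ : X3 → X3, ∃ κ : X3 → F3, (∀ u, l (u, 0) = qq y l' (ψ u, 0) (κ u)) ∧ Function.Bijective ψ := by
  have j' : JJ y l' S' J := ⟨hJ, j.ab, j.big, fun u k => ((h'.pre_bar yJ).le
    (h'.q_mem_pre.2 ((h'.abJ hJ yJ j.ab j.big).2 ▸ mem_AA.2 rfl))).1⟩
  obtain ⟨η, η0, b⟩ := z_act h j h' hJ yJ e0 ey
  have hA : ∀ u, l (u, 0) ∈ Qs y l' := fun u => by
    obtain ⟨k, a⟩ := (h'.abJ hJ yJ j.ab j.big).1 _ (j.mem u 0)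
    have b' : Ac y l' (z ^ (-(k * η)).val) (Ym fun _ => -k) := (h'.ac_pow b _).congr fun v => by
      obtain ⟨n, hn⟩ : ∃ n, n = -(k * η) := ⟨_, rfl⟩
      rw [← hn, show -k = n * η from (by decide : ∀ k η : F3, η ≠ 0 → -k = -(k * η) * η) k η η0 |>.trans (by rw [hn])]
      rcases f3_cases n with rfl | rfl | rfl
      · simp [Ym, Prod.ext_iff, funext_iff]
      · rw [one_mul]; rfl
      · rw [two_mul]; exact Ym_Ym _ _ v
    have m := h'.memQ_of_ac ((h'.ac_mul a b').congr fun v => by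
      rw [Ym_Ym, show ((fun _ => k) + fun _ => -k : X3) = 0 from funext fun _ => add_neg_cancel k, Ym_zero, id])
    rw [q0] at m
    change qq z l _ _ ∈ _ at m
    have e1 := h.bar_uniq (zq h h' e0 ey) (h.qinv _ _ ▸ inv_mem m) (h.tq _ _ ▸ h'.nQ' ey.ct.symm m)
    rwa [(by decide : ∀ k : F3, -k = k → k = 0) _ e1, q0] at m
  choose ψ κ hψ using fun u => j'.inQ h' (q0 z l _ ▸ j.mem u 0) (hA u)
  refine ⟨ψ, κ, hψ, Finite.injective_iff_bijective.1 fun u v e1 => ?_⟩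
  have e2 : l (u, 0) * (l (v, 0))⁻¹ = y ^ (κ u - κ v).val := by
    rw [hψ, hψ, e1, h'.qinv, h'.qmul, add_neg_cancel, h'.neg_r, h'.alt, neg_zero, zero_add, h'.qz, sub_eq_add_neg]
  rw [pw_Q h e0 ey (k := κ u - κ v) (e2 ▸ mul_mem (lQ _) (inv_mem (lQ _))), pw_zero, mul_inv_eq_one] at e2
  exact congrArg Prod.fst (h.l_inj e2)

theorem not_sing (c : IsConj z y) {k m : F3} (k0 : k ≠ 0) (s : IsConj z (z ^ m.val * y ^ k.val)) : m = 0 := by
  by_contra m0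
  obtain ⟨ψ, κ, hψ, bj⟩ := psi h j h' hJ yJ e0 ey
  have ke : k * e ≠ 0 := (by decide : ∀ k e : F3, k ≠ 0 → e ≠ 0 → k * e ≠ 0) k e k0 e0
  refine (cnt9 _ m ke m0).not_ge (Finset.card_le_card_of_injOn ψ (fun u hu => ?_) bj.1.injOn)
  simp only [Finset.coe_filter, Finset.mem_univ, true_and, Set.mem_ofPred_eq] at hu ⊢
  have e1 := cjY h ke (ex_pw h ey k) u 0
  have e2 : qq z l (u, 0) 0 * y ^ k.val = qq y l' (ψ u, 0) (κ u + k) := by rw [q0, hψ, qq, qq, h'.zz, mul_assoc]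
  have ne : ψ u ≠ 0 := fun e3 => hu.1 (bj.1 (e3.trans (congrArg Prod.fst
    (h'.q_one ((hψ 0).symm.trans h.l0)).1).symm))
  have c1 : IsConj (z ^ (0 - k * e * nn u).val * y ^ k.val) (qq y l' (ψ u, 0) (κ u + k)) :=
    (isConj_iff.2 ⟨_, e2 ▸ e1⟩).symm
  have fin : ∀ v n, v ≠ 0 → IsConj y (qq y l' (v, 0) n) → ∀ i, v i ≠ 0 := fun v n v0 c i => by
    obtain ⟨g, e3⟩ := isConj_iff.1 c
    exact (h'.full e3 (fun e4 => v0 (congrArg Prod.fst e4)) i).resolve_right (not_not.2 rfl)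
  rcases hu.2 with e3 | e3
  · rw [e3, mul_zero, sub_zero, pw_zero, one_mul] at c1
    rcases f3_cases k with rfl | rfl | rfl
    · exact absurd rfl k0
    · exact fin _ _ ne (by rwa [pw_one] at c1)
    · rw [pw_two h'.z3] at c1
      obtain ⟨g, e4⟩ := isConj_iff.1 c1
      have := fin (-ψ u) (-(κ u + 2)) (neg_ne_zero.2 ne) (isConj_iff.2 ⟨g, by
        rw [← inv_inv y, ← conj_inv, e4, h'.qinv]; simp⟩)
      exact fun i e5 => this i (by simp [e5])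
  · exact fin _ _ ne (c.symm.trans (s.trans (e3 ▸ c1)))

theorem exists_b (i : Fin 3) : ∃ b ∈ Qs y l', ∃ u, ∃ m : F3, m ≠ 0 ∧ (u = Pi.single i 1 ∨ u = -Pi.single i 1) ∧
    (∀ j, j ≠ i → b * r j = r j * b) ∧ b * z * b⁻¹ = l (u, 0) * y ^ m.val * z := by
  obtain ⟨η, η0, b⟩ := z_act h j h' hJ yJ e0 ey
  obtain ⟨ψ, κ, hψ, bj⟩ := psi h j h' hJ yJ e0 ey
  have yr : ∀ j, r j * y = y * r j := fun j => (h.ex_Ym ey j).symm
  choose ρ aρ using fun j => h'.exists_ac (yr j)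
  choose κ' ad hκ using fun j => h'.ac_kap (aρ j)
  have lin : ∀ j (c : F3) v, ρ j (c • v) = c • ρ j v := fun j c v =>
    ZMod.map_smul (AddMonoidHom.mk' (ρ j) (h'.ac_add (aρ j))) c v
  have ρψ : ∀ j u, ρ j (ψ u, 0) = (ψ (sg j * u), 0) := fun j u => by
    have := (h.er j).act (u, 0)
    rw [hψ, hκ, ng, mul_zero, hψ] at this
    exact (h'.q_inj this).1
  have ψn : ∀ u, ψ (-u) = -ψ u ∧ κ (-u) = -κ u := fun u => by
    have := h.linv (u, 0)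
    rw [Prod.neg_mk, neg_zero, hψ, hψ, h'.qinv] at this
    exact ⟨congrArg Prod.fst (h'.q_inj this).1, (h'.q_inj this).2⟩
  have ρρ : ∀ j v, ρ j (ρ j v) = v := fun j v => h'.ac_uniq (h'.ac_mul (aρ j) (aρ j)) (h.r2 j ▸ h'.ac_one) v
  have ss : ∀ i j, sg i j * sg i j = 1 := by decide
  have ρa : ∀ j, ρ j (ψ (Pi.single i 1), 0) = sg i j • (ψ (Pi.single i 1), 0) := fun j => by
    rw [ρψ]
    by_cases hj : j = i
    · rw [hj, (by decide : ∀ i, sg i * Pi.single i 1 = -Pi.single i 1), (ψn _).1]; simp [sg]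
    · rw [(by decide : ∀ i j, j ≠ i → sg j * Pi.single i 1 = Pi.single i 1) i j hj]; simp [sg, hj]
  have bs : ∀ (c : F3) u v, b6 u (c • v) = c * b6 u v ∧ b6 (c • u) v = c * b6 u v := fun c u v => by
    simp only [b6_eq, Prod.smul_fst, Prod.smul_snd, Pi.smul_apply, smul_eq_mul]; constructor <;> ring
  obtain ⟨v0, hv0⟩ : ∃ v, b6 (ψ (Pi.single i 1), 0) v ≠ 0 := by
    by_contra! hn
    exact (by decide : ∀ i, (Pi.single i 1 : X3) ≠ 0) i (bj.1 ((congrArg Prod.fst (h'.nd _ hn)).trans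
      (congrArg Prod.fst (h'.q_one ((hψ 0).symm.trans h.l0)).1).symm))
  obtain ⟨v, hv, fx⟩ := avg (τ := fun j v => sg i j • ρ j v) (lam := b6 (ψ (Pi.single i 1), 0))
    (fun j u v => by rw [h'.ac_add (aρ j), smul_add]) (fun j v => by rw [lin, ρρ, smul_smul, ss, one_smul])
    (fun j j' v => by
      rw [lin, lin, smul_comm, h'.ac_uniq (h'.ac_mul (aρ j) (aρ j')) (h.rc j j' ▸ h'.ac_mul (aρ j') (aρ j)) v])
    (h'.add_r _) (fun j v => by rw [(bs _ _ _).1, ← (bs _ _ _).2, ← ρa, h'.ac_be (aρ j)]) hv0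
  have f1 : ρ i v = -v := by simpa [sg, neg_eq_iff_eq_neg] using fx i
  have f2 : ∀ j, j ≠ i → ρ j v = v := fun j hj => by simpa [sg, hj] using fx j
  have tw : ∀ k : F3, k + k = -k := by decide
  have i1 : r i * qq y l' v (κ' i v) * (r i)⁻¹ = (qq y l' v (κ' i v))⁻¹ := by rw [hκ, f1, tw, h'.qinv]
  have i2 : ∀ j, j ≠ i → r j * qq y l' v (κ' i v) * (r j)⁻¹ = qq y l' v (κ' i v) := fun j hj => by
    have e1 : r i * (r j * qq y l' v (κ' i v) * (r j)⁻¹) * (r i)⁻¹ = (r j * qq y l' v (κ' i v) * (r j)⁻¹)⁻¹ := by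
      rw [conj_inv, ← i1]
      calc _ = r i * r j * qq y l' v (κ' i v) * (r i * r j)⁻¹ := by group
        _ = _ := by rw [h.rc i j]; group
    rw [hκ j, f2 j hj] at e1 ⊢
    rw [hκ, h'.qinv] at e1
    rw [(by decide : ∀ a b : F3, a + b = -b → b = a) _ _ (h'.q_inj e1).2]
  set B := qq y l' v (κ' i v) with hB
  obtain ⟨u, hu⟩ := bj.2 (-η • v.2)
  obtain ⟨n, hn⟩ := h'.ac_q' b (-v)
  obtain ⟨m, c⟩ : ∃ m, B * z * B⁻¹ = qq y l' (ψ u, 0) (κ u + m) * z := ⟨_, by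
    have := hn (-κ' i v)
    rw [mul_inv_eq_iff_eq_mul] at this
    rw [hB, h'.qinv, mul_assoc, this, ← mul_assoc, h'.qmul, add_sub_cancel, hu]
    congr 2
    ext i <;> simp [Ym]⟩
  have lq : ∀ u, l (u, 0) * y ^ m.val = qq y l' (ψ u, 0) (κ u + m) := fun u => by rw [hψ, qq, qq, h'.zz, mul_assoc]
  have cr : ∀ j, r j * (B * z * B⁻¹) * (r j)⁻¹ = l (sg j * u, 0) * y ^ m.val * z := fun j => by
    rw [c, ← lq, ← conj_mul, ← conj_mul, (h.er j).act, cjz (yr j), cm_cj.1 (h.rz j), ng, mul_zero]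
  have u0 : u ≠ 0 := fun e1 => hv (b6_AA rfl (by
    rw [e1, show ψ 0 = 0 from congrArg Prod.fst (h'.q_one ((hψ 0).symm.trans h.l0)).1] at hu
    funext k
    exact (by decide : ∀ a b : F3, a ≠ 0 → 0 = -a * b → b = 0) _ _ η0 (congrFun hu k)))
  obtain ⟨s1, s2⟩ := supp i u (fun j hj => by
    have := cr j
    rw [← conj_mul, ← conj_mul, ← conj_inv, i2 j hj, cm_cj.1 (h.rz j), c, ← lq, mul_left_inj, mul_left_inj] at this
    exact (congrArg Prod.fst (h.l_inj this)).symm) u0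
  refine ⟨B, qQ _ _, u, m, fun m0 => hv ?_, s2, fun j hj => (cm_cj.2 (i2 j hj)).symm, by rw [c, lq]⟩
  have e1 := cr i
  rw [← conj_mul, ← conj_mul, ← conj_inv, i1, cm_cj.1 (h.rz i), s1, lq, inv_inv, (ψn u).1, (ψn u).2] at e1
  have e2 : B * qq y l' (-ψ u, 0) (-κ u + m) * B⁻¹ * qq y l' (ψ u, 0) (κ u + m) = 1 := by
    calc _ = B * (qq y l' (-ψ u, 0) (-κ u + m) * z) * B⁻¹ * (B * z⁻¹ * B⁻¹) * (qq y l' (ψ u, 0) (κ u + m) * z) * z⁻¹ := by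
          group
      _ = 1 := by rw [← e1, ← c]; group
  rw [hB, h'.qcj, h'.qmul, m0] at e2
  have e3 := (h'.q_one e2).2
  rw [b6_AA rfl rfl, show ((-ψ u, 0) : V6) = -(ψ u, 0) by simp, h'.neg_r, h'.skew] at e3
  have e4 : b6 (ψ u, 0) v = 0 := by linear_combination -e3
  rcases s2 with rfl | rfl
  · exact e4
  · rwa [(ψn _).1, show ((-ψ (Pi.single i 1), 0) : V6) = -(ψ (Pi.single i 1), 0) by simp, h'.neg_l, neg_eq_zero] at e4

theorem fuse (c : IsConj z y) {k : F3} (k0 : k ≠ 0) : ∃ b ∈ K3 (r 0), b * z * b⁻¹ = y ^ k.val := by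
  have fin : ∀ u : X3, u 0 = 0 → ∀ b ∈ K3 (r 0), b * z * b⁻¹ = l (u, 0) * y ^ k.val * z →
      ∃ b ∈ K3 (r 0), b * z * b⁻¹ = y ^ k.val := fun u u0 b hb e1 => by
    have ke : k * e ≠ 0 := (by decide : ∀ k e : F3, k ≠ 0 → e ≠ 0 → k * e ≠ 0) k e k0 e0
    have e2 := cjY h ke (ex_pw h ey k) u 1
    rw [qq, pw_one, mul_assoc (l _) z, ← (ex_pw h ey k).cz, ← mul_assoc (l (u, 0)), ← e1] at e2
    have e3 : l (0, (k * e) • u) * b * z * (l (0, (k * e) • u) * b)⁻¹ =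
        z ^ (1 - k * e * nn u).val * y ^ k.val := by rw [← e2]; group
    rw [not_sing h j h' hJ yJ e0 ey c k0 (isConj_iff.2 ⟨_, e3⟩), pw_zero, one_mul] at e3
    refine ⟨_, mul_mem (subset_closure ⟨(cm_cj.2 ?_).symm, h.lcube _⟩) hb, e3⟩
    rw [(h.er 0).act]
    congr 1
    ext i <;> fin_cases i <;> simp [ng, sg, u0]
  obtain ⟨b1, q1, u1, m1, n1, s1, c1, e1⟩ := exists_b h j h' hJ yJ e0 ey 1
  obtain ⟨b2, q2, u2, m2, n2, s2, c2, e2⟩ := exists_b h j h' hJ yJ e0 ey 2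
  have k1 : b1 ∈ K3 (r 0) := subset_closure ⟨c1 0 (by decide), h'.Q3 q1⟩
  have k2 : b2 ∈ K3 (r 0) := subset_closure ⟨c2 0 (by decide), h'.Q3 q2⟩
  have z1 : u1 0 = 0 := by rcases s1 with rfl | rfl <;> rfl
  have z2 : u2 0 = 0 := by rcases s2 with rfl | rfl <;> rfl
  rcases signs m1 m2 k n1 n2 k0 with rfl | rfl | rfl
  · exact fin u1 z1 b1 k1 e1
  · exact fin u2 z2 b2 k2 e2
  refine fin (u2 + u1) (by simp [z1, z2]) (b1 * b2) (mul_mem k1 k2) ?_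
  obtain ⟨ψ, κ, hψ, -⟩ := psi h j h' hJ yJ e0 ey
  have lQ' : l (u2, 0) ∈ Qs y l' := hψ u2 ▸ qQ _ _
  have c3 : b1 * l (u2, 0) * b1⁻¹ = l (u2, 0) := by
    have e4 : r 2 * l (u2, 0) * (r 2)⁻¹ = (l (u2, 0))⁻¹ := by
      rw [(h.er 2).act, ← h.linv]; rcases s2 with rfl | rfl <;> exact congrArg l (by decide)
    obtain ⟨v, n, rfl⟩ := h'.memQ.1 q1
    have e5 := congrArg (fun x => r 2 * x * (r 2)⁻¹) (h'.qcj v (ψ u2, 0) n (κ u2))
    have e6 : qq y l' (ψ u2, 0) (κ u2 - b6 v (ψ u2, 0)) = l (u2, 0) * y ^ (-b6 v (ψ u2, 0)).val := by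
      rw [hψ, qq, qq, sub_eq_add_neg, h'.zz, mul_assoc]
    simp only [e6, ← hψ] at e5
    rw [← conj_mul, ← conj_mul, ← conj_mul, ← conj_inv, e4, cm_cj.1 (c1 2 (by decide)).symm,
      cjz (h.ex_Ym ey 2).symm, hψ, h'.qinv (ψ u2, 0), h'.qcj, ← h'.qz, h'.qmul, h'.neg_r, h'.zero_r] at e5
    have e7 := (h'.q_inj e5).2
    rw [hψ, h'.qcj, (by decide : ∀ a b : F3, -a - -b = 0 + -a + -b → b = 0) _ _ e7, sub_zero]
  have cy : ∀ n : ℕ, y ^ n * l (u1, 0) = l (u1, 0) * y ^ n := fun n =>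
    j.ab _ (pow_mem yJ n) _ (q0 z l _ ▸ j.mem u1 0)
  calc _ = b1 * (b2 * z * b2⁻¹) * b1⁻¹ := by group
    _ = l (u2, 0) * (y ^ m2.val * l (u1, 0)) * y ^ m1.val * z := by
      rw [e2, ← conj_mul, ← conj_mul, c3, cjz (h'.QH q1), e1]; group
    _ = _ := by
      rw [cy, ← mul_assoc, h.lmul, b6_AA rfl rfl, pw_zero, mul_one, add_comm m1, h'.zz, Prod.mk_add_mk, add_zero]
      simp only [mul_assoc]

end

end Two

open Subgroup Two
open H87.U6 (F3 f3_cases pw_one pw_two pw_zero cm_cj)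

theorem Fr.two {G : Type*} [Group G] [Finite G] {z : G} {l : V6 → G} {r : Fin 3 → G} {R S : Subgroup G}
    (h : Fr z l r R S) {g : G} (h1 : g * z * g⁻¹ ∈ Qs z l) (h2 : g * z * g⁻¹ ∉ zpowers z) :
    ∃ l' r' R' y, St z l' r' R' y ∧ Qs z l' ⊔ R' = Qs z l ⊔ R := by
  have F0 := h.map (MulAut.conj g)
  rw [MulAut.conj_apply] at F0
  obtain ⟨l, r, R, S, F, le, e1, e2⟩ := h.adapt
    (T := Qs (g * z * g⁻¹) (fun v => MulAut.conj g (l v)) ⊓ centralizer {z}) F0.pgQ.to_inf_left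
    fun x hx => mem_centralizer_singleton_iff.1 hx.2
  rw [← e1] at h1
  obtain ⟨⟨σ, σQ, c, aσ⟩, ⟨δ, δQ, aδ⟩, a, k, a0, e3⟩ := step2 F F0 h1 h2 le
  have h : Fs z l r R S := ⟨F, σ, le ⟨σQ, mem_centralizer_singleton_iff.2 aσ.1⟩, c, aσ⟩
  obtain ⟨n, nQ, ec⟩ := h.exists_ex aδ
  have j := exJ h ec (mul_mem (h.QS nQ) (le ⟨δQ, mem_centralizer_singleton_iff.2 aδ.1⟩))
  have cJ : n * δ ∈ h.pre AA ⊔ zpowers (n * δ) := mem_sup_right (mem_zpowers _)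
  generalize h.pre AA ⊔ zpowers (n * δ) = J at j cJ
  generalize n * δ = c0 at ec cJ
  have fr : ∀ g, g * z * g⁻¹ ∈ J → ∃ l' r' R' S', Fs (g * z * g⁻¹) l' r' R' S' ∧ J ≤ S' ∧
      ∀ x, MulAut.conj g x ∈ Qs (g * z * g⁻¹) l' ↔ x ∈ Qs z l := fun g m => by
    obtain ⟨l', r', R', S', F', le', e4, -⟩ := (h.map (MulAut.conj g)).adapt (j.pg h) fun x hx => j.ab x hx _ m
    refine ⟨l', r', R', S', F', le', fun x => ?_⟩
    rw [MulAut.conj_apply g z] at e4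
    rw [e4]
    exact mem_Qs_map (MulAut.conj g)
  obtain ⟨l', r', R', S', F', le', e4⟩ := fr g (by rw [e3]; exact j.mem _ _)
  obtain ⟨x, xJ, c1, xQ⟩ := out h j F' le' a0 e3 (σ := σ) (by
    obtain ⟨σ, rfl⟩ := (MulAut.conj g).surjective σ
    rw [e4, e1]
    exact (mem_Qs_map (MulAut.conj g)).1 σQ) aσ
  obtain ⟨e, ax⟩ := (h.abJ j.le (j.zJ h) j.ab j.big).1 x xJ
  have e0 : e ≠ 0 := by rintro rfl; exact xQ (Ym_Q F ax)
  have ec' : Ex z l (r 0 * r 1 * r 2) (c0 ^ e.val) (Ym fun _ => e) := by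
    simpa only [mul_one] using ex_pw h (e := 1) ec e
  obtain ⟨u, m, e5⟩ := j.inQ h (mul_mem xJ (inv_mem (pow_mem cJ _))) (h.div_memQ' ec'.ac ax)
  have e6 := cjY h e0 ec' u m
  rw [← e5, inv_mul_cancel_right] at e6
  have c2 : IsConj z (z ^ (m - e * nn u).val * c0 ^ e.val) :=
    ((isConj_iff.2 ⟨g, rfl⟩).trans c1).trans (isConj_iff.2 ⟨_, e6⟩)
  have ey := (h.ex_z (m - e * nn u).val).mul ec'
  have yJ := mul_mem (pow_mem (j.zJ h) (m - e * nn u).val) (pow_mem cJ e.val)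
  generalize z ^ (m - e * nn u).val * c0 ^ e.val = y at c2 ey yJ
  obtain ⟨g', rfl⟩ := isConj_iff.1 c2
  obtain ⟨l', r', R', S', F', le', -⟩ := fr g' yJ
  have ee : e * e = 1 := (by decide : ∀ e : F3, e ≠ 0 → e * e = 1) e e0
  have ey' : Ex z l (r 0 * r 1 * r 2) ((g' * z * g'⁻¹) ^ e.val) (Ym 1) := by
    have := ex_pw h ey e
    rwa [ee] at this
  refine ⟨l, r, R, _, ⟨h.toFr0, by rw [← pow_mul, mul_comm, pow_mul, F'.z3, one_pow], ey', h.dg ey'.ac,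
    ⟨σ, c, aσ⟩, fun _ _ _ => h.full, fuse h j F' le' yJ e0 ey c2 e0, ?_⟩, e2⟩
  rw [← H87.U6.pw_neg F'.z3]
  exact fuse h j F' le' yJ e0 ey c2 (neg_ne_zero.2 e0)

end H7.F3
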