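import Cfsg.Agent.Lib.F3L.U6R
import Cfsg.Agent.Lib.U63.MainU
import Cfsg.Agent.Lib.Comp.FStar

/-! The centralizer of `r 0` contains a normal double cover of `U₆(2)`. -/

set_option autoImplicit false
set_option linter.unusedSectionVars false

namespace H7.F3

open Subgroup H87.Mc Cfsg
open H87.U6 (F3 f3_cases pw_add pw_zero pw_one pw_two pw_neg pw_mul pw_inj mem_zp cj_pw cm_cj)

variable {G : Type*} [Group G]

namespace U6x

/-- the last two planes -/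
def em (x : H87.U6.V) : V6 := (![0, x.1, x.2.2.1], ![0, x.2.1, x.2.2.2])

theorem em_add (u v : H87.U6.V) : em (u + v) = em u + em v := by ext i <;> fin_cases i <;> simp [em]
theorem em_neg (u : H87.U6.V) : em (-u) = ng 1 (ng 2 (em u)) := by ext i <;> fin_cases i <;> simp [em, ng, sg]
theorem b6_em (u v : H87.U6.V) : b6 (em u) (em v) = H87.U6.be u v := by simp [b6_eq, em, H87.U6.be]
theorem ng_em (u : H87.U6.V) : ng 0 (em u) = em u := by ext i <;> fin_cases i <;> simp [em, ng, sg]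

theorem em_zero {u : H87.U6.V} (e : em u = 0) : u = 0 := by
  have a := congrFun (congrArg Prod.fst e)
  have b := congrFun (congrArg Prod.snd e)
  exact Prod.ext (a 1) (Prod.ext (b 1) (Prod.ext (a 2) (b 2)))

theorem exists_em {w : V6} (e : ng 0 w = w) : ∃ u, w = em u := by
  have a := congrFun (congrArg Prod.fst e) 0
  have b := congrFun (congrArg Prod.snd e) 0
  simp only [ng, sg, Pi.mul_apply, if_true] at a b
  have k : ∀ x : F3, -1 * x = x → x = 0 := by decide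
  refine ⟨(w.1 1, w.2 1, w.1 2, w.2 2), ?_⟩
  ext i <;> fin_cases i <;> simp [em, k _ a, k _ b]

theorem ap_em {m n : Mx} (e : ∀ i, i ≠ 0 → n.a i = m.a i ∧ n.b i = m.b i ∧ n.c i = m.c i ∧ n.d i = m.d i)
    (u : H87.U6.V) : n.ap (em u) = m.ap (em u) := by
  ext i <;> fin_cases i <;> simp [em, Mx.ap, e]

theorem be_nd : ∀ w : H87.U6.V, (∀ v, H87.U6.be w v = 0) → w = 0 := fun w hw => by
  have a := hw (1, 0, 0, 0)
  have b := hw (0, 1, 0, 0)
  have c := hw (0, 0, 1, 0)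
  have d := hw (0, 0, 0, 1)
  simp [H87.U6.be] at a b c d
  exact Prod.ext b (Prod.ext a (Prod.ext d c))

/-- the centralizer of `d` -/
abbrev Kc (d : G) : Subgroup G := centralizer {d}

instance nrm (d : G) : ((zpowers d).subgroupOf (Kc d)).Normal := ⟨fun n hn g => by
  obtain ⟨k, e⟩ := mem_subgroupOf.1 hn
  have c : Commute (g : G) n := e ▸ (show Commute (g : G) d from mem_centralizer_singleton_iff.1 g.2).zpow_right k
  rw [mem_subgroupOf, coe_mul, coe_mul, coe_inv, c.eq, mul_inv_cancel_right]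
  exact hn⟩

/-- the centralizer of `d` modulo `d` -/
abbrev Kb (d : G) := Kc d ⧸ (zpowers d).subgroupOf (Kc d)

/-- the projection -/
def pj {d : G} (g : G) (c : g * d = d * g) : Kb d := QuotientGroup.mk ⟨g, mem_centralizer_singleton_iff.2 c⟩

theorem cmul {d g g' : G} (c : g * d = d * g) (c' : g' * d = d * g') : g * g' * d = d * (g * g') :=
  ((show Commute g d from c).mul_left c').eq
theorem cinv {d g : G} (c : g * d = d * g) : g⁻¹ * d = d * g⁻¹ := (show Commute g d from c).inv_left.eq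
theorem cpow {d g : G} (c : g * d = d * g) (n : ℕ) : g ^ n * d = d * g ^ n := ((show Commute g d from c).pow_left n).eq

theorem pj_mul {d g g' : G} (c : g * d = d * g) (c' : g' * d = d * g') :
    pj g c * pj g' c' = pj (g * g') (cmul c c') := rfl
theorem pj_inv {d g : G} (c : g * d = d * g) : (pj g c)⁻¹ = pj g⁻¹ (cinv c) := rfl
theorem pj_pow {d g : G} (c : g * d = d * g) (n : ℕ) : pj g c ^ n = pj (g ^ n) (cpow c n) := by
  rw [pj, pj, ← QuotientGroup.mk_pow]; rfl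
theorem pj_one (d : G) : (1 : Kb d) = pj 1 (by simp) := rfl
theorem pj_sur {d : G} (x : Kb d) : ∃ g c, x = pj g c := by
  obtain ⟨⟨g, c⟩, rfl⟩ := QuotientGroup.mk_surjective x
  exact ⟨g, mem_centralizer_singleton_iff.1 c, rfl⟩
theorem pj_congr {d g g' : G} {c : g * d = d * g} {c' : g' * d = d * g'} (e : g = g') : pj g c = pj g' c' := by
  subst e; rfl
theorem pj_1 {d g : G} {c : g * d = d * g} (e : g = 1) : pj g c = 1 := by subst e; rfl
theorem pj_eq {d g g' : G} {c : g * d = d * g} {c' : g' * d = d * g'} : pj g c = pj g' c' ↔ g⁻¹ * g' ∈ zpowers d :=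
  QuotientGroup.eq

theorem mem_z2 {d g : G} (d2 : d * d = 1) (hg : g ∈ zpowers d) : g = 1 ∨ g = d := by
  obtain ⟨k, rfl⟩ := hg
  have e : d ^ (2 : ℤ) = 1 := by rw [zpow_two, d2]
  rcases Int.even_or_odd' k with ⟨j, rfl | rfl⟩
  · left; simp only [zpow_mul, e, one_zpow]
  · right; simp only [zpow_add, zpow_mul, e, one_zpow, one_mul, zpow_one]

/-- elements of order three are determined by their images -/
theorem eq3 {d g g' : G} (d2 : d * d = 1) {c : g * d = d * g} {c' : g' * d = d * g'} (e : pj g c = pj g' c')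
    (g3 : g ^ 3 = 1) (g3' : g' ^ 3 = 1) : g = g' := by
  rcases mem_z2 d2 (pj_eq.1 e) with e | e
  · exact inv_mul_eq_one.1 e
  · obtain rfl : g' = g * d := by rw [← e]; simp
    rw [(show Commute g d from c).mul_pow, g3, one_mul, pow_succ, pow_two, d2, one_mul] at g3'
    rw [g3', mul_one]

variable {z : G} {l : V6 → G} {r : Fin 3 → G} {R : Subgroup G}

theorem zc (h : Fr0 z l r R) : z * r 0 = r 0 * z := (h.rz 0).symm
theorem lc (h : Fr0 z l r R) (u : H87.U6.V) : l (em u) * r 0 = r 0 * l (em u) :=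
  (cm_cj.2 (((h.er 0).act _).trans (by rw [ng_em]))).symm
theorem tc (h : Fr0 z l r R) : r 1 * r 2 * r 0 = r 0 * (r 1 * r 2) := cmul (h.rc 1 0) (h.rc 2 0)

/-- the image of `z` -/
def zb (h : Fr0 z l r R) : Kb (r 0) := pj z (zc h)
/-- the images of the coordinates -/
def lb (h : Fr0 z l r R) (u : H87.U6.V) : Kb (r 0) := pj (l (em u)) (lc h u)
/-- the image of `r 1 * r 2` -/
def tb (h : Fr0 z l r R) : Kb (r 0) := pj (r 1 * r 2) (tc h)

theorem cj3 {g x : G} (e : x ^ 3 = 1) : (g * x * g⁻¹) ^ 3 = 1 := by rw [conj_pow, e]; simp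

theorem lift_z (h : Fr0 z l r R) {g : G} {c : g * r 0 = r 0 * g} (e : pj g c * zb h = zb h * pj g c) :
    g * z = z * g := by
  rw [cm_cj, zb, pj_mul, pj_inv, pj_mul] at e
  exact cm_cj.2 (eq3 (h.r2 0) e (cj3 h.z3) h.z3)

theorem q_em (h : Fr0 z l r R) {w : V6} {k : F3} (c : qq z l w k * r 0 = r 0 * qq z l w k) : ∃ u, w = em u :=
  exists_em (h.q_inj ((h.rq 0 w k).symm.trans (cm_cj.1 c.symm))).1

theorem pj_q (h : Fr0 z l r R) (u : H87.U6.V) (k : F3) (c : qq z l (em u) k * r 0 = r 0 * qq z l (em u) k) :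
    pj (qq z l (em u) k) c = lb h u * zb h ^ k.val := by rw [zb, lb, pj_pow, pj_mul]; rfl

theorem pj_Q (h : Fr0 z l r R) {g : G} (hg : g ∈ Qs z l) (c : g * r 0 = r 0 * g) :
    pj g c ∈ H87.U6.Qs (zb h) (lb h) := by
  obtain ⟨w, k, rfl⟩ := h.memQ.1 hg
  obtain ⟨u, rfl⟩ := q_em h c
  rw [pj_q h]
  have z1 : zb h ∈ H87.U6.Qs (zb h) (lb h) := Subgroup.subset_closure (Or.inl rfl)
  exact mul_mem (Subgroup.subset_closure (Or.inr ⟨u, rfl⟩)) (pow_mem z1 _)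

variable {y : G}

theorem cQ' (h : St z l r R y) {g : G} (c : g * r 0 = r 0 * g) (gz : g * z = z * g)
    (e : ∀ u, g * l (em u) * g⁻¹ = l (em u)) : pj g c ∈ zpowers (zb h.toFr0) := by
  have h0 := h.toFr0
  have inQ : ∀ g (c : g * r 0 = r 0 * g), g ∈ Qs z l → (∀ u, g * l (em u) * g⁻¹ = l (em u)) →
      pj g c ∈ zpowers (zb h0) := fun g c hg e => by
    obtain ⟨w, k, rfl⟩ := h.memQ.1 hg
    obtain ⟨u, rfl⟩ := q_em h0 c
    obtain rfl : u = 0 := be_nd u fun v => by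
      rw [← b6_em]
      exact (h.qcm k 0).1 (by rw [q0]; exact cm_cj.2 (e v))
    rw [pj_q h0, lb, pj_1 (by rw [← h.l0]; congr 1; decide), one_mul]
    exact pow_mem (mem_zpowers _) _
  obtain ⟨π, m, d, a⟩ := h.mon g gz
  have fx : ∀ u, m.ap (pm π (em u)) = em u := fun u => by
    obtain ⟨k, hk⟩ := a.2 (em u)
    exact (h.q_inj (hk.symm.trans ((e u).trans (q0 z l _).symm))).1
  obtain rfl : π = 1 := by
    have a1 := congrFun (congrArg Prod.fst (fx (1, 0, 0, 0))) 1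
    have a2 := congrFun (congrArg Prod.fst (fx (0, 0, 1, 0))) 2
    simp only [Mx.ap, pm, em, Pi.add_apply, Pi.mul_apply, Function.comp] at a1 a2
    refine (by decide : ∀ π : Equiv.Perm (Fin 3), π 1 = 1 → π 2 = 2 → π = 1) π ?_ ?_
    · generalize π 1 = i at a1; fin_cases i <;> simp_all
    · generalize π 2 = i at a2; fin_cases i <;> simp_all
  replace a : Ac z l g m.ap := a
  have b1 := fx (1, 0, 0, 0)
  have b2 := fx (0, 1, 0, 0)
  have b3 := fx (0, 0, 1, 0)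
  have b4 := fx (0, 0, 0, 1)
  simp only [pm_one, Mx.ap, em, Prod.mk.injEq] at b1 b2 b3 b4
  have m1 : m.a 1 = 1 ∧ m.b 1 = 0 ∧ m.c 1 = 0 ∧ m.d 1 = 1 :=
    ⟨by simpa using congrFun b1.1 1, by simpa using congrFun b2.1 1, by simpa using congrFun b1.2 1,
      by simpa using congrFun b2.2 1⟩
  have m2 : m.a 2 = 1 ∧ m.b 2 = 0 ∧ m.c 2 = 0 ∧ m.d 2 = 1 :=
    ⟨by simpa using congrFun b3.1 2, by simpa using congrFun b4.1 2, by simpa using congrFun b3.2 2,
      by simpa using congrFun b4.2 2⟩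
  obtain ⟨ρ, hρ, k, b⟩ := h.dg g m d a
  obtain ⟨n, dn, qn, an⟩ := h.eR ρ hρ
  have yk : ∀ k : F3, Ac z l (y ^ k.val) (Ym fun _ => k) := fun k => by
    rcases f3_cases k with rfl | rfl | rfl
    · rw [pw_zero]; exact h.ac_one.congr fun v => (Ym_zero v).symm
    · rw [pw_one]; exact h.ey.ac
    · exact (h.ac_pow h.ey.ac 2).congr fun v => Ym_Ym ..
  have e1 := Mx.eq_of_ap (m := n.mul ⟨1, fun _ => k, 0, 1⟩) (h.ac_uniq
    ((h.ac_mul an.ac (yk k)).congr fun v => by rw [Mx.ap_mul, Ym_eq]) b)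
  obtain rfl : k = 0 := by
    have a1 := (congrFun (congrArg Mx.a e1) 1).trans m1.1
    have a2 := (congrFun (congrArg Mx.b e1) 1).trans m1.2.1
    have a3 := (congrFun (congrArg Mx.c e1) 1).trans m1.2.2.1
    have a4 := (congrFun (congrArg Mx.d e1) 1).trans m1.2.2.2
    exact (by decide +kernel : ∀ a b c d k : F3, a * 1 + b * 0 = 1 → a * k + b * 1 = 0 → c * 1 + d * 0 = 0 →
      c * k + d * 1 = 1 → (a + d = 0 ∨ b = 0 ∧ c = 0) → k = 0) _ _ _ _ _ a1 a2 a3 a4 (qn 1)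
  rw [pw_zero, mul_one] at b
  have s0 := h.rco hρ b 0 fun i hi => by
    rcases (by decide : ∀ i : Fin 3, i ≠ 0 → i = 1 ∨ i = 2) i hi with rfl | rfl
    exacts [⟨m1.2.1, m1.2.2.1⟩, ⟨m2.2.1, m2.2.2.1⟩]
  have d0 := d 0
  rw [s0.1, s0.2] at d0
  rcases (by decide : ∀ a d : F3, a * d - 0 * 0 = 1 → a = 1 ∧ d = 1 ∨ a = -1 ∧ d = -1) _ _ d0 with s | s
  · refine inQ g c (h.memQ_of_ac (a.congr fun v => ?_)) e
    ext i <;> fin_cases i <;> simp [Mx.ap, s, s0, m1, m2]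
  · have hq : g * r 0 ∈ Qs z l := h.memQ_of_ac ((h.ac_mul a (h.er 0).ac).congr fun v => by
      ext i <;> fin_cases i <;> simp [Mx.ap, ng, sg, s, s0, m1, m2])
    have := inQ (g * r 0) (cmul c rfl) hq fun u => by
      rw [mul_inv_rev, mul_assoc g, ← lc h0, mul_assoc g, mul_assoc (l _), mul_inv_cancel_left, ← mul_assoc, e u]
    rwa [← pj_eq.2 (show g⁻¹ * (g * r 0) ∈ zpowers (r 0) by simp)] at this

theorem zb3 (h : Fr0 z l r R) : zb h ^ 3 = 1 := by rw [zb, pj_pow]; exact pj_1 h.z3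

theorem a0 (h : St z l r R y) : H87.U6.A0 (zb h.toFr0) (lb h.toFr0) (tb h.toFr0) where
  z3 := zb3 _
  z1 e := h.z1 (eq3 (h.r2 0) (e.trans (pj_one _)) h.z3 (one_pow 3))
  lz v := by simp only [zb, lb, pj_mul]; exact pj_congr (h.lz _)
  lmul u v := by simp only [zb, lb, pj_mul, pj_pow]; exact pj_congr (by rw [h.lmul, em_add, b6_em])
  linj v hv := by
    obtain ⟨k, e⟩ := (mem_zp (zb3 _)).1 hv
    rw [zb, pj_pow, lb] at e
    exact em_zero (h.linj _ (eq3 (h.r2 0) e (h.lcube _) (by rw [← pow_mul, mul_comm, pow_mul, h.z3, one_pow]) ▸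
      pow_mem (mem_zpowers z) _))
  nQ g hg v := by
    obtain ⟨g, c, rfl⟩ := pj_sur g
    obtain ⟨w, k, e⟩ := h.nQ g (lift_z h.toFr0 hg) (em v)
    have c' : qq z l w k * r 0 = r 0 * qq z l w k := by
      rw [qq, ← e]; exact cmul (cmul c (lc h.toFr0 v)) (cinv c)
    obtain ⟨u, rfl⟩ := q_em h.toFr0 c'
    refine ⟨u, k, Eq.trans ?_ (pj_q h.toFr0 u k c')⟩
    simp only [lb, pj_mul, pj_inv]
    exact pj_congr e
  cQ g hg e := by
    obtain ⟨g, c, rfl⟩ := pj_sur g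
    refine cQ' h c (lift_z h.toFr0 hg) fun u => ?_
    have e := cm_cj.1 (e u)
    simp only [lb, pj_mul, pj_inv] at e
    exact eq3 (h.r2 0) e (cj3 (h.lcube _)) (h.lcube _)
  t2 := by
    rw [tb, pj_mul]
    exact pj_1 (by rw [mul_assoc, ← mul_assoc (r 2), h.rc 2 1, mul_assoc, h.r2, mul_one, h.r2])
  tz := by simp only [zb, tb, pj_mul]; exact pj_congr (cmul (h.rz 1) (h.rz 2))
  tl v := by
    simp only [lb, tb, pj_mul, pj_inv]
    exact pj_congr (by rw [em_neg]; exact ((h.er 1).mul (h.er 2)).act _)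
  wc g v k e := by
    obtain ⟨g, c, rfl⟩ := pj_sur g
    rw [← pj_q h.toFr0 v k (cmul (lc h.toFr0 v) (cpow (zc h.toFr0) _)), zb, pj_mul, pj_inv, pj_mul] at e
    by_contra hv
    simpa [em] using h.full g _ k (eq3 (h.r2 0) e (cj3 h.z3) (h.qcube _ _)) (fun e => hv (em_zero e)) 0

theorem exb (h : St z l r R y) (m : Mx) (d : m.det1) (q : m.q8) {φ : H87.U6.V → H87.U6.V}
    (e : ∀ u, m.ap (em u) = em (φ u)) : ∃ x : Kb (r 0), x ^ 4 = 1 ∧
      H87.U6.Ex (zb h.toFr0) (lb h.toFr0) (tb h.toFr0) x φ ∧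
      ∀ j, (∀ u, em (φ (φ u)) = ng j (em u)) → x * x = pj (r j) (h.rc j 0) := by
  obtain ⟨ρ, hρ, n, dn, qn, a, e'⟩ := h.rsur m d q
  refine ⟨pj ρ (h.Rr hρ 0), by rw [pj_pow]; exact pj_1 (h.R4 hρ), ⟨?_, ?_, fun v => ?_⟩, fun j hj => ?_⟩
  · simp only [zb, pj_mul]; exact pj_congr a.cz
  · simp only [tb, pj_mul]; exact pj_congr (cmul (h.Rr hρ 1).symm (h.Rr hρ 2).symm).symm
  · simp only [lb, pj_mul, pj_inv]; exact pj_congr (by rw [a.act, ap_em e', e])
  rw [pj_mul]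
  have fx : ∀ u, n.ap (n.ap (em u)) = ng j (em u) := fun u => by rw [ap_em e', e, ap_em e', e, hj]
  obtain ⟨e1, e2, e3, e4⟩ := q8_four' _ _ _ _ (dn 0) (qn 0)
  have dec : ∀ v : V6, v = (![v.1 0, 0, 0], ![v.2 0, 0, 0]) + em (v.1 1, v.2 1, v.1 2, v.2 2) := fun v => by
    ext i <;> fin_cases i <;> simp [em]
  have b := (a.mul a).ac
  have key : ∀ {ρ : G} {φ : V6 → V6}, Ac z l ρ φ → (∀ u, φ (em u) = ng j (em u)) →
      (∀ s t, φ (![s, 0, 0], ![t, 0, 0]) = n.ap (n.ap (![s, 0, 0], ![t, 0, 0]))) →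
      Ac z l ρ fun v => n.ap (n.ap v) := fun {ρ φ} aφ f1 f2 => aφ.congr fun v => by
    rw [dec v, h.ac_add aφ, h.ac_add b, f1, f2, fx]
  have sg2 : ∀ j : Fin 3, sg j 0 * sg j 0 = 1 := fun j => congrFun (sg_sq j) 0
  rcases (by decide : ∀ a s : F3, a * a = 1 → s * s = 1 → a = s ∨ a = -s) _ _ e1 (sg2 j) with s | s
  · refine pj_congr (h.R_eq (mul_mem hρ hρ) (h.rR j) b (key (h.er j).ac (fun _ => rfl) fun s' t => ?_))
    rw [← Mx.ap_mul]
    ext i <;> fin_cases i <;> simp [Mx.ap, Mx.mul, ng, e2, e3, e4, s]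
  · have := h.R_eq (mul_mem hρ hρ) (mul_mem (h.rR j) (h.rR 0)) b (key ((h.er j).mul (h.er 0)).ac
      (fun _ => by rw [ng_em]) fun s' t => by
        rw [← Mx.ap_mul]
        ext i <;> fin_cases i <;> simp [Mx.ap, Mx.mul, ng, e2, e3, e4, s, (show sg 0 0 = -1 from rfl)])
    rw [eq_comm, pj_eq, this]
    simp

theorem nt' (h : St z l r R y) (x : Kb (r 0)) (hx : x * zb h.toFr0 = zb h.toFr0 * x) :
    x * pj (r 1) (h.rc 1 0) * x⁻¹ * pj (r 1) (h.rc 1 0) ∈ H87.U6.Qs (zb h.toFr0) (lb h.toFr0) ∨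
    x * pj (r 1) (h.rc 1 0) * x⁻¹ * pj (r 2) (h.rc 2 0) ∈ H87.U6.Qs (zb h.toFr0) (lb h.toFr0) := by
  obtain ⟨g, c, rfl⟩ := pj_sur x
  obtain ⟨π, m, d, a⟩ := h.mon g (lift_z h.toFr0 hx)
  simp only [pj_mul, pj_inv]
  obtain ⟨i, hi⟩ := π.surjective 1
  have b : g * r 1 * g⁻¹ * r i ∈ Qs z l := h.memQ_of_ac ((h.ac_mul (h.ac_mul (h.ac_mul a (h.er 1).ac)
    (h.mono_inv d a)) (h.er i).ac).congr fun v => by
      rw [← hi, pm_ng, pm_pm, inv_mul_cancel, pm_one, Mx.ap_ng, d.ap_adj, ng_ng]; rfl)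
  rcases (by decide : ∀ i : Fin 3, i = 0 ∨ i = 1 ∨ i = 2) i with rfl | rfl | rfl
  · have e : g * r 1 * g⁻¹ * r 0 = g * (r 1 * r 0) * g⁻¹ := by rw [mul_assoc _ g⁻¹, cinv c]; group
    have b' := h.nQ' (cinv (lift_z h.toFr0 hx)) b
    rw [e, show g⁻¹ * (g * (r 1 * r 0) * g⁻¹) * g⁻¹⁻¹ = r 1 * r 0 by group] at b'
    have := h.ac_uniq (h.ac_Q b') ((h.er 1).mul (h.er 0)).ac (Pi.single 0 1, 0)
    exact absurd this (by decide)
  · exact Or.inl (pj_Q h.toFr0 b _)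
  · exact Or.inr (pj_Q h.toFr0 b _)

theorem nw' (h : St z l r R y) : H87.U6.NW (zb h.toFr0) := by
  obtain ⟨k, hk, e⟩ := h.ky
  have c : k * r 0 = r 0 * k := mem_centralizer_singleton_iff.1
    ((closure_le (Kc (r 0))).2 (fun x hx => mem_centralizer_singleton_iff.2 hx.1) hk)
  refine ⟨pj k c, by simp only [zb, pj_mul, pj_inv]; exact pj_congr (by rw [e]; exact h.ey.cz), fun hy => ?_⟩
  obtain ⟨j, e'⟩ := (mem_zp (a0 h).z3).1 hy
  simp only [zb, pj_mul, pj_inv, pj_pow] at e'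
  have := eq3 (h.r2 0) e' (cj3 h.z3) (by rw [← pow_mul, mul_comm, pow_mul, h.z3, one_pow])
  rw [e] at this
  exact absurd (h.ac_uniq h.ey.ac (this ▸ (h.ex_z j.val).ac) (0, 1)) (by decide)

/-- pull back of a normal self-centralizing subgroup -/
theorem ld_of {d : G} (F : Subgroup (Kb d)) [hF : F.Normal] (hc : centralizer (F : Set (Kb d)) = ⊥)
    (e : ∃ (K : Type) (_ : Field K) (_ : Fintype K), Fintype.card K = 4 ∧ Nonempty (F ≃* PSU 6 K 2)) :
    ∃ L, LD d L := by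
  let L : Subgroup G := (F.comap (QuotientGroup.mk' _)).map (Kc d).subtype
  have mL : ∀ {x}, x ∈ L ↔ ∃ c : x * d = d * x, pj x c ∈ F := fun {x} =>
    ⟨by rintro ⟨⟨x, c⟩, hx, rfl⟩; exact ⟨mem_centralizer_singleton_iff.1 c, hx⟩,
      fun ⟨c, hx⟩ => ⟨⟨x, mem_centralizer_singleton_iff.2 c⟩, hx, rfl⟩⟩
  have d1 : ∀ {x c}, pj (d := d) x c = 1 ↔ x ∈ zpowers d := fun {x c} => by
    rw [pj_one, eq_comm, pj_eq]; simp
  refine ⟨L, fun x hx => (mL.1 hx).1, mL.2 ⟨rfl, d1.2 (mem_zpowers d) ▸ one_mem F⟩, fun g c x hx => ?_, ?_,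
    fun g c hg => ?_⟩
  · obtain ⟨c', hx⟩ := mL.1 hx
    exact mL.2 ⟨cmul (cmul c c') (cinv c), hF.conj_mem _ hx (pj g c)⟩
  · obtain ⟨K, _, _, hK, ⟨e⟩⟩ := e
    let φ : L →* F := MonoidHom.mk' (fun x => ⟨pj x (mL.1 x.2).1, (mL.1 x.2).2⟩) fun _ _ => rfl
    have sur : Function.Surjective φ := fun x => by
      obtain ⟨x, hx⟩ := x
      obtain ⟨g, c, rfl⟩ := pj_sur x
      exact ⟨⟨g, mL.2 ⟨c, hx⟩⟩, rfl⟩
    have ker : (zpowers d).subgroupOf L = φ.ker := by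
      ext x
      rw [mem_subgroupOf, MonoidHom.mem_ker, Subtype.ext_iff]
      exact (d1 (c := (mL.1 x.2).1)).symm
    have : ((zpowers d).subgroupOf L).Normal := ker ▸ inferInstance
    exact ⟨this, K, inferInstance, inferInstance, hK, ⟨(QuotientGroup.quotientMulEquivOfEq ker).trans
      ((QuotientGroup.quotientKerEquivOfSurjective φ sur).trans e)⟩⟩
  · refine (d1 (c := c)).1 (mem_bot.1 (hc ▸ mem_centralizer_iff.2 fun x hx => ?_))
    obtain ⟨x, c', rfl⟩ := pj_sur x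
    have := d1 (c := cmul (cmul (cmul c c') (cinv c)) (cinv c')) |>.2 (hg x (mL.2 ⟨c', hx⟩))
    rw [← pj_mul (cmul (cmul c c') (cinv c)) (cinv c'), ← pj_mul (cmul c c') (cinv c), ← pj_mul c c',
      ← pj_inv c, ← pj_inv c', mul_inv_eq_one, ← cm_cj] at this
    exact this.symm

end U6x

open U6x

theorem St.ld [Finite G] {z : G} {l : V6 → G} {r : Fin 3 → G} {R : Subgroup G} {y : G} (h : St z l r R y) :
    ∃ L, LD (r 0) L := by
  obtain ⟨i1, a1, b1, c1⟩ := exb h ⟨![1, 0, 1], ![0, -1, 0], ![0, 1, 0], ![1, 0, 1]⟩ (by unfold Mx.det1; decide)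
    (by unfold Mx.q8; decide) (φ := H87.U6.I1) (by decide +kernel)
  obtain ⟨j1, a2, b2, -⟩ := exb h ⟨![1, 1, 1], ![0, 1, 0], ![0, 1, 0], ![1, -1, 1]⟩ (by unfold Mx.det1; decide)
    (by unfold Mx.q8; decide) (φ := H87.U6.J1) (by decide +kernel)
  obtain ⟨i2, a3, b3, c3⟩ := exb h ⟨![1, 1, 0], ![0, 0, -1], ![0, 0, 1], ![1, 1, 0]⟩ (by unfold Mx.det1; decide)
    (by unfold Mx.q8; decide) (φ := H87.U6.I2) (by decide +kernel)
  obtain ⟨j2, a4, b4, -⟩ := exb h ⟨![1, 1, 1], ![0, 0, 1], ![0, 0, 1], ![1, 1, -1]⟩ (by unfold Mx.det1; decide)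
    (by unfold Mx.q8; decide) (φ := H87.U6.J2) (by decide +kernel)
  obtain ⟨e, c⟩ := H87.U6.mainU ⟨a0 h, a1, b1, a2, b2, a3, b3, a4, b4⟩ (fun x hx => by
    rw [c1 1 (by decide +kernel), c3 2 (by decide +kernel)]; exact nt' h x hx) (nw' h)
  exact ld_of _ c e

end H7.F3
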