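import Cfsg.Agent.Lib.F3L.K8A
import Cfsg.Agent.Lib.F3L.Gam
import Cfsg.Agent.Lib.F3L.Cen
import Cfsg.Agent.Lib.F3L.Syl
import Cfsg.Agent.Lib.F3L.One
import Cfsg.Agent.Lib.F3L.Two
import Cfsg.Agent.Lib.F3L.U6
import Cfsg.Agent.Lib.F3L.End
import Cfsg.Agent.S1696
import Cfsg.Agent.S1714

/-! The centralizer of `d` is a double cover of `Fi₂₂`. -/

set_option autoImplicit false
set_option linter.unusedSectionVars false

namespace H7.F3

open Subgroup H87.Mc Cfsg U6x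
open H87.U6 (F3 f3_cases pw_add pw_zero pw_one pw_two pw_neg pw_mul pw_inj mem_zp cj_pw cm_cj)

variable {G : Type*} [Group G]

namespace K8

theorem io_zero : io 0 = 0 := by decide
theorem io_neg (v : V6) : io (-v) = -io v :=
  eq_neg_of_add_eq_zero_left (by rw [← io_add, neg_add_cancel, io_zero])
theorem io_eq_zero {v : V6} (e : io v = 0) : v = 0 := sy6.nd v fun u => by rw [← b8_io, e, sy8.zero_l]
theorem io_inj {u v : V6} (e : io u = io v) : u = v :=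
  add_neg_eq_zero.1 (io_eq_zero (by rw [io_add, io_neg, e, add_neg_cancel]))
theorem pa_sq (v : V8) : pa (0, 0, (1, 0)) (pa (0, 0, (1, 0)) v) = -v := rfl

/-- the frame together with the involution `d` -/
structure D8 (z : G) (l : V8 → G) (t d : G) : Prop extends F8 z l t where
  ed : Ex z l t d sw
  d2 : d * d = 1

namespace D8

variable {z t d : G} {l : V8 → G} (h : D8 z l t d)
include h

theorem zc : z * d = d * z := h.ed.cz.symm
theorem tc : t * d = d * t := h.ed.ct.symm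
theorem lc (u : V6) : l (io u) * d = d * l (io u) := (cm_cj.2 (h.ed.act _)).symm

/-- the image of `z` -/
def zb : Kb d := pj z h.zc
/-- the images of the coordinates -/
def lb (u : V6) : Kb d := pj (l (io u)) (h.lc u)
/-- the image of `t` -/
def tb : Kb d := pj t h.tc

theorem zb3 : h.zb ^ 3 = 1 := by rw [zb, pj_pow]; exact pj_1 h.z3
theorem zp3 (n : ℕ) : (z ^ n) ^ 3 = 1 := by rw [← pow_mul, mul_comm, pow_mul, h.z3, one_pow]

theorem lift_z {g : G} {c : g * d = d * g} (e : pj g c * h.zb = h.zb * pj g c) : g * z = z * g := by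
  rw [cm_cj, zb, pj_mul, pj_inv, pj_mul] at e
  exact cm_cj.2 (eq3 h.d2 e (cj3 h.z3) h.z3)

theorem pj_q (u : V6) (k : F3) (c : qq z l (io u) k * d = d * qq z l (io u) k) :
    pj (qq z l (io u) k) c = qq h.zb h.lb u k := by
  rw [qq.eq_1 h.zb, zb, lb, pj_pow, pj_mul]; rfl

theorem cs_of {g : G} (c : g * d = d * g) (gz : g * z = z * g) : ∃ φ, Cs φ ∧ Ac z l g φ := by
  obtain ⟨φ, A, n, a⟩ := h.img g gz
  exact ⟨φ, ⟨⟨A, n⟩, fun v => (h.ac_uniq (h.ac_mul a h.ed.ac) (c ▸ h.ac_mul h.ed.ac a) v :)⟩, a⟩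

theorem ac_down {g : G} (c : g * d = d * g) {φ : V8 → V8} (a : Ac z l g φ) {ψ : V6 → V6}
    (e : ∀ v, φ (io v) = io (ψ v)) : Ac h.zb h.lb (pj g c) ψ := by
  refine ⟨by simp only [zb, pj_mul]; exact pj_congr a.1, fun v => ?_⟩
  obtain ⟨k, hk⟩ := a.2 (io v)
  rw [e] at hk
  refine ⟨k, Eq.trans ?_ (h.pj_q _ k (cmul (h.lc _) (cpow h.zc _)))⟩
  simp only [lb, pj_mul, pj_inv]
  exact pj_congr hk

theorem ex_down {g : G} (c : g * d = d * g) {φ : V8 → V8} (a : Ex z l t g φ) {ψ : V6 → V6}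
    (e : ∀ v, φ (io v) = io (ψ v)) : Ex h.zb h.lb h.tb (pj g c) ψ :=
  ⟨by simp only [zb, pj_mul]; exact pj_congr a.cz, by simp only [tb, pj_mul]; exact pj_congr a.ct, fun v => by
    simp only [lb, pj_mul, pj_inv]; exact pj_congr (by rw [a.act, e])⟩

theorem lift {φ : V8 → V8} (a : Cs φ) : ∃ g, Ex z l t g φ ∧ g * d = d * g := by
  obtain ⟨⟨A, n⟩, s⟩ := a
  obtain ⟨g, b⟩ := h.all φ A n
  obtain ⟨n, -, b⟩ := h.exists_ex b
  generalize n * g = g at b
  obtain ⟨k, e⟩ := h.ex_eq (h.ed.mul b) (b.mul h.ed) fun v => (s v).symm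
  have e1 : g * d * g⁻¹ = d * z ^ k.val := by rw [e, mul_assoc d, mul_assoc d, cjz b.cz]
  have e2 : (z ^ k.val) ^ 2 = 1 := by
    have := congrArg (· ^ 2) e1
    simp only [conj_pow, ((show Commute d z from h.ed.cz).pow_right _).mul_pow, pow_two d, h.d2] at this
    simpa using this.symm
  have e3 := h.zp3 k.val
  rw [pow_succ, e2, one_mul] at e3
  exact ⟨g, b, by rw [e, e3, mul_one]⟩

theorem mon' (x : Kb d) (hx : x * h.zb = h.zb * x) :
    ∃ π, ∃ m : Mx, π ^ 3 = 1 ∧ m.det1 ∧ Ac h.zb h.lb x fun v => m.ap (pm π v) := by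
  obtain ⟨g, c, rfl⟩ := pj_sur x
  obtain ⟨φ, s, a⟩ := h.cs_of c (h.lift_z hx)
  obtain ⟨π, m, e, hd, b⟩ := s.mon
  exact ⟨π, m, e, hd, h.ac_down c a b⟩

theorem a0 : A0 b6 h.zb h.lb h.tb where
  toSy := sy6
  z3 := h.zb3
  z1 e := h.z1 (eq3 h.d2 (e.trans (pj_one _)) h.z3 (one_pow 3))
  lz v := by simp only [zb, lb, pj_mul]; exact pj_congr (h.lz _)
  lmul u v := by simp only [zb, lb, pj_mul, pj_pow]; exact pj_congr (by rw [h.lmul, io_add, b8_io])
  linj v hv := by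
    obtain ⟨k, e⟩ := (mem_zp h.zb3).1 hv
    rw [zb, pj_pow, lb] at e
    exact io_eq_zero (h.linj _ (eq3 h.d2 e (h.lcube _) (h.zp3 _) ▸ pow_mem (mem_zpowers z) _))
  nQ g hg v := let ⟨_, _, _, _, a⟩ := h.mon' g hg; ⟨_, a.2 v⟩
  cQ g hg e := by
    obtain ⟨g, c, rfl⟩ := pj_sur g
    have fx : ∀ u, g * l (io u) * g⁻¹ = l (io u) := fun u => by
      have e := cm_cj.1 (e u)
      simp only [lb, pj_mul, pj_inv] at e
      exact eq3 h.d2 e (cj3 (h.lcube _)) (h.lcube _)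
    have inQ : ∀ g (c : g * d = d * g), g ∈ Qs z l → (∀ u, g * l (io u) * g⁻¹ = l (io u)) →
        pj g c ∈ zpowers h.zb := fun g c hg e => by
      obtain ⟨w, k, rfl⟩ := h.memQ.1 hg
      obtain ⟨u, rfl⟩ := mem_io (h.q_inj ((h.ed.q w k).symm.trans (cm_cj.1 c.symm))).1
      obtain rfl : u = 0 := sy6.nd u fun v => by
        rw [← b8_io]
        exact (h.qcm k 0).1 (by rw [q0]; exact cm_cj.2 (e v))
      rw [h.pj_q, qq, lb, pj_1 (by rw [io_zero, h.l0]), one_mul]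
      exact pow_mem (mem_zpowers _) _
    obtain ⟨φ, s, a⟩ := h.cs_of c (h.lift_z hg)
    rcases s.ker fun u => by
      obtain ⟨k, hk⟩ := a.2 (io u)
      exact (h.q_inj (hk.symm.trans ((fx u).trans (q0 z l _).symm))).1 with s | s
    · exact inQ g c (h.memQ_of_ac (a.congr s)) fx
    · have := inQ (g * d) (cmul c rfl) (h.memQ_of_ac ((h.ac_mul a h.ed.ac).congr fun v => s _)) fun u => by
        rw [mul_inv_rev, mul_assoc g, ← h.lc, mul_assoc g, mul_assoc (l _), mul_inv_cancel_left, ← mul_assoc, fx u]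
      rwa [← pj_eq.2 (show g⁻¹ * (g * d) ∈ zpowers d by simp)] at this
  t2 := by rw [tb, pj_mul]; exact pj_1 h.t2
  tz := by simp only [zb, tb, pj_mul]; exact pj_congr h.tz
  tl v := by simp only [lb, tb, pj_mul, pj_inv]; exact pj_congr (by rw [io_neg, h.tl])

theorem up {φ : V8 → V8} (s : Cs φ) {ψ : V6 → V6} (e : ∀ v, φ (io v) = io (ψ v)) :
    ∃ x, Ex h.zb h.lb h.tb x ψ := let ⟨g, a, c⟩ := h.lift s; ⟨pj g c, h.ex_down c a e⟩

theorem fr0 [Finite G] : ∃ r R, Fr0 h.zb h.lb r R ∧ O3 h.zb h.lb := by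
  have : ∀ k, ∃ x, x * x = 1 ∧ Ex h.zb h.lb h.tb x (ng k) := fun k => by
    obtain ⟨φ, s, -, e, -⟩ := cs_ng k
    obtain ⟨x, a⟩ := h.up s e
    obtain ⟨j, e⟩ := h.a0.ex_eq Ex.one (a.mul a) fun v => (ng_ng k v).symm
    refine ⟨x ^ 3, ?_, (a.pow 3).congr fun v => ng_ng k _⟩
    rw [← (Commute.refl x).mul_pow, e, one_mul, ← pow_mul, mul_comm, pow_mul, h.zb3, one_pow]
  choose r r2 er using this
  obtain ⟨R, f⟩ := exists_fr0 h.a0 r2 er (fun g hg => let ⟨π, m, _, a⟩ := h.mon' g hg; ⟨π, m, a⟩) (by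
    rw [← cs_card]
    congr 2
    ext m
    refine and_congr_right fun _ => and_congr_right fun _ => ⟨fun ⟨x, a⟩ => ?_,
      fun ⟨φ, s, e⟩ => (h.up s e).imp fun _ a => a.ac⟩
    obtain ⟨g, c, rfl⟩ := pj_sur x
    obtain ⟨φ, s, b⟩ := h.cs_of c (h.lift_z a.1)
    obtain ⟨π, n, -, -, e⟩ := s.mon
    exact ⟨φ, s, fun v => (e v).trans (congrArg io (h.a0.ac_uniq (h.ac_down c b e) a v))⟩)
  obtain ⟨i, hi⟩ := h.up cs_I.1 cs_I.2
  obtain ⟨j, hj⟩ := h.up cs_J.1 cs_J.2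
  exact ⟨r, R, f, o3 f hi.ac hj.ac⟩

theorem nw [Finite G] (b9 : B9 h.zb) {y : G} (yQ : y ∈ Qs z l) (yz : y ∉ zpowers z) {T : Subgroup G}
    (p : IsPGroup 3 T) (big : 3 ^ 9 ≤ Nat.card T) (yT : y ∈ T) (c : ∀ x ∈ T, x * d = d * x ∧ x * y = y * x) :
    NW h.zb := by
  obtain ⟨X, hQ, pX, cX, cen, mx⟩ := h.a0.exists_syl
  let f : T →* Kb d := MonoidHom.mk' (fun x => pj x (c x x.2).1) fun _ _ => rfl
  have inj : Function.Injective f := (injective_iff_map_eq_one f).2 fun x e => by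
    obtain ⟨k, hk⟩ := p x
    rcases mem_z2 h.d2 ((pj_eq (c' := (c x x.2).1)).1 ((pj_one d).symm.trans e.symm)) with e | e <;> rw [inv_one, one_mul] at e
    · exact Subtype.ext e
    · obtain ⟨j, hj⟩ : Odd (3 ^ k) := Odd.pow (by decide)
      have x2 : x ^ 2 = 1 := Subtype.ext (by rw [pow_two, coe_mul, e]; exact h.d2)
      rwa [hj, pow_succ, pow_mul, x2, one_pow, one_mul] at hk
  have cy := (c y yT).1
  have ny : pj y cy ∉ zpowers h.zb := fun hy => by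
    obtain ⟨k, e⟩ := (mem_zp h.zb3).1 hy
    rw [zb, pj_pow] at e
    exact yz (eq3 h.d2 e (h.Q3 yQ) (h.zp3 _) ▸ pow_mem (mem_zpowers z) _)
  have yc : Commute (pj y cy) h.zb := by
    simp only [Commute, SemiconjBy, zb, pj_mul]; exact pj_congr (h.QH yQ)
  obtain ⟨k, -, hk⟩ := conj_cen (K := ⊤) h.zb3 h.a0.z1 le_top (hQ zQ) pX cX cen mx (T := f.range) le_top
    (p.of_surjective _ f.rangeRestrict_surjective)
    ((b9 X pX cX).trans (big.trans_eq (Nat.card_congr (MonoidHom.ofInjective inj).toEquiv)))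
    (y := pj y cy) ⟨⟨y, yT⟩, rfl⟩ (by rintro _ ⟨x, rfl⟩; exact congrArg f (Subtype.ext (c x x.2).2 : x * ⟨y, yT⟩ = ⟨y, yT⟩ * x))
  rcases (mem_z3 h.zb3).1 hk with e | e | e
  · exact absurd (by rw [show pj y cy = 1 by simpa using e]; exact one_mem _) ny
  · have : k⁻¹ * h.zb * k⁻¹⁻¹ = pj y cy := by rw [← e]; group
    exact ⟨k⁻¹, by rw [this]; exact yc.eq, by rwa [this]⟩
  · have : k⁻¹ * h.zb * k⁻¹⁻¹ = (pj y cy)⁻¹ := by rw [← inv_inv h.zb, ← e]; group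
    exact ⟨k⁻¹, by rw [this]; exact yc.inv_left.eq, by rwa [this, inv_mem_iff]⟩

theorem perfect (hp : commutator (Kb d) = ⊤) : commutator (Kc d) = ⊤ := by
  have dK : d ∈ Kc d := mem_centralizer_singleton_iff.2 rfl
  have dec : ∀ g : Kc d, g ∈ commutator (Kc d) ∨ g * ⟨d, dK⟩ ∈ commutator (Kc d) := fun g => by
    have : (g : Kb d) ∈ (commutator (Kc d)).map (QuotientGroup.mk' _) := by
      rw [commutator_def, map_commutator, map_top_of_surjective _ (QuotientGroup.mk'_surjective _), ← commutator_def, hp]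
      trivial
    obtain ⟨k, hk, e⟩ := this
    rcases mem_z2 h.d2 (mem_subgroupOf.1 (QuotientGroup.eq.1 e)) with e | e
    · exact Or.inl (inv_mul_eq_one.1 (Subtype.ext e : k⁻¹ * g = 1) ▸ hk)
    · rw [coe_mul, coe_inv, inv_mul_eq_iff_eq_mul] at e
      exact Or.inr ((Subtype.ext (by rw [coe_mul, e, mul_assoc, h.d2, mul_one]) : g * ⟨d, dK⟩ = k) ▸ hk)
  have sq : ∀ g : Kc d, g * g ∈ commutator (Kc d) := fun g => by
    rcases dec g with e | e
    · exact mul_mem e e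
    · convert mul_mem e e using 1
      exact Subtype.ext (by
        simp only [coe_mul]
        rw [mul_assoc, ← mul_assoc d, ← mem_centralizer_singleton_iff.1 g.2, mul_assoc, h.d2, mul_one])
  obtain ⟨φ, s, e⟩ := cs_sq
  obtain ⟨u, a, cu⟩ := h.lift s
  obtain ⟨i, b, ci⟩ := h.lift cs_I.1
  obtain ⟨k, e⟩ := h.ex_eq h.ed ((a.mul a).mul (b.mul b)) fun v => by rw [e, pa_sq]; exact (neg_neg _).symm
  have hd : (⟨d, dK⟩ : Kc d) ∈ commutator (Kc d) := by
    convert pow_mem (mul_mem (sq ⟨u, mem_centralizer_singleton_iff.2 cu⟩) (sq ⟨i, mem_centralizer_singleton_iff.2 ci⟩)) 3 using 1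
    refine Subtype.ext ?_
    simp only [coe_mul, SubmonoidClass.coe_pow]
    rw [e, ((show Commute d z from h.ed.cz).pow_right _).mul_pow, h.zp3, mul_one, pow_succ, pow_two, h.d2, one_mul]
  refine eq_top_iff.2 fun g _ => (dec g).elim id fun e => ?_
  simpa using mul_mem e (inv_mem hd)

theorem fused : ∃ g, g * d * g⁻¹ ∈ Kc d ∧ g * d * g⁻¹ ≠ d := by
  obtain ⟨φ, s, -, e, x, hx⟩ := cs_ng 0
  obtain ⟨u, a, cu⟩ := h.lift s
  obtain ⟨g, b⟩ := h.all _ _ (nm_pa x)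
  obtain ⟨n, -, b⟩ := h.exists_ex b
  generalize n * g = g at b
  obtain ⟨k, e1⟩ := h.ex_eq (a.mul b) (b.mul h.ed) hx
  have e2 : g * d * g⁻¹ = u * z ^ k.val := by rw [e1, mul_assoc u, mul_assoc u, cjz b.cz]
  refine ⟨g, mem_centralizer_singleton_iff.2 (e2 ▸ cmul cu (cpow h.zc _)), fun e3 => ?_⟩
  have := h.ac_uniq (a.mul (h.ex_z k.val)).ac (e2 ▸ e3.symm ▸ h.ed.ac) (io (Pi.single 0 1, 0))
  exact absurd (io_inj ((e _).symm.trans this)) (by decide)

end D8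

end K8

open K8

theorem F8.fi23 [Finite G] {z t d y : G} {l : V8 → G} (h : F8 z l t) (ed : Ex z l t d sw) (d2 : d * d = 1)
    (yQ : y ∈ Qs z l) (yz : y ∉ zpowers z) {T : Subgroup G} (p : IsPGroup 3 T) (big : 3 ^ 9 ≤ Nat.card T)
    (yT : y ∈ T) (c : ∀ x ∈ T, x * d = d * x ∧ x * y = y * x) : Spor.IsoFi23 G := by
  have k : D8 z l t d := ⟨h, ed, d2⟩
  obtain ⟨r, R, f, o⟩ := k.fr0
  obtain ⟨l', S, f', e'⟩ := f.exists_fr (Or.inl o)
  obtain ⟨g, g1, g2⟩ := f'.one (k.nw f'.b9 yQ yz p big yT c)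
  obtain ⟨l'', r', R', y', s, e''⟩ := f'.two g1 g2
  obtain ⟨L, hL⟩ := s.ld
  have iso : Spor.IsoFi22 (Kb d) := (s.cases hL).resolve_right fun ⟨t0, b, i2, c0, n0⟩ => by
    obtain ⟨π, m, e, hd, a⟩ := k.mon' t0 c0
    exact n0 (e''.symm ▸ e'.symm ▸ inv_mem_P f i2.t2 hd e a)
  obtain ⟨e⟩ := id iso
  have := (Cfsg.Agent.S1696.result).1
  have := e.isSimpleGroup
  have q : IsQuasisimple (Kb d) := H23.isQuasisimple_of_isSimpleGroup fun cm => by
    have := (k.a0.qcm (u := (Pi.single 0 1, 0)) (v := (0, Pi.single 0 1)) 0 0).1 (cm.is_comm.comm _ _)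
    exact absurd this (by decide)
  have d1 : d ≠ 1 := fun e => by
    have := h.ac_uniq ed.ac (e ▸ h.ac_one) ((0, (1, 0)), 0)
    exact absurd this (by decide)
  refine Cfsg.Agent.S1714.result d (orderOf_eq_prime (by rw [pow_two, d2]) d1)
    (H23.IsQuasisimple.of_ker_le_center (QuotientGroup.mk'_surjective ((zpowers d).subgroupOf (Kc d))) ?_
      ⟨k.perfect q.1.commutator_eq_top⟩ q) iso k.fused
  rw [QuotientGroup.ker_mk']
  intro x hx
  obtain ⟨j, e⟩ := mem_subgroupOf.1 hx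
  exact mem_center_iff.2 fun g => Subtype.ext (show (g : G) * x = x * g from
    e ▸ ((show Commute (g : G) d from mem_centralizer_singleton_iff.1 g.2).zpow_right j).eq)

end H7.F3
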