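import Cfsg.Agent.Lib.F3L.On8A

/-! The elements of order three of the standard Sylow subgroup. -/

set_option autoImplicit false

namespace H7.F3.On8

open H87.U6 (F3 f3_cases)

theorem tau_eq (c : X3) (a b d e f g h i : F3) : tau c (((a, b), (d, e)), ((f, g), (h, i))) =
    (((a + c 2 * b + c 1 * (d + c 2 * e) + c 0 * (f + c 2 * g + c 1 * (h + c 2 * i)),
      b + c 1 * e + c 0 * (g + c 1 * i)), (d + c 2 * e + c 0 * (h + c 2 * i), e + c 0 * i)),
      ((f + c 2 * g + c 1 * (h + c 2 * i), g + c 1 * i), (h + c 2 * i, i))) := by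
  simp [tau, un, mp, mul_add]

/-- the socle -/
def soc (a : F3) : V8 := (((a, 0), 0), 0)

/-- diagonal matrices -/
def dg (s : X3) (v : V8) : V8 :=
  (((s 0 * s 1 * s 2 * v.1.1.1, s 0 * s 1 * v.1.1.2), (s 0 * s 2 * v.1.2.1, s 0 * v.1.2.2)),
    ((s 1 * s 2 * v.2.1.1, s 1 * v.2.1.2), (s 2 * v.2.2.1, v.2.2.2)))

theorem dg_add (s : X3) (u v : V8) : dg s (u + v) = dg s u + dg s v := by simp [dg, mul_add]
theorem dg_b (s : X3) (u v : V8) : b8 (dg s u) (dg s v) = s 0 * s 1 * s 2 * b8 u v := by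
  simp only [dg, b8, b4, b2]; ring
theorem sig_b (u v : V8) : b8 (sig u) (sig v) = b8 u v := by simp only [sig, b8, b4, b2]; ring
theorem sw_b (u v : V8) : b8 (sw u) (sw v) = b8 u v := by simp only [sw, b8, b4, b2]; ring
theorem tau_b (c : X3) (u v : V8) : b8 (tau c u) (tau c v) = b8 u v := by
  obtain ⟨⟨⟨a, b⟩, d, e⟩, ⟨f, g⟩, h, i⟩ := u
  obtain ⟨⟨⟨a', b'⟩, d', e'⟩, ⟨f', g'⟩, h', i'⟩ := v
  simp only [tau_eq, b8, b4, b2]; ring
theorem tau_tau (c d : X3) (v : V8) : tau c (tau d v) = tau (c + d) v := by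
  obtain ⟨⟨⟨a, b⟩, d, e⟩, ⟨f, g⟩, h, i⟩ := v
  simp only [tau_eq, Pi.add_apply, Prod.mk.injEq]
  refine ⟨⟨⟨?_, ?_⟩, ?_, ?_⟩, ⟨?_, ?_⟩, ?_, trivial⟩ <;> ring
theorem tau_zero (v : V8) : tau 0 v = v := by
  obtain ⟨⟨⟨a, b⟩, d, e⟩, ⟨f, g⟩, h, i⟩ := v
  simp [tau_eq]
theorem sigm_add (m : ℕ) (u v : V8) : sig^[m] (u + v) = sig^[m] u + sig^[m] v := by
  induction m generalizing u v with
  | zero => rfl
  | succ m ih => exact ih (sig u) (sig v)
theorem sigm_b (m : ℕ) (u v : V8) : b8 (sig^[m] u) (sig^[m] v) = b8 u v := by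
  induction m generalizing u v with
  | zero => rfl
  | succ m ih => exact (ih (sig u) (sig v)).trans (sig_b u v)

theorem tt1 : TT b8 (tau ![1, 0, 0]) := by
  refine Or.inl ⟨?_, fun x => (x, 0), fun _ _ e => congrArg Prod.fst e, ?_⟩
  · rintro ⟨⟨⟨a, b⟩, d, e⟩, ⟨f, g⟩, h, i⟩ hw
    simp [tau_eq] at hw
    exact ⟨(((0, 0), (0, 0)), ((a, b), (d, e))), by simp [tau_eq, hw]; rfl⟩
  · rintro ⟨⟨a, b⟩, d, e⟩
    exact (tau_eq _ a b d e 0 0 0 0).trans (by simp)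

theorem tt2 : TT b8 (tau ![1, 1, 0]) := by
  have i : ∀ a b, I2 (tau ![1, 1, 0]) (((a, b), (0, 0)), ((0, 0), (0, 0))) := fun a b =>
    ⟨(((0, 0), (0, 0)), ((0, 0), (-a, -b))), by revert a b; decide +kernel⟩
  refine Or.inr ⟨⟨fun x => ((x, (0, 0)), ((0, 0), (0, 0))), fun _ _ e => congrArg (·.1.1) e, fun x => i x.1 x.2⟩,
    Or.inl ⟨⟨fun x => (x, (-x.2, (0, 0))), fun _ _ e => congrArg Prod.fst e, by decide +kernel⟩,
      (((0, 0), (1, 0)), ((-1, 0), (0, 0))), (((0, 0), (0, 1)), ((0, -1), (0, 0))), by decide +kernel,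
      by decide +kernel, by decide +kernel, ?_⟩⟩
  rintro ⟨⟨⟨a, b⟩, d, e⟩, ⟨f, g⟩, h, j⟩ hw h1 h2
  simp [tau_eq, add_assoc] at hw
  simp [b8, b4, b2] at h1 h2
  obtain ⟨⟨e1, e2⟩, rfl, rfl⟩ := hw
  obtain ⟨rfl, rfl⟩ := (by decide : ∀ d f : F3, d + (f + 0) = 0 → -f + d = 0 → d = 0 ∧ f = 0) d f e1 (by
    linear_combination h2)
  obtain ⟨rfl, rfl⟩ := (by decide : ∀ d f : F3, d + (f + 0) = 0 → -f + d = 0 → d = 0 ∧ f = 0) e g e2 (by
    linear_combination -h1)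
  exact i a b

theorem tt3 : TT b8 (tau ![1, 1, 1]) := by
  have i : ∀ a b, I2 (tau ![1, 1, 1]) (((a, b), (b, 0)), ((b, 0), (0, 0))) := fun a b =>
    ⟨(((0, 0), (0, 0)), ((0, 0), (-a, -b))), by revert a b; decide +kernel⟩
  have k : ∀ w, tau ![1, 1, 1] w = w → ∃ a b d, w = (((a, b), (d, 0)), ((-b - d, 0), (0, 0))) := by
    rintro ⟨⟨⟨a, b⟩, d, e⟩, ⟨f, g⟩, h, j⟩ hw
    simp [tau_eq, add_assoc] at hw
    obtain ⟨⟨⟨e1, e2⟩, e3, rfl⟩, e4, -⟩ := hw
    obtain ⟨rfl, rfl, rfl⟩ := (by decide : ∀ e g h : F3, e + (g + 0) = 0 → e + (h + 0) = 0 → g + (h + 0) = 0 →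
      e = 0 ∧ g = 0 ∧ h = 0) e g h e2 e3 e4
    exact ⟨a, b, d, by rw [show f = -b - d by linear_combination e1]⟩
  refine Or.inr ⟨⟨fun x => (((x.1, x.2), (x.2, 0)), ((x.2, 0), (0, 0))), fun _ _ e => congrArg (·.1.1) e,
    fun x => i x.1 x.2⟩, Or.inr ⟨⟨fun x => (((x 0, x 1), (x 2, 0)), ((-x 1 - x 2, 0), (0, 0))), by decide +kernel,
      by decide +kernel⟩, fun w hw => ?_, fun u v hu hv => ?_⟩⟩
  · obtain ⟨a, b, d, rfl⟩ := k w hw
    exact ⟨(((0, 0), (0, b + d)), ((a, -d), (-b, 0))), by revert a b d; decide +kernel⟩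
  · obtain ⟨a, b, d, rfl⟩ := k u hu
    obtain ⟨a', b', d', rfl⟩ := k v hv
    have t : ∀ b : F3, -b - b = b := by decide
    rcases (by decide : ∀ x y : F3, x = 0 ∨ y = 0 ∨ x + y = 0 ∨ x - y = 0) (d - b) (d' - b') with e | e | e | e
    · obtain rfl := sub_eq_zero.1 e
      exact Or.inl (by rw [t]; exact i a d)
    · obtain rfl := sub_eq_zero.1 e
      exact Or.inr (Or.inl (by rw [t]; exact i a' d'))
    · refine Or.inr (Or.inr (Or.inl ?_))
      convert i (a + a') (b + b') using 1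
      simp only [Prod.mk_add_mk, Prod.mk.injEq, add_zero, and_true, true_and]
      exact ⟨by linear_combination e, by linear_combination -e - (b + b') * three⟩
    · refine Or.inr (Or.inr (Or.inr ?_))
      convert i (a - a') (b - b') using 1
      simp only [Prod.mk_sub_mk, Prod.mk.injEq, sub_zero, and_true, true_and]
      exact ⟨by linear_combination e, by linear_combination -e - (b - b') * three⟩

theorem tts : TT b8 sig := by
  have i : ∀ a b, I2 sig (((0, a), (a, b)), ((a, b), (b, 0))) := fun a b =>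
    ⟨(((0, a), (0, b)), ((0, 0), (0, 0))), by simp [sig]⟩
  refine Or.inr ⟨⟨fun x => (((0, x.1), (x.1, x.2)), ((x.1, x.2), (x.2, 0))), fun _ _ e => congrArg (·.1.2) e,
    fun x => i x.1 x.2⟩, Or.inl ⟨⟨fun x => (((x.2.1, x.1.1), x.1), (x.1, (x.1.2, x.2.2))), fun _ _ e => ?_,
      fun _ => rfl⟩, (((1, 0), (0, 0)), ((0, 0), (0, 0))), (((0, 0), (0, 0)), ((0, 0), (0, 1))), rfl, rfl,
      by decide +kernel, ?_⟩⟩
  · exact Prod.ext (congrArg (·.1.2) e) (Prod.ext (congrArg (·.1.1.1) e) (congrArg (·.2.2.2) e))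
  · rintro ⟨⟨⟨a, b⟩, d, e⟩, ⟨f, g⟩, h, j⟩ hw h1 h2
    simp [sig] at hw
    simp [b8, b4, b2] at h1 h2
    obtain ⟨⟨rfl, rfl, rfl⟩, ⟨-, rfl⟩, -⟩ := hw
    subst h1 h2
    exact i _ _

theorem red0 : ∀ c : X3, c ≠ 0 → ∃ s : X3, s 0 * s 1 * s 2 ≠ 0 ∧ ∃ j < 3,
    ∃ d ∈ ([![1, 0, 0], ![1, 1, 0], ![1, 1, 1]] : List X3),
      ∀ v ∈ bas8, tau c (dg s (sig^[j] v)) = dg s (sig^[j] (tau d v)) := by decide +kernel

theorem red1 : ∀ c : X3, (∀ v ∈ bas8, tau c (sig (tau c (sig (tau c (sig v))))) = v) → ∃ d : X3,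
    ∀ v ∈ bas8, tau c (sig (tau d v)) = tau d (sig v) := by decide +kernel

theorem red2 : ∀ c : X3, (∀ v ∈ bas8, tau c (sig (sig (tau c (sig (sig (tau c (sig (sig v)))))))) = v) → ∃ d : X3,
    ∀ v ∈ bas8, tau c (sig (sig (tau d (sw v)))) = tau d (sw (sig v)) := by decide +kernel

theorem tt_tau {c : X3} (hc : c ≠ 0) : TT b8 (tau c) := by
  obtain ⟨s, hs, j, -, d, hd, e⟩ := red0 c hc
  refine TT.conj sy8 (P := fun v => dg s (sig^[j] v)) (φ := tau d) hs (fun u v => by rw [sigm_add, dg_add])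
    (fun u v => by rw [dg_b, sigm_b]) (ext_v8 (fun u v => by rw [sigm_add, dg_add, tau_add])
      (fun u v => by rw [tau_add, sigm_add, dg_add]) e) ?_
  simp only [List.mem_cons, List.not_mem_nil, or_false] at hd
  rcases hd with rfl | rfl | rfl
  exacts [tt1, tt2, tt3]

theorem tt_std {c : X3} {m : ℕ} (hm : m < 3) (h3 : ∀ v, tau c (sig^[m] (tau c (sig^[m] (tau c (sig^[m] v))))) = v)
    (h1 : ¬ ∀ v, tau c (sig^[m] v) = v) : TT b8 fun v => tau c (sig^[m] v) := by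
  interval_cases m
  · exact tt_tau (by rintro rfl; exact h1 tau_zero)
  · obtain ⟨d, e⟩ := red1 c fun v _ => h3 v
    exact TT.conj sy8 (P := tau d) one_ne_zero (tau_add d) (fun u v => by rw [tau_b, one_mul])
      (ext_v8 (k := fun v => tau c (sig (tau d v))) (fun u v => by rw [tau_add, sig_add, tau_add])
        (fun u v => by rw [sig_add, tau_add]) e) tts
  · obtain ⟨d, e⟩ := red2 c fun v _ => h3 v
    exact TT.conj sy8 (P := fun v => tau d (sw v)) one_ne_zero (fun u v => by rw [sw_add, tau_add])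
      (fun u v => by rw [tau_b, sw_b, one_mul])
      (ext_v8 (k := fun v => tau c (sig (sig (tau d (sw v)))))
        (fun u v => by rw [sw_add, tau_add, sig_add, sig_add, tau_add])
        (fun u v => by rw [sig_add, sw_add, tau_add]) e) tts

theorem soc_im : ∀ c : X3, c ≠ 0 → ∀ a, ∃ x y z : F3,
    tau c (((0, x), (y, 0)), ((z, 0), (0, 0))) - (((0, x), (y, 0)), ((z, 0), (0, 0))) = soc a := by decide +kernel

theorem eqns_on8B : True := by
  have := @soc.eq_1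
  have := @dg.eq_1
  trivial

end H7.F3.On8
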