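import Cfsg.Agent.Lib.F3L.TwoA

/-! Frames whose Sylow subgroup permutes the three planes transitively. -/

set_option autoImplicit false
set_option linter.unusedSectionVars false

namespace H7.F3.Two

open Subgroup H87.Mc Cfsg
open H87.U6 (F3 f3_cases pw_add pw_zero pw_one pw_two pw_neg pw_mul pw_inj mem_zp cj_pw cm_cj)

variable {G : Type*} [Group G] [Finite G]

structure Fs (z : G) (l : V6 → G) (r : Fin 3 → G) (R S : Subgroup G) : Prop extends Fr z l r R S where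
  sig : ∃ σ ∈ S, ∃ c, Ac z l σ fun v => Ym c (pm ro v)

/-- the class of a matrix modulo the quaternion group -/
def kk (a b c d : F3) : F3 := if c = 0 then a * b else (a + d) * c
def kap (m : Mx) : X3 := fun i => kk (m.a i) (m.b i) (m.c i) (m.d i)
def AA : AddSubgroup V6 := AddSubgroup.prod ⊤ ⊥

theorem eqns_kap : True := trivial

theorem kk_mul : ∀ a b c d a' b' c' d' : F3, a * d - b * c = 1 → a' * d' - b' * c' = 1 →
    kk (a * a' + b * c') (a * b' + b * d') (c * a' + d * c') (c * b' + d * d') = kk a b c d + kk a' b' c' d' := by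
  decide +kernel
theorem kk_adj : ∀ a b c d : F3, a * d - b * c = 1 → kk d (-b) (-c) a = -kk a b c d := by decide
theorem kk_zero : ∀ a b c d : F3, a * d - b * c = 1 → kk a b c d = 0 → a + d = 0 ∨ (b = 0 ∧ c = 0) := by decide
theorem inv_scalar : ∀ a b c d : F3, a * d - b * c = 1 → a * a + b * c = 1 → a * b + b * d = 0 → c * a + d * c = 0 →
    b = 0 ∧ c = 0 ∧ d = a := by decide

theorem kap_mul {m n : Mx} (d : m.det1) (d' : n.det1) : kap (m.mul n) = kap m + kap n :=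
  funext fun i => kk_mul _ _ _ _ _ _ _ _ (d i) (d' i)
theorem kap_adj {m : Mx} (d : m.det1) : kap m.adj = -kap m := funext fun i => kk_adj _ _ _ _ (d i)
theorem kap_ym (c : X3) : kap (ym c) = c := funext fun i => by simp [kap, kk, ym]
theorem kap_q8 {m : Mx} (d : m.det1) (e : kap m = 0) : m.q8 := fun i => kk_zero _ _ _ _ (d i) (congrFun e i)

theorem mem_AA {v : V6} : v ∈ AA ↔ v.2 = 0 := by simp [AA, AddSubgroup.mem_prod]
theorem card_AA : Nat.card AA = 27 := by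
  rw [AA, Nat.card_congr (AddSubgroup.prodEquiv _ _).toEquiv]; simp
theorem b6_AA {u v : V6} (hu : u.2 = 0) (hv : v.2 = 0) : b6 u v = 0 := by simp [b6, hu, hv]

theorem invol {z : G} {l : V6 → G} {r : Fin 3 → G} {R : Subgroup G} (F : Fr0 z l r R) {x : G}
    (hx : x ∈ Qs z l ⊔ R) (x2 : x * x = 1) : ∃ s : X3, Ac z l x fun v => (s * v.1, s * v.2) := by
  obtain ⟨n, d, -, a1⟩ := F.memP.1 hx
  have a2 := F.ac_mul a1 a1
  rw [x2] at a2
  have e5 := Mx.eq_of_ap (m := n.mul n) (n := ym 0) fun v => by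
    rw [Mx.ap_mul, F.ac_uniq a2 F.ac_one, ym_ap, Ym_zero, id]
  have s := fun i => inv_scalar _ _ _ _ (d i) (congrFun (congrArg Mx.a e5) i) (congrFun (congrArg Mx.b e5) i)
    (congrFun (congrArg Mx.c e5) i)
  exact ⟨n.a, a1.congr fun v => by ext j <;> simp [Mx.ap, s j]⟩

namespace Fs

variable {z : G} {l : V6 → G} {r : Fin 3 → G} {R S : Subgroup G} (h : Fs z l r R S)
include h

omit [Finite G] in
theorem map {G' : Type*} [Group G'] (f : G ≃* G') :
    Fs (f z) (fun v => f (l v)) (fun i => f (r i)) (R.map f.toMonoidHom) (S.map f.toMonoidHom) :=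
  ⟨h.toFr.map f, let ⟨σ, m, c, a⟩ := h.sig; ⟨f σ, mem_map_of_mem _ m, c, (ac_map f).2 a⟩⟩

theorem adapt {T : Subgroup G} (p : IsPGroup 3 T) (c : ∀ x ∈ T, x * z = z * x) :
    ∃ l' r' R' S', Fs z l' r' R' S' ∧ T ≤ S' ∧ Qs z l' = Qs z l ∧ Qs z l' ⊔ R' = Qs z l ⊔ R := by
  obtain ⟨l', r', R', S', F, le, e1, e2⟩ := h.toFr.adapt p c
  refine ⟨l', r', R', S', ⟨F, ?_⟩, le, e1, e2⟩
  obtain ⟨σ, m, c, a⟩ := h.sig
  obtain ⟨g, gz, e⟩ := F.syl S h.pS fun _ => h.Sz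
  obtain ⟨c', π, e3, b⟩ := F.std _ (e σ m)
  by_cases e4 : π = 1
  · exfalso
    subst e4
    have gz' := (show Commute g z from gz).inv_left.eq
    obtain ⟨s, a1⟩ := invol F.toFr0 (F.nP gz (x := r 0) (by rw [e2]; exact mem_sup_right (h.rR 0)))
      (by rw [conj_mul, h.r2, mul_one, mul_inv_cancel])
    have q := F.div_memQ (F.ac_mul b a1) ((F.ac_mul a1 b).congr fun v => by
      simp only [Ym, pm_one, Prod.mk.injEq, and_true]; ring)
    have q2 := F.nQ' gz' q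
    rw [e1, show g⁻¹ * ((g * σ * g⁻¹ * (g * r 0 * g⁻¹))⁻¹ * (g * r 0 * g⁻¹ * (g * σ * g⁻¹))) * g⁻¹⁻¹ =
      (σ * r 0)⁻¹ * (r 0 * σ) by group] at q2
    have a3 := h.ac_mul (h.ac_mul a (h.er 0).ac) (h.ac_Q q2)
    rw [mul_inv_cancel_left] at a3
    have := congrArg Prod.snd (h.ac_uniq a3 (h.ac_mul (h.er 0).ac a) (0, 1))
    revert this
    simp only [Ym, pm, ng, id]
    decide
  · obtain ⟨c'', b' | b'⟩ := to_ro F e3 e4 b
    exacts [⟨_, e σ m, _, b'⟩, ⟨_, inv_mem (e σ m), _, b'⟩]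

theorem cst {x : G} (hx : x ∈ S) {c : X3} (b : Ac z l x (Ym c)) : ∃ k : F3, c = fun _ => k :=
  let ⟨_, m, _, a⟩ := h.sig; cst' h.toFr a b (h.comm_mem h.pS (fun _ => h.Sz) m hx)

theorem full {g : G} {v : V6} {k : F3} (e : g * z * g⁻¹ = qq z l v k) (v0 : v ≠ 0) (i : Fin 3) :
    v.1 i ≠ 0 ∨ v.2 i ≠ 0 := by
  have F' := h.toFr.map (MulAut.conj g)
  rw [MulAut.conj_apply] at F'
  obtain ⟨l1, r1, R1, S1, F, le, e1, e2⟩ := h.toFr.adapt
    (T := Qs (g * z * g⁻¹) (fun v => MulAut.conj g (l v)) ⊓ centralizer {z}) F'.pgQ.to_inf_left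
    fun x hx => mem_centralizer_singleton_iff.1 hx.2
  obtain ⟨-, -, a, m, a0, e3⟩ := step2 F F' (by rw [e1, e]; exact qQ _ _) (by rw [e]; exact fun c => v0 (h.q_zp c)) le
  by_contra! hn
  have c : r i * (g * z * g⁻¹) * (r i)⁻¹ = g * z * g⁻¹ := by
    rw [e, h.rq]
    congr 1
    ext j <;> by_cases hj : j = i <;> simp [ng, sg, hj, hn]
  obtain ⟨s, a1⟩ := invol F.toFr0 (x := r i) (by rw [e2]; exact mem_sup_right (h.rR i)) (h.r2 i)
  obtain ⟨m', e6⟩ := F.ac_q' a1 (fun _ => a, 0)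
  rw [e3] at c
  have e7 := congrArg Prod.fst (F.q_inj ((e6 m).symm.trans c)).1
  have e8 : s = 1 := funext fun j => (by decide : ∀ x a : F3, a ≠ 0 → x * a = a → x = 1) _ a a0 (congrFun e7 j)
  exact h.rne i (h.R_inf_Q (h.rR i) (by rw [← e1]; exact F.memQ_of_ac (a1.congr fun v => by simp [e8])))

theorem kap_cst {g : G} {m : Mx} (d : m.det1) (a : Ac z l g m.ap) : ∃ k : F3, kap m = fun _ => k := by
  have d2 := d.mul d
  have d3 := d2.mul d
  have d4 := d2.mul d2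
  have a2 : Ac z l (g * g) (m.mul m).ap := (h.ac_mul a a).congr fun v => (Mx.ap_mul _ _ v).symm
  have a3 : Ac z l (g * g * g) ((m.mul m).mul m).ap := (h.ac_mul a2 a).congr fun v => (Mx.ap_mul _ _ v).symm
  have a4 : Ac z l (g * g * (g * g)) ((m.mul m).mul (m.mul m)).ap :=
    (h.ac_mul a2 a2).congr fun v => (Mx.ap_mul _ _ v).symm
  have t : ∀ u : X3, u + u + u = 0 := by decide
  have q := h.Q3 (h.memQ_of_ac ((h.ac_pow a3 4).congr
    ((kap_q8 d3 (by rw [kap_mul d2 d, kap_mul d d, t])).four d3)))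
  obtain ⟨x, xz, e⟩ := h.syl (zpowers (g * g * (g * g))) (pgz (p := 3) (k := 2) (by
    rw [← q]; simp only [← pow_two, ← pow_succ, ← pow_mul]; rfl)) fun y hy => by
      obtain ⟨n, rfl⟩ := hy
      exact ((show Commute _ z from a4.1).zpow_left n).eq
  obtain ⟨π, n, dn, an⟩ := h.mon x xz
  have b := (h.ac_mul (h.ac_mul an a4) (h.mono_inv dn an)).congr h.mono_conj
  obtain ⟨c, π', -, b'⟩ := h.std _ (e _ (mem_zpowers _))
  obtain ⟨rfl, e2⟩ := Mx.mono_uniq (π := π') (π' := 1) (ym_det c) fun v => (ym_ap _ _).trans (h.ac_uniq b' b v)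
  obtain ⟨k, rfl⟩ := h.cst (e _ (mem_zpowers _)) b'
  have := congrArg kap e2
  rw [kap_ym, kap_mul (dn.mul (d4.pr π)) dn.adj, kap_mul dn (d4.pr π), kap_adj dn, add_right_comm, add_neg_cancel,
    zero_add] at this
  refine ⟨k, funext fun i => ?_⟩
  have e3 := congrFun this (π⁻¹ i)
  have e4 := kap_mul d2 d2
  rw [kap_mul d d, ← add_assoc, t, zero_add] at e4
  rw [← e4]
  simpa [kap, Mx.pr] using e3.symm

theorem dg {y : G} (ey : Ac z l y (Ym 1)) (g : G) (m : Mx) (d : m.det1) (a : Ac z l g m.ap) :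
    ∃ ρ ∈ R, ∃ k : F3, Ac z l (ρ * y ^ k.val) m.ap := by
  obtain ⟨k, e⟩ := h.kap_cst d a
  have b : Ac z l (y ^ k.val) (Ym fun _ => k) := (h.ac_pow ey _).congr fun v => by
    rcases f3_cases k with rfl | rfl | rfl
    · exact (Ym_zero v).symm
    · rfl
    · exact Ym_Ym _ _ v
  obtain ⟨ρ, hρ, c⟩ := h.Rmax (g * (y ^ k.val)⁻¹) (m.mul (ym (-fun _ => k))) (d.mul (ym_det _))
    (kap_q8 (d.mul (ym_det _)) (by rw [kap_mul d (ym_det _), kap_ym, e, add_neg_cancel]))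
    ((h.ac_mul a (Ym_neg h.toFr b)).congr fun v => by rw [Mx.ap_mul, ym_ap])
  exact ⟨ρ, hρ, k, (h.ac_mul c b).congr fun v => by rw [Mx.ap_mul, ym_ap, Ym_Ym, neg_add_cancel, Ym_zero]⟩

/-- the abelian subgroup of order `3 ^ 5` -/
theorem abJ {J : Subgroup G} (hJ : J ≤ S) (zJ : z ∈ J) (ab : ∀ x ∈ J, ∀ y ∈ J, x * y = y * x)
    (c : 243 ≤ Nat.card J) : (∀ x ∈ J, ∃ k : F3, Ac z l x (Ym fun _ => k)) ∧ h.bar J = AA := by
  have := h.finV
  have k1 := h.iso_le (h.bar_iso ab)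
  have k2 := h.card_bar zJ
  have k3 := h.idx9 (h.pS.to_le hJ) fun x hx => h.Sz (hJ hx)
  rw [card_V6] at k1
  have k4 : Nat.card (h.bar J) ≤ 27 := by nlinarith
  have fx : ∀ x ∈ J, ∀ φ, Ac z l x φ → ∀ v ∈ h.bar J, φ v = v := fun x hx φ a v ⟨m, hm⟩ => by
    obtain ⟨n, e⟩ := h.ac_q' a v
    exact (h.q_inj ((e m).symm.trans (cm_cj.1 (ab _ hx _ hm)))).1
  have f1 : ∀ x ∈ J, Ac z l x (Ym 1) → h.bar J ≤ AA := fun x hx a v hv =>
    mem_AA.2 (by simpa [Ym] using congrArg Prod.fst (fx x hx _ a v hv))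
  have nQ : ∀ x ∈ J, ∀ c, Ac z l x (Ym c) → x ∉ Qs z l → h.bar J ≤ AA := fun x hx c a hq => by
    obtain ⟨k, rfl⟩ := h.cst (hJ hx) a
    rcases to_one h.toFr a hq with b | b
    exacts [f1 _ hx b, f1 _ (inv_mem hx) b]
  have np : ∀ x ∈ J, ∀ c, ¬ Ac z l x fun v => Ym c (pm ro v) := fun x hx c a => by
    have e : ∀ v ∈ h.bar J, (∃ k : F3, v.2 = fun _ => k) ∧ ∀ i, v.1 (i + 1) + c i * v.2 (i + 1) = v.1 i := fun v hv => by
      have := fx x hx _ a v hv
      exact ⟨cst_of _ (congrArg Prod.snd this), fun i => by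
        simpa [Ym, pm, ro_apply] using congrFun (congrArg Prod.fst this) i⟩
    have inj : Function.Injective fun v : h.bar J => (v.1.1 0, v.1.2 0) := fun u v e' => by
      obtain ⟨⟨k, e1⟩, e2⟩ := e u u.2
      obtain ⟨⟨k', e3⟩, e4⟩ := e v v.2
      obtain ⟨e5, e6⟩ := Prod.mk.inj e'
      rw [e1, e3] at e6
      subst e6
      refine Subtype.ext (Prod.ext (funext fun i => ?_) (e1.trans e3.symm))
      have a0 := e2 0; have a2 := e2 2; have b0 := e4 0; have b2 := e4 2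
      rw [e1] at a0 a2
      rw [e3] at b0 b2
      fin_cases i
      · exact e5
      · exact add_right_cancel (a0.trans (e5.trans b0.symm))
      · exact a2.symm.trans ((congrArg (· + _) e5).trans b2)
    by_cases hd : ∃ y ∈ J, ∃ c, Ac z l y (Ym c) ∧ y ∉ Qs z l
    · obtain ⟨y, hy, c', b, hq⟩ := hd
      have := Nat.card_le_card_of_injective (fun v : h.bar J => v.1.1 0) fun u v e' =>
        inj (Prod.ext e' (by simp only [mem_AA.1 (nQ y hy c' b hq u.2), mem_AA.1 (nQ y hy c' b hq v.2)]))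
      rw [Nat.card_zmod] at this
      omega
    · push Not at hd
      have k5 := card_perm h.toFr hJ (E := J ⊓ Qs z l) fun x hx c a => ⟨hx, hd x hx c a⟩
      have := Nat.card_le_card_of_injective _ inj
      rw [Nat.card_prod, Nat.card_zmod] at this
      omega
  have dgl : ∀ x ∈ J, ∃ k : F3, Ac z l x (Ym fun _ => k) := fun x hx => by
    obtain ⟨c, π, e, a⟩ := h.std x (hJ hx)
    by_cases e1 : π = 1
    · subst e1
      obtain ⟨k, rfl⟩ := h.cst (hJ hx) a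
      exact ⟨k, a⟩
    · obtain ⟨c', b | b⟩ := to_ro h.toFr e e1 a
      exacts [absurd b (np _ hx _), absurd b (np _ (inv_mem hx) _)]
  refine ⟨dgl, ?_⟩
  have k5 := card_diag h.toFr (T := J) (E := J ⊓ Qs z l) 0 (fun x hx => let ⟨_, a⟩ := dgl x hx; ⟨_, a⟩)
    fun x hx c a e => by
      obtain ⟨k, rfl⟩ := h.cst (hJ hx) a
      obtain rfl : k = 0 := e
      exact ⟨hx, Ym_Q h.toFr a⟩
  obtain ⟨x, hx, hq⟩ := exists_not_mem (A := J) (B := J ⊓ Qs z l) (by omega)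
  obtain ⟨k, a⟩ := dgl x hx
  exact AddSubgroup.eq_of_le_of_card_ge (nQ x hx _ a fun e => hq ⟨hx, e⟩) (by rw [card_AA]; omega)

end Fs

end H7.F3.Two
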