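import Cfsg.Agent.Lib.F3L.IniB
import Cfsg.Agent.Lib.Comp.FStar
import Cfsg.Prelude.Def_Transfer

/-! The starting frame of the 3-local configuration of `Fi₂₂`. -/

set_option autoImplicit false

namespace H7.F3

open Subgroup Cfsg
open H87.U6 (F3 mem_zp)
open H87.U6.IB (exsp up_zp exists_z cent_zp)

namespace Ini

section
variable {X : Type*} [Group X] {H : Subgroup X} {z : H} {l : V6 → H}

theorem up_ex {t g : H} {φ : V6 → V6} (a : Ex z l t g φ) : Ex (z : X) (fun v => l v) t g φ :=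
  ⟨congrArg Subtype.val a.cz, congrArg Subtype.val a.ct, fun v => congrArg Subtype.val (a.act v)⟩

theorem up_ac {g : H} {φ : V6 → V6} : Ac (z : X) (fun v => l v) g φ ↔ Ac z l g φ :=
  ⟨fun a => ⟨Subtype.ext a.1, fun v => (a.2 v).imp fun _ e => Subtype.ext e⟩,
    fun a => ⟨congrArg Subtype.val a.1, fun v => (a.2 v).imp fun _ => congrArg Subtype.val⟩⟩

theorem up_Q : Qs (z : X) (fun v => l v) = (Qs z l).map H.subtype := by
  rw [Qs, Qs, MonoidHom.map_closure, Set.image_insert_eq, ← Set.range_comp]; rfl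

theorem up {r : Fin 3 → H} {R : Subgroup H} (h : Fr0 z l r R) (hH : ∀ g : X, g * z = z * g → g ∈ H) :
    Fr0 (z : X) (fun v => l v) (fun i => r i) (R.map H.subtype) where
  toSy := h.toSy
  z3 := congrArg Subtype.val h.z3
  z1 e := h.z1 (Subtype.ext e)
  lz v := congrArg Subtype.val (h.lz v)
  lmul u v := congrArg Subtype.val (h.lmul u v)
  linj v e := h.linj v (up_zp.1 e)
  nQ g hg v := (h.nQ ⟨g, hH g hg⟩ (Subtype.ext hg) v).imp fun _ => Exists.imp fun _ => congrArg Subtype.val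
  cQ g hg e := up_zp.2 (h.cQ ⟨g, hH g hg⟩ (Subtype.ext hg) fun v => Subtype.ext (e v))
  t2 := congrArg Subtype.val h.t2
  tz := congrArg Subtype.val h.tz
  tl v := congrArg Subtype.val (h.tl v)
  r2 i := congrArg Subtype.val (h.r2 i)
  rR i := mem_map_of_mem _ (h.rR i)
  er i := up_ex (h.er i)
  mon g hg := let ⟨π, m, d, a⟩ := h.mon ⟨g, hH g hg⟩ (Subtype.ext hg); ⟨π, m, d, up_ac.2 a⟩
  cR := (card_map_of_injective H.subtype_injective).trans h.cR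
  eR := by
    rintro _ ⟨ρ, hρ, rfl⟩
    obtain ⟨m, d, q, a⟩ := h.eR ρ hρ
    exact ⟨m, d, q, up_ex a⟩
  Rmax g m d q a :=
    let ⟨ρ, hρ, b⟩ := h.Rmax ⟨g, hH g a.1⟩ m d q (up_ac.1 a); ⟨ρ, mem_map_of_mem _ hρ, up_ac.2 b⟩

end

theorem nonab {X : Type*} [Group X] {K : Subgroup X} (h : IsExtraspecial 3 K) : ∃ a ∈ K, ∃ b ∈ K, a * b ≠ b * a := by
  by_contra! n
  have : _root_.commutator K = ⊥ := commutator_eq_bot_iff_le_centralizer.2 fun a _ b _ =>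
    Subtype.ext (n b b.2 a a.2)
  have e := h.2
  rw [← h.1.2.2, this, card_bot] at e
  exact absurd e (by norm_num)

theorem exists_R {X : Type*} [Group X] [Finite X] {Q : Subgroup X} [Q.Normal] (hc : Nat.card Q = 3 ^ 7)
    {M : Subgroup (X ⧸ Q)} (hM : Nat.card M = 2 ^ 7) : ∃ R : Subgroup X, R ≤ M.comap (QuotientGroup.mk' Q) ∧
      Nat.card R = 128 ∧ ∀ x ∈ M.comap (QuotientGroup.mk' Q), ∃ ρ ∈ R, ∃ q ∈ Q, x = ρ * q := by
  set P := M.comap (QuotientGroup.mk' Q)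
  have QP : Q ≤ P := fun x hx => by simp [P, (QuotientGroup.eq_one_iff x).2 hx]
  have i : (Q.subgroupOf P).index = 2 ^ 7 := by
    have := relIndex_ker P (QuotientGroup.mk' Q)
    rwa [QuotientGroup.ker_mk', map_comap_eq_self_of_surjective (QuotientGroup.mk'_surjective Q), hM] at this
  obtain ⟨R, c⟩ := exists_left_complement'_of_coprime (N := Q.subgroupOf P) (by
    rw [i, Nat.card_congr (subgroupOfEquivOfLe QP).toEquiv, hc]; norm_num)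
  refine ⟨R.map P.subtype, map_subtype_le R, ?_, fun x hx => ?_⟩
  · rw [card_map_of_injective P.subtype_injective, ← c.index_eq_card, i]; rfl
  · obtain ⟨⟨ρ, q⟩, e, -⟩ := IsComplement.existsUnique c ⟨x, hx⟩
    exact ⟨_, mem_map_of_mem _ ρ.2, _, q.2, (congrArg Subtype.val e).symm⟩

end Ini

open Ini

variable {G : Type*} [Group G] [Finite G]

theorem ini (H : Subgroup G) (Q : Subgroup H) (hQF : Q = Cfsg.generalizedFittingSubgroup H) [hQn : Q.Normal]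
    (hQex : Cfsg.IsExtraspecial 3 Q) (hQcard : Nat.card Q = 3 ^ 7)
    (hZZ : (Subgroup.center Q).map Q.subtype = Subgroup.center H)
    (P : Subgroup H) (hP : P = (Cfsg.pCore 2 (H ⧸ Q)).comap (QuotientGroup.mk' Q))
    (hPcard : Nat.card (Cfsg.pCore 2 (H ⧸ Q)) = 2 ^ 7)
    (Q₁ Q₂ Q₃ : Subgroup H) (hle : Q₁ ≤ Q ∧ Q₂ ≤ Q ∧ Q₃ ≤ Q)
    (hZle : Subgroup.center H ≤ Q₁ ∧ Subgroup.center H ≤ Q₂ ∧ Subgroup.center H ≤ Q₃)
    (hex : Cfsg.IsExtraspecial 3 Q₁ ∧ Cfsg.IsExtraspecial 3 Q₂ ∧ Cfsg.IsExtraspecial 3 Q₃)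
    (hcard : Nat.card Q₁ = 27 ∧ Nat.card Q₂ = 27 ∧ Nat.card Q₃ = 27)
    (hcomm : (∀ a ∈ Q₁, ∀ b ∈ Q₂, a * b = b * a) ∧ (∀ a ∈ Q₁, ∀ b ∈ Q₃, a * b = b * a) ∧ (∀ a ∈ Q₂, ∀ b ∈ Q₃, a * b = b * a))
    (hprod : Q₁ ⊔ Q₂ ⊔ Q₃ = Q)
    (hnorm : ∀ x ∈ P, ∀ Qᵢ ∈ [Q₁, Q₂, Q₃], ∀ q ∈ Qᵢ, x * q * x⁻¹ ∈ Qᵢ)
    (hexp4 : ∀ x ∈ P, ∀ Qᵢ ∈ [Q₁, Q₂, Q₃], ∀ q ∈ Qᵢ, x ^ 4 * q * (x ^ 4)⁻¹ * q⁻¹ ∈ Subgroup.center H)
    (hinv : ∀ x ∈ P, ∀ Qᵢ ∈ [Q₁, Q₂, Q₃], (∀ q ∈ Qᵢ, x ^ 2 * q * (x ^ 2)⁻¹ * q⁻¹ ∈ Subgroup.center H) →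
      (∀ q ∈ Qᵢ, x * q * x⁻¹ * q⁻¹ ∈ Subgroup.center H) ∨ (∀ q ∈ Qᵢ, x * q * x⁻¹ * q ∈ Subgroup.center H))
    (hcent : ∀ Qᵢ ∈ [Q₁, Q₂, Q₃], ∃ x ∈ P, (∀ q ∈ Qᵢ, x * q * x⁻¹ * q ∈ Subgroup.center H) ∧
      ∀ Qⱼ ∈ [Q₁, Q₂, Q₃], Qⱼ ≠ Qᵢ → ∀ q ∈ Qⱼ, x * q * x⁻¹ * q⁻¹ ∈ Subgroup.center H)
    (Z : Subgroup G) (hZ : Z = (Subgroup.center H).map H.subtype) (hHC : H = Subgroup.centralizer (Z : Set G)) :
    ∃ z l r R, Fr0 z l r R ∧ O3 z l ∧ Z = zpowers z ∧ Qs z l ≤ (Cfsg.pCore 3 H).map H.subtype := by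
  have : Fact (Nat.Prime 3) := ⟨by norm_num⟩
  obtain ⟨z, z1, ez⟩ := exists_z (Z := center H) (by
    rw [← hZZ, card_map_of_injective Q.subtype_injective, hQex.2])
  have zc : ∀ g, g * z = z * g := mem_center_iff.1 (ez ▸ mem_zpowers z)
  have zQ : z ∈ Q := map_subtype_le _ (hZZ ▸ ez ▸ mem_zpowers z)
  obtain ⟨z3, cm, cq⟩ := exsp hQex zQ z1 fun q _ => zc q
  obtain ⟨R, RP, cR, QR⟩ := exists_R hQcard hPcard
  let K : Fin 3 → Subgroup H := ![Q₁, Q₂, Q₃]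
  have mK : ∀ i, K i ∈ [Q₁, Q₂, Q₃] := fun i => by fin_cases i <;> simp [K]
  have nab : ∀ i, ∃ a ∈ K i, ∃ b ∈ K i, a * b ≠ b * a := fun i => by
    fin_cases i
    exacts [nonab hex.1, nonab hex.2.1, nonab hex.2.2]
  have cc : ∀ i j, i ≠ j → ∀ a ∈ K i, ∀ b ∈ K j, a * b = b * a := fun i j ij a ha b hb => by
    fin_cases i <;> fin_cases j
    exacts [absurd rfl ij, hcomm.1 a ha b hb, hcomm.2.1 a ha b hb, (hcomm.1 b hb a ha).symm, absurd rfl ij,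
      hcomm.2.2 a ha b hb, (hcomm.2.1 b hb a ha).symm, (hcomm.2.2 b hb a ha).symm, absurd rfl ij]
  rw [ez] at hZ hZle hexp4 hinv hcent
  subst hP
  have h : Hy z Q _ R K :=
    { z3 := z3, z1 := z1, zc := zc, nQ := hQn, nP := Normal.comap inferInstance _
      cQ := fun g e => cq g (hQF ▸ H23.centralizer_fStar_le (hQF ▸ fun q hq => (e q hq).symm)) e
      cm := cm, card := hQcard
      le := fun i => by fin_cases i; exacts [hle.1, hle.2.1, hle.2.2]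
      zK := fun i => by
        fin_cases i; exacts [hZle.1 (mem_zpowers z), hZle.2.1 (mem_zpowers z), hZle.2.2 (mem_zpowers z)]
      nab := nab, cc := cc
      gen := fun S e => hprod ▸ sup_le (sup_le (e 0) (e 1)) (e 2)
      nrm := fun x hx i => hnorm x hx _ (mK i)
      e4 := fun x hx i => hexp4 x hx _ (mK i)
      inv := fun x hx i => hinv x hx _ (mK i)
      cen := fun i => (hcent _ (mK i)).imp fun x hx => ⟨hx.1, hx.2.1, fun j ji => hx.2.2 _ (mK j) fun e =>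
        let ⟨a, ha, b, hb, n⟩ := nab i; n (cc j i ji a (e ▸ ha) b hb)⟩
      RP := RP, cR := cR, QR := QR
      max := fun N nN e => map_le_iff_le_comap.1 (le_sSup ⟨nN.map _ (QuotientGroup.mk'_surjective Q), by
        rintro ⟨_, g, hg, rfl⟩
        exact ⟨2, Subtype.ext ((QuotientGroup.eq_one_iff _).2 (e g hg))⟩⟩) }
  obtain ⟨l, r, f, eQ⟩ := h.exists_fr0
  rw [MonoidHom.map_zpowers] at hZ
  have mH : ∀ g : G, g * z = z * g → g ∈ H := fun g hg => by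
    rw [hHC, hZ, cent_zp, mem_centralizer_singleton_iff]; exact hg
  refine ⟨z, _, _, _, up f mH, fun N p c n x hx => ?_, hZ, ?_⟩
  · rw [up_Q, eQ, hQF]
    have : (N.subgroupOf H).Normal := ⟨fun y hy g => n g (congrArg Subtype.val (zc g)) y hy⟩
    exact ⟨⟨x, mH x (c x hx)⟩, H23.pCore_le_fStar 3 (H1.le_pCore (N := N.subgroupOf H) p.comap_subtype hx), rfl⟩
  · rw [up_Q, eQ]
    exact map_mono (le_sSup ⟨hQn, hQex.1.1⟩)

end H7.F3
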