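import Mathlib
import Cfsg.Agent.Lib.FiI.Main
import Cfsg.Agent.Lib.StdFi.Aut
import Cfsg.Agent.Lib.Fi22I.Sig

/-!
Outer automorphisms of the group of type M(22) that fix a transposition.
-/

set_option autoImplicit false
set_option maxRecDepth 100000

namespace H96.FA

open Subgroup Cfsg H54 H94 H56 H96.F22 H96.Lab H80.FI

theorem cov72 : cover [[50], [583], [2692], [172], [2609], [47], [336]] 71 0x3030414764b2602a4db04d9c2d9c4a634a323a323a831a833a30302c53e66cbc57886d7d5d7d595d500a57916cb96d755d754247324722476498634e534e633f533f433f65605bf760126c0e5c0e1c0e0c0e6585610a510a110a6c0d5c0d4c0d1c0d5bfb3bfb686853fb43fb23fb56360636501a401a560f460f360f060f596b096b510d410d310d210d110d602f 47 (fixT [3510, 43, 47]) = true := by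
  decide +kernel

theorem k1_chk : allLt (fun j => bimp (cmL [47, 553, 424, 50, 1710, 1062] j) (bor (Nat.beq j 43) (Nat.beq j 47)))
    3510 = true := by decide +kernel

theorem cnt63 : cntLt (fun i => band (fixT [3510] i) (nbr [43] [43] i)) 3510 = 63 := by decide +kernel

variable {F : Type*} [Group F] {E : Set F} (M : Model22 F E)

include M in
/-- a transposition is not a square in the automorphism group -/
theorem nsqA {x : F} (hx : x ∈ E) (φ : MulAut F) : φ * φ ≠ MulAut.conj x := by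
  intro h2
  let φ' : AD E := ⟨φ, mem_AD_all M φ⟩
  have h2' : φ' * φ' = cD M x := Subtype.ext h2
  have hP : IsPGroup 2 (zpowers φ') := by
    rintro ⟨_, k, rfl⟩
    refine ⟨2, Subtype.ext ?_⟩
    show (φ' ^ k) ^ (2 ^ 2) = 1
    rw [← zpow_natCast, ← zpow_mul, mul_comm, zpow_mul, zpow_natCast,
      show φ' ^ 2 ^ 2 = φ' * φ' * (φ' * φ') by simp [pow_succ, mul_assoc], h2', ← map_mul, M.tt.mul_self hx, map_one,
      one_zpow]
  obtain ⟨ψ, hψ⟩ := sylow_conj M hP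
  have ht := hψ _ (mem_zpowers _)
  have e0 : ψ * φ' * ψ⁻¹ * (ψ * φ' * ψ⁻¹) = cD M (ψ.1 x) := by
    rw [show ∀ x : AD E, ψ * x * ψ⁻¹ * (ψ * x * ψ⁻¹) = ψ * (x * x) * ψ⁻¹ from fun x => by group, h2']
    exact Subtype.ext (conj_map ψ.1 x)
  generalize ψ * φ' * ψ⁻¹ = t at ht e0
  have hB : ψ.1 x ∈ Bset M := mem_Bset_of M ((ψ.2 x).2 hx) (N0_base M (T0_le M (e0 ▸ mul_mem ht ht)))
  have X := ctxB M
  obtain ⟨p, r, hp⟩ := (good_T0 M).forall_of_allElts X inv_chk t ht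
  simp only [invP, bimp_eq_true, anyL_iff, band_eq_true, force_eq] at hp
  obtain ⟨e, -, -, h3, k, hk, h4⟩ := hp ((r.mul X r).eqc_of_eq X fun k hk => ⟨(rep_one (G := AD E) X k hk).1, by
    rw [← (rep_one (G := AD E) X k hk).2, one_smul, e0]
    exact conj_eq_self_iff.2 (Bset_comm M hB ((mem_Bset M).2 ⟨k, hk, rfl⟩))⟩)
  obtain ⟨n, hn, rn⟩ := (good_N0 M).in_of_memb X h3
  have hk' : k < 4 := by simp only [List.mem_cons, List.not_mem_nil, or_false] at hk; omega
  obtain ⟨a1, a2, a3⟩ := u_spec M hk'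
  have h5 := RepF.unique (g := aD M a1) a2 ((rn.conj X r).of_eqc X h4)
  obtain ⟨i, hi, ho, -, e2⟩ := base_aut M (Subtype.property _) ((mem_KB M).1 h5)
  have e3 : ((n * t * n⁻¹ : AD E) : MulAut F) = a M (uW k ++ bw i) := by
    rw [a_append, a_eq_conj M (vG_bw hi ho), ← e2]
    simp [aD]
  have v := vA_u_bw hk' hi ho
  obtain ⟨j, hj, e4⟩ := (N0_base M hn _).2 hB
  have h6 := (allLt_iff _ _).1 ((allLt_iff _ _).1 nsq_chk k hk') i hi
  simp only [bimp_eq_true, force_eq, allL_iff, Bool.not_eq_true', ← Bool.not_eq_true, Nat.beq_eq] at h6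
  refine h6 ho j hj (M.x_inj (ev_lt M (BL_lt hj) (by norm_num)) ?_ ?_)
  · rw [evw_append]; exact evw_lt M v (evw_lt M v (by norm_num))
  · rw [evw_append, ← a_x M v (evw_lt M v (by norm_num)), ← a_x M v (by norm_num), ← e3, ← MulAut.mul_apply,
      ← coe_mul, show n * t * n⁻¹ * (n * t * n⁻¹) = n * (t * t) * n⁻¹ by group, e0, ← x_ev M (BL_lt hj) (by norm_num)]
    show _ = (n.1 * MulAut.conj (ψ.1 x) * n.1⁻¹) _
    rw [conj_map, ← e4, MulAut.conj_apply, x_inv M (BL_lt hj)]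

include M in
theorem centA {x : F} (hx : x ∈ E) {φ : MulAut F} (h1 : φ x = x) (h2 : ∀ y ∈ Dc E x, φ y = y) :
    φ = 1 ∨ φ = MulAut.conj x := by
  obtain ⟨M, rfl⟩ := model1 M hx
  obtain ⟨i, -, -, -, e⟩ := base_aut M (mem_AD_all M φ) ((mem_FxA M).2 fun j hj => by
    by_cases e : M.x j = M.x 43
    · rw [e, h1]
    · exact h2 _ ⟨M.x_mem (BL_lt hj), e, BL_comm M (by decide) hj⟩)
  subst e
  rcases (sys22 M hx).cent _ (conj_eq_self_iff.1 h1) fun y hy => conj_eq_self_iff.1 (h2 y hy) with e | e <;> rw [e]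
  exacts [Or.inl (map_one _), Or.inr rfl]

theorem sig43 : sig M (M.x 43) = M.x 43 := a_s M ▸ mem_fixS.1 (x43_Cs M)
theorem sig47 : sig M (M.x 47) = M.x 47 := a_s M ▸ mem_fixS.1 (x47_Cs M)
theorem cm4347 : Commute (M.x 43) (M.x 47) := BL_comm M (by decide) (by decide)

include M in
theorem fixA {φ : MulAut F} (h : φ * φ = 1) : ∃ x ∈ E, φ x = x := by
  by_cases hi : ∃ g, MulAut.conj g = φ
  · obtain ⟨g, rfl⟩ := hi
    obtain ⟨x, hx, c⟩ := fix22' M (t := g) (conj_injective M (by rw [map_mul, h, map_one]))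
    exact ⟨x, hx, conj_eq_self_iff.2 c⟩
  have key : ∀ g, Commute g (M.x 43) → IsConj φ (sig M * MulAut.conj g) → ∃ x ∈ E, φ x = x := fun g c k => by
    obtain ⟨χ, e⟩ := isConj_iff.1 k
    refine ⟨χ⁻¹ (M.x 43), (mem_AD_all M χ⁻¹ _).2 (M.x_mem (by norm_num)), χ.injective ?_⟩
    have := congrArg (· (M.x 43)) e
    simp only [MulAut.mul_apply, MulAut.conj_apply, conj_eq_self_iff.2 c, sig43] at this
    rw [this, MulAut.apply_inv_self]
  rcases outer_classes M h fun g e => hi ⟨g, e⟩ with k | k | k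
  · exact key 1 (Commute.one_left _) (by rwa [map_one, mul_one])
  · exact key _ (Commute.refl _) k
  · exact key _ ((Commute.refl _).mul_left (cm4347 M).symm) k

/-- normal form of the outer involutions fixing a transposition -/
theorem nf_out {ψ : MulAut F} (h1 : ψ (M.x 47) = M.x 47) (h2 : ψ * ψ = 1) (ho : ∀ g, MulAut.conj g ≠ ψ) :
    ∃ χ : MulAut F, χ (M.x 47) = M.x 47 ∧ ∃ ψ₀, (ψ₀ = sig M ∨ ψ₀ = sig M * MulAut.conj (M.x 43)) ∧
      (χ * ψ * χ⁻¹ = ψ₀ ∨ χ * ψ * χ⁻¹ = ψ₀ * MulAut.conj (M.x 47)) := by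
  have m47 := M.x_mem (j := 47) (by norm_num)
  obtain ⟨v, hv, ev⟩ := transS1 M m47 (x47_Cs M)
  have cs : ∀ {u}, u ∈ Cs M → ∀ g, MulAut.conj u * (sig M * MulAut.conj g) * (MulAut.conj u)⁻¹ =
      sig M * MulAut.conj (u * g * u⁻¹) := fun {u} hu g => by
    have := (mem_fixS' M).1 hu
    rw [a_s] at this
    rw [← mul_assoc, this, map_mul, map_mul, map_inv]; group
  have key : ∀ {χ τ : MulAut F}, χ * ψ * χ⁻¹ = τ → χ (M.x 47) ∈ E ∧ τ (χ (M.x 47)) = χ (M.x 47) := fun {χ τ} e =>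
    ⟨(mem_AD_all M χ _).2 m47, by rw [← e]; simp [h1]⟩
  have fin : ∀ {χ τ : MulAut F} {u : F}, χ * ψ * χ⁻¹ = τ → u * χ (M.x 47) * u⁻¹ = M.x 47 →
      (MulAut.conj u * χ) (M.x 47) = M.x 47 ∧
        MulAut.conj u * χ * ψ * (MulAut.conj u * χ)⁻¹ = MulAut.conj u * τ * (MulAut.conj u)⁻¹ :=
    fun {χ τ u} e e' => ⟨e', by rw [← e]; group⟩
  rcases outer_classes M h2 ho with k | k | k <;> obtain ⟨χ, e⟩ := isConj_iff.1 k <;> obtain ⟨k1, k2⟩ := key e
  · obtain ⟨u, hu, eu⟩ := transS1 M k1 (by rw [Cs, a_s]; exact k2)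
    obtain ⟨f1, f2⟩ := fin (u := v * u⁻¹) e (by rw [← eu, ← ev]; group)
    refine ⟨_, f1, _, Or.inl rfl, Or.inl (f2.trans ?_)⟩
    simpa using cs (mul_mem hv (inv_mem hu)) 1
  · have k3 := (fix_sa M).1 (show χ (M.x 47) ∈ fixS (a M [3510, 43]) by rw [a_sa]; exact k2)
    by_cases e1 : χ (M.x 47) = M.x 43
    · obtain ⟨f1, f2⟩ := fin (u := v) e (by rw [e1, ev])
      exact ⟨_, f1, _, Or.inl rfl, Or.inr (by rw [f2, cs hv, ev])⟩
    · obtain ⟨u, hu, e2, e3⟩ := transS2 M ⟨M.x_mem (j := 43) (by norm_num), k1, Ne.symm e1,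
        (mem_centralizer_singleton_iff.1 k3.2).symm⟩ (x43_Cs M) k3.1
      obtain ⟨f1, f2⟩ := fin (u := u⁻¹) e (by rw [← e3]; group)
      refine ⟨_, f1, _, Or.inr rfl, Or.inl (f2.trans ((cs (inv_mem hu) _).trans ?_))⟩
      conv_lhs => rw [← e2]
      congr 2; group
  · obtain ⟨i, hi, ei⟩ := M.exists_x k1
    have vT : vA [3510, 43, 47] = true := rfl
    obtain ⟨u, hu, eu⟩ := reach (H := fixS (a M [3510, 43, 47])) (pt := M.pt) (fun W hW => by
      have := inF_spec M vT ((allL_iff _ _).1 (show allL (inF [3510, 43, 47])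
        [[50], [583], [2692], [172], [2609], [47], [336]] = true by decide +kernel) W hW)
      exact ⟨_, this.2, rep_w M this.1⟩) (by norm_num) cov72 i hi
      ((x_mem_fixS M vT hi).1 (by rw [a_sab, ei]; exact k2))
    have eu' : u * M.x 47 * u⁻¹ = M.x i := eu
    obtain ⟨f1, f2⟩ := fin (u := u⁻¹) e (by rw [← ei, ← eu']; group)
    refine ⟨_, f1, _, Or.inr rfl, Or.inr (f2.trans ?_)⟩
    have := (mem_fixS' M).1 (inv_mem hu)
    rw [a_sab] at this
    rw [this, mul_inv_cancel_right, map_mul, mul_assoc]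

theorem card_Cs : Nat.card (Cs M) = 1045094400 := by
  obtain ⟨h1, ⟨e⟩, -⟩ := hom_Hs M
  obtain ⟨e'⟩ := H96.E8.equivO
  have c := (Hs M).card_mul_index
  rw [h1, Nat.card_congr e.toEquiv, Nat.card_congr e'.toEquiv, H96.E8.card_W120] at c
  exact c.symm

theorem not81 {A : Subgroup F} (h : ∀ f ∈ A, Commute f (M.x 47) ∧ (sig M * MulAut.conj (M.x 43)) f = f) :
    ¬ 81 ∣ Nat.card A := by
  have fx : ∀ {g i}, g ∈ Cs M → i < 3510 → fixT [3510] i = true → ∀ {j}, j < 3510 → MulAut.conj g (M.x i) = M.x j →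
      fixT [3510] j = true := fun {g i} hg hi hf {j} hj e => (x_mem_fixS M rfl hj).1
        (e ▸ mul_mem (mul_mem hg ((x_mem_fixS M rfl hi).2 hf)) (inv_mem hg))
  have c1 := card_eq_of M.ctx (Cs M) (M.pt 43) (fixT [3510]) fcS1 (fun g hg => by
    obtain ⟨j, hj, e⟩ := AD_x M (conj_mem_AD M g) (i := 43) (by norm_num)
    exact ⟨j, hj, fx hg (by norm_num) (by decide +kernel) hj e, e⟩) (reachS1 M)
  have c2 := card_eq_of M.ctx (Cs M ⊓ Fx F M.pt [43]) (M.pt 47) _ cnt63 (fun g hg => by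
    obtain ⟨j, hj, hn, e⟩ := cand M (conj_mem_AD M g) (l := [43]) (l' := [43]) (by decide +kernel) hg.2 hg.2
      (i := 47) (by norm_num) (by decide +kernel)
    exact ⟨j, hj, (band_eq_true _ _).2 ⟨fx hg.1 (by norm_num) (by decide +kernel) hj e, hn⟩, e⟩) (reachS2 M)
  rw [Fx_cons, Fx_nil, top_inf_eq] at c2
  rw [card_Cs, c2] at c1
  intro h81
  have := h81.trans (card_dvd_of_le (H := A)
    (K := Cs M ⊓ MulAction.stabilizer F (M.pt 43) ⊓ MulAction.stabilizer F (M.pt 47)) fun f hf => by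
      have k := (fix_sa M).1 (show f ∈ fixS (a M [3510, 43]) by rw [a_sa]; exact (h f hf).2)
      exact ⟨⟨k.1, CPt.smul_eq_self_iff.2 (mem_centralizer_singleton_iff.1 k.2)⟩, CPt.smul_eq_self_iff.2 (h f hf).1⟩)
  omega

theorem m43 : M.x 43 ∈ Dc E (M.x 47) := (mem_Dc_iff M (by norm_num) (by norm_num)).2 (by decide +kernel)

theorem uniqP {x : F} (hx : x ∈ Dc E (M.x 47)) :
    x = M.x 43 ↔ ∀ q ∈ Dc E (M.x 47), (sig M * MulAut.conj (M.x 43)) q = q → Commute x q := by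
  rw [← a_sa]
  refine ⟨?_, fun h => ?_⟩
  · rintro rfl q - hq
    exact (mem_centralizer_singleton_iff.1 ((fix_sa M).1 hq).2).symm
  obtain ⟨j, hj, rfl⟩ := M.exists_x hx.1
  have h1 := (allLt_iff _ _).1 k1_chk j hj
  simp only [bimp_eq_true, bor_eq_true, Nat.beq_eq] at h1
  rcases h1 ((cmL_iff M (by decide +kernel) hj).2 fun m hm => by
    rcases List.mem_cons.1 hm with rfl | hm
    · exact hx.2.2
    have := (allL_iff _ _).1 (show allL (fun m => band (Nat.blt m 3510) (band (nbr [47] [47] m)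
      (fixT [3510, 43] m))) [553, 424, 50, 1710, 1062] = true by decide +kernel) m hm
    simp only [band_eq_true, Nat.blt_eq] at this
    exact (h _ ((mem_Dc_iff M (by norm_num) this.1).2 this.2.1) ((x_mem_fixS M rfl this.1).2 this.2.2)).symm)
    with rfl | rfl
  exacts [rfl, absurd rfl hx.2.1]

theorem oct : ∃ l : List F, Odd l.length ∧ (∀ y ∈ l, y ∈ Dc E (M.x 47) ∧ sig M y = y) ∧ l.prod = M.x 47 := by
  refine ⟨[43, 172, 424, 1062, 1710, 2609, 2692].map M.x, by simp; decide, List.forall_mem_map.2 fun m hm => ?_, ?_⟩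
  · have := (allL_iff _ _).1 (show allL (fun m => band (Nat.blt m 3510) (band (nbr [47] [47] m)
      (fixT [3510] m))) [43, 172, 424, 1062, 1710, 2609, 2692] = true by decide +kernel) m hm
    simp only [band_eq_true, Nat.blt_eq] at this
    exact ⟨(mem_Dc_iff M (by norm_num) this.1).2 this.2.1,
      a_s M ▸ mem_fixS.1 ((x_mem_fixS M (T := [3510]) rfl this.1).2 this.2.2)⟩
  · rw [← w_one]; exact w_eq M (by decide +kernel) (by decide +kernel) (by decide +kernel)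

include M in
/-- inner automorphisms have index two -/
theorem inn_two {φ ψ : MulAut F} (h1 : ∀ g, MulAut.conj g ≠ φ) (h2 : ∀ g, MulAut.conj g ≠ ψ) :
    ∃ g, ψ = MulAut.conj g * φ := by
  obtain ⟨g, e | e⟩ := AD_cases M (mem_AD_all M φ)
  · exact absurd e.symm (h1 g)
  obtain ⟨g', e' | e'⟩ := AD_cases M (mem_AD_all M ψ)
  · exact absurd e'.symm (h2 g')
  exact ⟨g' * g⁻¹, by rw [e, e', map_mul, map_inv]; group⟩

end H96.FA
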