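import Cfsg.Agent.Lib.F3L.Q
import Cfsg.Prelude.Def_Classical
import Cfsg.Prelude.Def_Local

/-! The 3-local configuration of `Fi₂₂`: definitions and coordinates. -/

set_option autoImplicit false

namespace H7.F3

open Subgroup H87.Mc Cfsg
open H87.U6 (F3 f3_cases pw_add pw_zero pw_one pw_two pw_neg pw_mul pw_inj mem_zp cj_pw cm_cj)

abbrev X3 := Fin 3 → F3
/-- `(u, w)` stands for `∑ uᵢ aᵢ + wᵢ bᵢ` -/
abbrev V6 := X3 × X3

def b6 (u v : V6) : F3 := ∑ i, (u.1 i * v.2 i - u.2 i * v.1 i)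
def sg (i : Fin 3) : X3 := fun j => if j = i then -1 else 1
/-- `-1` on the `i`-th plane -/
def ng (i : Fin 3) (v : V6) : V6 := (sg i * v.1, sg i * v.2)
def Ym (c : X3) (v : V6) : V6 := (v.1 + c * v.2, v.2)
def pm (π : Equiv.Perm (Fin 3)) (v : V6) : V6 := (v.1 ∘ π, v.2 ∘ π)
/-- `i ↦ i + 1` -/
def ro : Equiv.Perm (Fin 3) := finRotate 3

/-- three two by two matrices -/
@[ext] structure Mx where
  a : X3
  b : X3
  c : X3
  d : X3

namespace Mx

def ap (m : Mx) (v : V6) : V6 := (m.a * v.1 + m.b * v.2, m.c * v.1 + m.d * v.2)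
def det1 (m : Mx) : Prop := ∀ i, m.a i * m.d i - m.b i * m.c i = 1
/-- all three matrices lie in the quaternion group -/
def q8 (m : Mx) : Prop := ∀ i, m.a i + m.d i = 0 ∨ (m.b i = 0 ∧ m.c i = 0)
def mul (m n : Mx) : Mx := ⟨m.a * n.a + m.b * n.c, m.a * n.b + m.b * n.d, m.c * n.a + m.d * n.c, m.c * n.b + m.d * n.d⟩
def adj (m : Mx) : Mx := ⟨m.d, -m.b, -m.c, m.a⟩
def pr (m : Mx) (π : Equiv.Perm (Fin 3)) : Mx := ⟨m.a ∘ π, m.b ∘ π, m.c ∘ π, m.d ∘ π⟩

end Mx

variable {G : Type*} [Group G]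

/-- `Q = Q₀ Q₁ Q₂`, `C(z)` permutes the factors, `R` has order `2 ^ 7` and `Q R` consists of all
elements acting inside `Q₈ × Q₈ × Q₈`. -/
structure Fr0 (z : G) (l : V6 → G) (r : Fin 3 → G) (R : Subgroup G) : Prop
    extends A0 b6 z l (r 0 * r 1 * r 2) where
  r2 : ∀ i, r i * r i = 1
  rR : ∀ i, r i ∈ R
  er : ∀ i, Ex z l (r 0 * r 1 * r 2) (r i) (ng i)
  mon : ∀ g, g * z = z * g → ∃ π, ∃ m : Mx, m.det1 ∧ Ac z l g fun v => m.ap (pm π v)
  cR : Nat.card R = 128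
  eR : ∀ ρ ∈ R, ∃ m : Mx, m.det1 ∧ m.q8 ∧ Ex z l (r 0 * r 1 * r 2) ρ m.ap
  Rmax : ∀ g (m : Mx), m.det1 → m.q8 → Ac z l g m.ap → ∃ ρ ∈ R, Ac z l ρ m.ap

/-- `Q` is the largest normal 3-subgroup of `C(z)` -/
def O3 (z : G) (l : V6 → G) : Prop := ∀ N : Subgroup G, IsPGroup 3 N → (∀ x ∈ N, x * z = z * x) →
  (∀ g, g * z = z * g → ∀ x ∈ N, g * x * g⁻¹ ∈ N) → N ≤ Qs z l

/-- 3-subgroups of `C(z)` have order at most `3 ^ 9` -/
def B9 (z : G) : Prop := ∀ T : Subgroup G, IsPGroup 3 T → (∀ x ∈ T, x * z = z * x) → Nat.card T ≤ 3 ^ 9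

/-- coordinates adapted to a Sylow 3-subgroup `S` of `C(z)` -/
structure Fr (z : G) (l : V6 → G) (r : Fin 3 → G) (R S : Subgroup G) : Prop extends Fr0 z l r R where
  pS : IsPGroup 3 S
  syl : ∀ T : Subgroup G, IsPGroup 3 T → (∀ x ∈ T, x * z = z * x) → ∃ h, h * z = z * h ∧ ∀ x ∈ T, h * x * h⁻¹ ∈ S
  std : ∀ g ∈ S, ∃ c π, π ^ 3 = 1 ∧ Ac z l g fun v => Ym c (pm π v)
  b9 : B9 z

/-- the subgroup generated by the elements of order three centralizing `d` -/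
def K3 (d : G) : Subgroup G := closure {x | x * d = d * x ∧ x ^ 3 = 1}

/-- the configuration after the 3-local analysis -/
structure St (z : G) (l : V6 → G) (r : Fin 3 → G) (R : Subgroup G) (y : G) : Prop extends Fr0 z l r R where
  y3 : y ^ 3 = 1
  ey : Ex z l (r 0 * r 1 * r 2) y (Ym 1)
  dg : ∀ g (m : Mx), m.det1 → Ac z l g m.ap → ∃ ρ ∈ R, ∃ k : F3, Ac z l (ρ * y ^ k.val) m.ap
  sig : ∃ σ c, Ac z l σ fun v => Ym c (pm ro v)
  full : ∀ g v k, g * z * g⁻¹ = qq z l v k → v ≠ 0 → ∀ i, v.1 i ≠ 0 ∨ v.2 i ≠ 0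
  ky : ∃ k ∈ K3 (r 0), k * z * k⁻¹ = y
  ky' : ∃ k ∈ K3 (r 0), k * z * k⁻¹ = y⁻¹

/-- a normal double cover of `U₆(2)` in the centralizer of `d` -/
structure LD (d : G) (L : Subgroup G) : Prop where
  le : ∀ x ∈ L, x * d = d * x
  dL : d ∈ L
  nrm : ∀ g, g * d = d * g → ∀ x ∈ L, g * x * g⁻¹ ∈ L
  iso : ∃ (_ : ((zpowers d).subgroupOf L).Normal) (K : Type) (_ : Field K) (_ : Fintype K),
    Fintype.card K = 4 ∧ Nonempty (L ⧸ (zpowers d).subgroupOf L ≃* PSU 6 K 2)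
  cent : ∀ g, g * d = d * g → (∀ x ∈ L, g * x * g⁻¹ * x⁻¹ ∈ zpowers d) → g ∈ zpowers d

/-- the case `C(d) = 2 U₆(2) 2` -/
structure I2 (d : G) (L : Subgroup G) (t b : G) : Prop extends LD d L where
  d2 : orderOf d = 2
  qs : IsQuasisimple L
  td : t * d = d * t
  tL : t ∉ L
  t2 : t * t = 1
  idx : ∀ g, g * d = d * g → g ∈ L ∨ g * t ∈ L
  c81 : ∃ A ≤ L, Nat.card A = 81 ∧ ∀ x ∈ A, x * t = t * x
  n1 : ¬ IsConj d t
  n2 : ¬ IsConj d (t * d)
  bL : b ∈ L
  bc : IsConj d b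
  bd : b ≠ d
  n3 : ¬ IsConj d (b * d)

theorem eqns_def : True := trivial

/-! ### coordinates -/

theorem b6_eq (u v : V6) : b6 u v = u.1 0 * v.2 0 - u.2 0 * v.1 0 + (u.1 1 * v.2 1 - u.2 1 * v.1 1) +
    (u.1 2 * v.2 2 - u.2 2 * v.1 2) := Fin.sum_univ_three _

theorem x3_dec : ∀ u : X3, u = (u 0).val • (Pi.single 0 1 : X3) + (u 1).val • (Pi.single 1 1 : X3) +
    (u 2).val • (Pi.single 2 1 : X3) := by decide +kernel

theorem add_x3 {A : Type*} [AddCommGroup A] {k : X3 → A} (h : ∀ u v, k (u + v) = k u + k v) (u : X3) :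
    k u = (u 0).val • k (Pi.single 0 1) + (u 1).val • k (Pi.single 1 1) + (u 2).val • k (Pi.single 2 1) := by
  have hn : ∀ n v, k (n • v) = n • k v := map_nsmul (AddMonoidHom.mk' k h)
  conv_lhs => rw [x3_dec u, h, h, hn, hn, hn]

theorem add_v6 {A : Type*} [AddCommGroup A] {k : V6 → A} (h : ∀ u v, k (u + v) = k u + k v) (v : V6) :
    k v = ((v.1 0).val • k (Pi.single 0 1, 0) + (v.1 1).val • k (Pi.single 1 1, 0) + (v.1 2).val • k (Pi.single 2 1, 0)) +
      ((v.2 0).val • k (0, Pi.single 0 1) + (v.2 1).val • k (0, Pi.single 1 1) + (v.2 2).val • k (0, Pi.single 2 1)) := by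
  rw [← add_x3 (k := fun u => k (u, 0)) (fun u w => by rw [← h]; simp),
    ← add_x3 (k := fun u => k (0, u)) (fun u w => by rw [← h]; simp), ← h]
  simp

theorem sy6 : Sy b6 where
  tri v := by ext i <;> simp only [Prod.fst_add, Prod.snd_add, Pi.add_apply, Prod.fst_zero, Prod.snd_zero,
    Pi.zero_apply] <;> [linear_combination v.1 i * three; linear_combination v.2 i * three]
  add_l u v w := by simp only [b6_eq, Prod.fst_add, Prod.snd_add, Pi.add_apply]; ring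
  add_r u v w := by simp only [b6_eq, Prod.fst_add, Prod.snd_add, Pi.add_apply]; ring
  alt v := by simp only [b6_eq]; ring
  nd w hw := by
    ext i
    · simpa [b6, Pi.single_apply] using hw (0, Pi.single i 1)
    · simpa [b6, Pi.single_apply] using hw (Pi.single i 1, 0)
  inner k hk := ⟨(fun i => -k (0, Pi.single i 1), fun i => k (Pi.single i 1, 0)), fun v => by
    rw [add_v6 hk v]; simp only [b6_eq, nsmul_eq_mul, ZMod.natCast_val, ZMod.cast_id', id]; ring⟩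

theorem card_V6 : Nat.card V6 = 729 := by simp

theorem pm_one (v : V6) : pm 1 v = v := rfl
theorem pm_pm (π π' : Equiv.Perm (Fin 3)) (v : V6) : pm π (pm π' v) = pm (π' * π) v := rfl
theorem perm3 : ∀ π : Equiv.Perm (Fin 3), π ^ 3 = 1 ↔ π = 1 ∨ π = ro ∨ π = ro⁻¹ := by decide
theorem ro_apply : ∀ i, ro i = i + 1 := by decide
theorem Ym_zero (v : V6) : Ym 0 v = v := by simp [Ym]
theorem Ym_Ym (c c' : X3) (v : V6) : Ym c (Ym c' v) = Ym (c + c') v := by simp only [Ym]; congr 1; ring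
theorem pm_Ym (π : Equiv.Perm (Fin 3)) (c : X3) (v : V6) : pm π (Ym c v) = Ym (c ∘ π) (pm π v) := rfl
theorem Ym_eq (c : X3) : Ym c = Mx.ap ⟨1, c, 0, 1⟩ := by funext v; simp [Ym, Mx.ap]
theorem ng_eq (i : Fin 3) : ng i = Mx.ap ⟨sg i, 0, 0, sg i⟩ := by funext v; simp [ng, Mx.ap]
theorem sg_sq : ∀ i, sg i * sg i = 1 := by decide
theorem ng_ng (i : Fin 3) (v : V6) : ng i (ng i v) = v := by simp [ng, ← mul_assoc, sg_sq]

namespace Mx

theorem ap_mul (m n : Mx) (v : V6) : (m.mul n).ap v = m.ap (n.ap v) := by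
  simp only [ap, mul]; congr 1 <;> ring

theorem pm_ap (m : Mx) (π : Equiv.Perm (Fin 3)) (v : V6) : pm π (m.ap v) = (m.pr π).ap (pm π v) := rfl

theorem det1.mul {m n : Mx} (h : m.det1) (h' : n.det1) : (m.mul n).det1 := fun i => by
  simp only [Mx.mul, Pi.add_apply, Pi.mul_apply]
  linear_combination (n.a i * n.d i - n.b i * n.c i) * h i + h' i

theorem det1.adj {m : Mx} (h : m.det1) : m.adj.det1 := fun i => by
  simp only [Mx.adj, Pi.neg_apply]; linear_combination h i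

theorem det1.pr {m : Mx} (h : m.det1) (π : Equiv.Perm (Fin 3)) : (m.pr π).det1 := fun i => h (π i)

theorem q8.pr {m : Mx} (h : m.q8) (π : Equiv.Perm (Fin 3)) : (m.pr π).q8 := fun i => h (π i)

theorem det1.ap_adj {m : Mx} (h : m.det1) (v : V6) : m.ap (m.adj.ap v) = v := by
  ext i <;> simp only [ap, Mx.adj, Pi.add_apply, Pi.mul_apply, Pi.neg_apply]
  exacts [by linear_combination v.1 i * h i, by linear_combination v.2 i * h i]

theorem det1.adj_ap {m : Mx} (h : m.det1) (v : V6) : m.adj.ap (m.ap v) = v := by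
  ext i <;> simp only [ap, Mx.adj, Pi.add_apply, Pi.mul_apply, Pi.neg_apply]
  exacts [by linear_combination v.1 i * h i, by linear_combination v.2 i * h i]

theorem eq_of_ap {m n : Mx} (e : ∀ v, m.ap v = n.ap v) : m = n := by
  have e1 := e (1, 0)
  have e2 := e (0, 1)
  simp only [ap, mul_one, mul_zero, add_zero, zero_add, Prod.mk.injEq] at e1 e2
  exact Mx.ext e1.1 e2.1 e1.2 e2.2

theorem mono_uniq {m n : Mx} {π π' : Equiv.Perm (Fin 3)} (h : m.det1)
    (e : ∀ v, m.ap (pm π v) = n.ap (pm π' v)) : π = π' ∧ m = n := by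
  obtain rfl : π = π' := by
    ext i
    by_contra hne
    have hne : π' i ≠ π i := fun e => hne (by rw [e])
    have e1 := e (Pi.single (π i) 1, 0)
    have e2 := e (0, Pi.single (π i) 1)
    have a := congrFun (congrArg Prod.fst e1) i
    have b := congrFun (congrArg Prod.fst e2) i
    simp [ap, pm, hne] at a b
    have := h i
    rw [a, b] at this
    simp at this
  exact ⟨rfl, eq_of_ap fun v => e (pm π⁻¹ v) |> (by simpa [pm_pm, pm_one] using ·)⟩

end Mx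

end H7.F3
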