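import Mathlib
import Cfsg.Agent.S2603
import Cfsg.Agent.Lib.F3L.Def
import Cfsg.Agent.Lib.F3L.AutM

/-!
A correspondence between `L / <d>` and `C(a) / <a>` that is compatible with the outer involution.
-/

set_option autoImplicit false

namespace H96.FA

open Subgroup Cfsg H54 H94 H56 H96.F22 H80.FI H7.F3

theorem ind {X U : Type*} [Group X] [Group U] {π : X →* U} (hs : Function.Surjective π) (τ : MulAut X)
    (h : ∀ x, π (τ x) = 1 ↔ π x = 1) : ∃ θ : MulAut U, ∀ x, θ (π x) = π (τ x) := by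
  let e := QuotientGroup.quotientKerEquivOfSurjective π hs
  let c := QuotientGroup.congr π.ker π.ker τ (by
    ext y
    obtain ⟨x, rfl⟩ := τ.surjective y
    exact (mem_map_iff_mem τ.injective).trans (h x).symm)
  refine ⟨e.symm.trans (c.trans e), fun x => ?_⟩
  show e (c (e.symm (π x))) = _
  rw [show e.symm (π x) = (x : X ⧸ π.ker) from e.symm_apply_eq.2 rfl]
  rfl

/-- the outer involutions of `U₆(2)` are conjugate modulo inner automorphisms -/
theorem out_conj {θ σ : MulAut (PSU 6 H30.F4 2)} (h1 : θ * θ = 1) (h2 : σ * σ = 1) (n1 : ∀ u, MulAut.conj u ≠ θ)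
    (n2 : ∀ u, MulAut.conj u ≠ σ) : ∃ α : MulAut (PSU 6 H30.F4 2), ∃ u, α * θ * α⁻¹ = MulAut.conj u * σ := by
  have two : ∀ x y : Multiplicative (ZMod 2), x ≠ 1 → y ≠ 1 → x * y = 1 := by decide
  have : Fact (Nat.Prime 2) := ⟨Nat.prime_two⟩
  obtain ⟨φ, -, -, hk⟩ := Cfsg.Agent.S2603.result (K := H30.F4) (p := 2) (f := 1) (q := 2) (n := 6) le_rfl rfl rfl
    (by norm_num) (by norm_num)
  let m := QuotientGroup.mk' (Inn (PSU 6 H30.F4 2))
  have cube : ∀ x, φ x = 1 → x ^ 3 = 1 := fun x hx => by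
    have := pow_card_eq_one' (x := (⟨x, hx⟩ : φ.ker))
    rw [hk] at this
    exact congrArg Subtype.val this
  have ne : ∀ {θ}, θ * θ = 1 → (∀ u, MulAut.conj u ≠ θ) → φ (m θ) ≠ 1 := fun {θ} h n e => by
    have := cube _ e
    rw [← map_pow, pow_succ, sq, h, one_mul] at this
    obtain ⟨u, e⟩ := (QuotientGroup.eq_one_iff θ).1 this
    exact n u e
  have := cube (m θ * m σ) (by rw [map_mul]; exact two _ _ (ne h1 n1) (ne h2 n2))
  rw [← map_mul, ← map_pow] at this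
  have k : θ * σ * θ * (θ * σ)⁻¹ * σ⁻¹ ∈ Inn _ := by
    rw [mul_inv_rev, inv_eq_of_mul_self h1, inv_eq_of_mul_self h2]
    simpa [pow_succ, mul_assoc] using (QuotientGroup.eq_one_iff _).1 this
  obtain ⟨u, e⟩ := k
  exact ⟨θ * σ, u, by rw [e, inv_mul_cancel_right]⟩

variable {G F : Type*} [Group G] [Group F]

/-- the graph of an isomorphism `L / <d> ≃ C(a) / <a>` -/
structure B0 (R : Subgroup (G × F)) (L : Subgroup G) (d : G) (a : F) : Prop where
  dm : ∀ h, h ∈ L ↔ ∃ f, (h, f) ∈ R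
  sur : ∀ f, Commute f a → ∃ h, (h, f) ∈ R
  c2 : ∀ {h f}, (h, f) ∈ R → Commute f a
  k1 : ∀ h, (h, 1) ∈ R ↔ h = 1 ∨ h = d
  k2 : ∀ f, (1, f) ∈ R ↔ f = 1 ∨ f = a

theorem exists_b0 {U : Type*} [Group U] {L : Subgroup G} {d : G} {a : F} (dL : d ∈ L) {π₁ : L →* U}
    {π₂ : centralizer {a} →* U} (s₁ : Function.Surjective π₁) (s₂ : Function.Surjective π₂)
    (k₁ : ∀ x, π₁ x = 1 ↔ x.1 = 1 ∨ x.1 = d) (k₂ : ∀ x, π₂ x = 1 ↔ x.1 = 1 ∨ x.1 = a) :
    ∃ R, B0 R L d a ∧ ∀ h f, (h, f) ∈ R ↔ ∃ h1 h2, π₁ ⟨h, h1⟩ = π₂ ⟨f, h2⟩ := by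
  let R := ((π₁.comp (MonoidHom.fst _ _)).eqLocus (π₂.comp (MonoidHom.snd _ _))).map
    (L.subtype.prodMap (centralizer {a}).subtype)
  have mem : ∀ h f, (h, f) ∈ R ↔ ∃ h1 h2, π₁ ⟨h, h1⟩ = π₂ ⟨f, h2⟩ := by
    intro h f
    constructor
    · rintro ⟨⟨x, y⟩, h1, h2⟩
      obtain ⟨rfl, rfl⟩ := Prod.mk.inj h2
      exact ⟨x.2, y.2, h1⟩
    · rintro ⟨h1, h2, h3⟩
      exact ⟨(⟨h, h1⟩, ⟨f, h2⟩), h3, rfl⟩
  refine ⟨R, ⟨fun h => ⟨fun hh => ?_, fun ⟨f, m⟩ => ((mem _ _).1 m).1⟩, fun f hf => ?_,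
    fun m => mem_centralizer_singleton_iff.1 ((mem _ _).1 m).2.1, fun h => ?_, fun f => ?_⟩, mem⟩
  · obtain ⟨y, hy⟩ := s₂ (π₁ ⟨h, hh⟩)
    exact ⟨y, (mem _ _).2 ⟨_, y.2, hy.symm⟩⟩
  · obtain ⟨y, hy⟩ := s₁ (π₂ ⟨f, mem_centralizer_singleton_iff.2 hf⟩)
    exact ⟨y, (mem _ _).2 ⟨y.2, _, hy⟩⟩
  · rw [mem]
    refine ⟨fun ⟨h1, _, h3⟩ => (k₁ ⟨h, h1⟩).1 (h3.trans (map_one π₂)), fun h1 => ⟨?_, one_mem _, ?_⟩⟩
    · rcases h1 with rfl | rfl
      exacts [one_mem _, dL]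
    · exact ((k₁ _).2 h1).trans (map_one π₂).symm
  · rw [mem]
    refine ⟨fun ⟨_, h1, h3⟩ => (k₂ ⟨f, h1⟩).1 (h3.symm.trans (map_one π₁)), fun h1 => ⟨one_mem _, ?_, ?_⟩⟩
    · rcases h1 with rfl | rfl
      exacts [one_mem _, mem_centralizer_singleton_iff.2 rfl]
    · exact (map_one π₁).trans ((k₂ _).2 h1).symm

theorem Dc_aut {E : Set F} (M : Model22 F E) {a x : F} {φ : MulAut F} (h : φ a = a) (hx : x ∈ Dc E a) :
    φ x ∈ Dc E a :=
  ⟨(mem_AD_all M φ x).2 hx.1, fun e => hx.2.1 (φ.injective (e.trans h.symm)), h ▸ hx.2.2.map φ⟩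

/-- restriction of an automorphism fixing `a` -/
def resA {a : F} (φ : MulAut F) (h : φ a = a) : MulAut (centralizer {a}) :=
  (φ.subgroupMap _).trans (MulEquiv.subgroupCongr (by
    ext y
    obtain ⟨x, rfl⟩ := φ.surjective y
    refine (mem_map_iff_mem φ.injective).trans ?_
    rw [mem_centralizer_singleton_iff, mem_centralizer_singleton_iff, ← φ.injective.eq_iff, map_mul, map_mul, h]))

theorem exists_R {d t b : G} {L : Subgroup G} (h : I2 d L t b) {E : Set F} (M : Model22 F E) :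
    ∃ R, B0 R L d (M.x 47) ∧ ∃ ψ : MulAut F, ψ (M.x 47) = M.x 47 ∧ (∀ g, MulAut.conj g ≠ ψ) ∧
      ∀ x f, (x, f) ∈ R → (t * x * t⁻¹, ψ f) ∈ R := by
  have ha := M.x_mem (j := 47) (by norm_num)
  have S := sys22 M ha
  have dd := sq_of_two h.d2
  obtain ⟨_, K, _, _, hK, ⟨e₁⟩⟩ := h.iso
  obtain ⟨i⟩ := H30.F4.nonempty_ringEquiv hK
  generalize ea : M.x 47 = a at ha S
  have sa : sig M a = a := ea ▸ sig47 M
  have : ((zpowers a).subgroupOf (centralizer {a})).Normal := ⟨fun n hn g => by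
    have c : Commute (g : F) a := mem_centralizer_singleton_iff.1 g.2
    obtain ⟨k, hk⟩ := hn
    refine ⟨k, hk.trans ?_⟩
    show (n : F) = g * n * (g : F)⁻¹
    rw [show (n : F) = a ^ k from hk.symm, (c.zpow_right k).eq, mul_inv_cancel_right]⟩
  obtain ⟨e₂⟩ := cent_equiv M ha
  replace e₁ := e₁.trans (H30.psuCongr i 6 2)
  let π₁ := e₁.toMonoidHom.comp (QuotientGroup.mk' _)
  let π₂ := e₂.toMonoidHom.comp (QuotientGroup.mk' _)
  have s₁ : Function.Surjective π₁ := e₁.surjective.comp (QuotientGroup.mk'_surjective _)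
  have s₂ : Function.Surjective π₂ := e₂.surjective.comp (QuotientGroup.mk'_surjective _)
  have k₁ : ∀ x, π₁ x = 1 ↔ x.1 = 1 ∨ x.1 = d := fun x =>
    ((map_eq_one_iff _ e₁.injective).trans (QuotientGroup.eq_one_iff _)).trans (zp dd)
  have k₂ : ∀ x, π₂ x = 1 ↔ x.1 = 1 ∨ x.1 = a := fun x =>
    ((map_eq_one_iff _ e₂.injective).trans (QuotientGroup.eq_one_iff _)).trans (zp S.asq)
  clear_value π₁ π₂
  have ti := inv_eq_of_mul_self h.t2
  let τ : MulAut L := normalizerMonoidHom L ⟨t, mem_normalizer_iff.2 fun x => ⟨h.nrm t h.td x, fun hx => by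
    simpa [ti, mul_assoc, h.t2, mul_self_cancel h.t2] using h.nrm t h.td _ hx⟩⟩
  have hτ : ∀ x, (τ x).1 = t * x * t⁻¹ := fun _ => rfl
  obtain ⟨θ, hθ⟩ := ind s₁ τ fun x => by
    rw [k₁, k₁, hτ, conj_eq_one_iff]
    conv_lhs => rw [← conj_eq_self_iff.2 (show Commute t d from h.td), conj_inj_iff]
  have hr : ∀ x, (resA (sig M) sa x).1 = sig M x := fun _ => rfl
  obtain ⟨σ, hσ⟩ := ind s₂ (resA (sig M) sa) fun x => by
    rw [k₂, k₂, hr, map_eq_one_iff _ (sig M).injective]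
    exact or_congr_right ⟨fun e => (sig M).injective (e.trans sa.symm), fun e => (congrArg _ e).trans sa⟩
  obtain ⟨α, u, e⟩ := out_conj (θ := θ) (σ := σ) (MulEquiv.ext fun y => by
      obtain ⟨x, rfl⟩ := s₁ y
      rw [MulAut.mul_apply, hθ, hθ]
      exact congrArg π₁ (Subtype.ext (by simp [hτ, ti, mul_assoc, h.t2, mul_self_cancel h.t2])))
    (MulEquiv.ext fun y => by
      obtain ⟨x, rfl⟩ := s₂ y
      rw [MulAut.mul_apply, hσ, hσ]
      exact congrArg π₂ (Subtype.ext (by rw [hr, hr, ← MulAut.mul_apply, sig_sq]; rfl)))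
    (fun u e => by
      obtain ⟨k, rfl⟩ := s₁ u
      refine h.tL ((mul_mem_cancel_left (inv_mem k.2)).1 (zpowers_le.2 h.dL (h.cent _ ?_ fun x hx => (zp dd).2 ?_)))
      · exact (Commute.inv_left (h.le _ k.2)).mul_left h.td
      · have := (k₁ (k⁻¹ * τ ⟨x, hx⟩ * k * ⟨x, hx⟩⁻¹)).1 (by
          rw [map_mul, map_mul, map_mul, ← hθ, ← e, map_inv, map_inv, MulAut.conj_apply]; group)
        simpa [hτ, mul_assoc] using this)
    (fun u e => by
      obtain ⟨k, rfl⟩ := s₂ u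
      have ck : Commute k.1 a := mem_centralizer_singleton_iff.1 k.2
      have f1 : (MulAut.conj k.1⁻¹ * sig M) a = a := by
        rw [MulAut.mul_apply, sa]; exact conj_eq_self_iff.2 ck.inv_left
      rcases centA M ha f1 fun y hy => by
        have hy' : y ∈ centralizer {a} := mem_centralizer_singleton_iff.2 hy.2.2.symm
        have := (k₂ (⟨y, hy'⟩⁻¹ * (k⁻¹ * resA (sig M) sa ⟨y, hy'⟩ * k))).1 (by
          rw [map_mul, map_mul, map_mul, ← hσ, ← e, map_inv, map_inv, MulAut.conj_apply]; group)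
        have e1 : (MulAut.conj k.1⁻¹ * sig M) y = y ∨ (MulAut.conj k.1⁻¹ * sig M) y = y * a := by
          simpa [hr, inv_mul_eq_one, inv_mul_eq_iff_eq_mul, eq_comm (a := y)] using this
        refine e1.elim id fun e1 => absurd (S.nta y hy (e1 ▸ (Dc_aut M f1 hy).1)) ((tc M).ne_one ha)
        with e1 | e1
      · exact sig_not_inner M k (by rwa [map_inv, inv_mul_eq_one] at e1)
      · exact sig_not_inner M (k * a) (by rw [map_mul, ← e1, map_inv, mul_inv_cancel_left]))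
  obtain ⟨k, rfl⟩ := s₂ u
  obtain ⟨R, B, mem⟩ := exists_b0 h.dL (π₁ := α.toMonoidHom.comp π₁) (α.surjective.comp s₁) s₂
    (fun x => (map_eq_one_iff _ α.injective).trans (k₁ x)) k₂
  refine ⟨R, B, MulAut.conj k.1 * sig M, ?_, fun g e => sig_not_inner M (k.1⁻¹ * g) ?_, fun x f m => ?_⟩
  · rw [MulAut.mul_apply, sa]; exact conj_eq_self_iff.2 (mem_centralizer_singleton_iff.1 k.2)
  · rw [map_mul, e, map_inv, inv_mul_cancel_left]
  · obtain ⟨h1, h2, h3⟩ := (mem _ _).1 m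
    refine (mem _ _).2 ⟨(τ ⟨x, h1⟩).2, (k * resA (sig M) sa ⟨f, h2⟩ * k⁻¹).2, ?_⟩
    have := congrArg (· (π₂ ⟨f, h2⟩)) e
    simp only [MulAut.mul_apply, MulAut.conj_apply, hσ] at this
    rw [← h3, ← map_inv, ← map_mul, ← map_mul] at this
    exact (congrArg α ((hθ _).symm.trans (congrArg θ (α.symm_apply_apply _).symm))).trans this

end H96.FA
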