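import Mathlib
import Cfsg.Agent.Lib.FiI.Main

/-!
The conjugates of `d` in a subgroup of index two of the centraliser of `d` (after Lib/FiI/Loc).
-/

set_option autoImplicit false

namespace H96.FA

open Subgroup Cfsg H94 H56 H96.F22 H80.FI

variable {G F : Type*} [Group G] [Group F]

/-- the domain of a correspondence -/
def dom (R : Subgroup (G × F)) : Subgroup G := R.map (MonoidHom.fst G F)

theorem mem_dom {R : Subgroup (G × F)} {h : G} : h ∈ dom R ↔ ∃ f, (h, f) ∈ R :=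
  ⟨by rintro ⟨⟨x, y⟩, h1, rfl⟩; exact ⟨y, h1⟩, fun ⟨f, h1⟩ => ⟨(h, f), h1, rfl⟩⟩

theorem pre_le {R : Subgroup (G × F)} {B : Subgroup F} : pre R B ≤ dom R := fun _ h =>
  let ⟨f, _, m⟩ := mem_pre.1 h; mem_dom.2 ⟨f, m⟩

/-- a correspondence defined on a subgroup of index two of the centraliser -/
structure CW (R : Subgroup (G × F)) (E : Set F) (a : F) (d : G) : Prop where
  dsq : d * d = 1
  dne : d ≠ 1
  sur : ∀ f, Commute f a → ∃ h, (h, f) ∈ R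
  c1 : ∀ {h f}, (h, f) ∈ R → Commute h d
  c2 : ∀ {h f}, (h, f) ∈ R → Commute f a
  k1 : ∀ h, (h, 1) ∈ R ↔ h = 1 ∨ h = d
  k2 : ∀ f, (1, f) ∈ R ↔ f = 1 ∨ f = a
  lift_comm : ∀ {X Y x y}, x ∈ Dc E a → y ∈ Dc E a → Commute x y → (X, x) ∈ R → (Y, y) ∈ R → Commute X Y
  n1 : ∀ g, g * g ≠ d
  n3 : ∀ A : Subgroup G, (∀ x ∈ A, x * x = 1) → (∀ x ∈ A, Commute x d) → 1024 ≤ Nat.card A → A ≤ dom R
  idx : ∀ g h, Commute g d → Commute h d → g ∉ dom R → h ∉ dom R → g * h ∈ dom R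
  nrm : ∀ g, Commute g d → ∀ h ∈ dom R, g * h * g⁻¹ ∈ dom R
  cent : ∀ z, Commute z d → (∀ h ∈ dom R, Commute z h) → z = 1 ∨ z = d
  out : ∀ w, IsConj d w → Commute w d → w ∉ dom R → ∃ p ∈ Dc E a,
    (∀ P, (P, p) ∈ R → Commute w P ∧ ¬ IsConj d (w * P)) ∧
    ∀ x ∈ Dc E a, (x = p ↔ ∀ q ∈ Dc E a, ∀ Q, (Q, q) ∈ R → Commute w Q → Commute x q)
  ex : ∃ t, Commute t d ∧ t ∉ dom R

namespace CW

variable {R : Subgroup (G × F)} {d : G} {a : F} {E : Set F} (C : CW R E a d)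
include C

theorem d1 : (d, (1 : F)) ∈ R := (C.k1 d).2 (Or.inr rfl)

theorem a1 : ((1 : G), a) ∈ R := (C.k2 a).2 (Or.inr rfl)

theorem md {h : G} {f : F} (m : (h, f) ∈ R) : (h * d, f) ∈ R := by simpa using Rmul m C.d1

theorem ma {h : G} {f : F} (m : (h, f) ∈ R) : (h, f * a) ∈ R := by simpa using Rmul m C.a1

theorem eq1 {h h' : G} {f : F} (m : (h, f) ∈ R) (m' : (h', f) ∈ R) : h' = h ∨ h' = h * d := by
  have := Rmul (Rinv m) m'
  rwa [inv_mul_cancel, C.k1, inv_mul_eq_one, inv_mul_eq_iff_eq_mul, eq_comm] at this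

theorem eq2 {h : G} {f f' : F} (m : (h, f) ∈ R) (m' : (h, f') ∈ R) : f' = f ∨ f' = f * a := by
  have := Rmul (Rinv m) m'
  rwa [inv_mul_cancel, C.k2, inv_mul_eq_one, inv_mul_eq_iff_eq_mul, eq_comm] at this

theorem lift_d {ℓ : F → G}
    (L : Lift R E a ℓ) : Lift R E a fun x => ℓ x * d where
  mem x hx := C.md (L.mem x hx)
  conj {h f} m x hx := by
    rw [← L.conj m x hx, mul_assoc _ h⁻¹, (C.c1 m).inv_left.eq]; group
  sq x hx := by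
    rw [mul_assoc, ← mul_assoc d, ← (C.c1 (L.mem x hx)).eq, mul_assoc, C.dsq, mul_one, L.sq x hx]

theorem ns_d {ℓ : F → G}
    (L : Lift R E a ℓ) (N : NS E a ℓ d) : NS E a (fun x => ℓ x * d) d := by
  obtain ⟨p₁, p₂, p₃, p₄, p₅, p₆, q₁, q₂, c, e, g, e'⟩ := N
  have k2 : ∀ {x y}, y ∈ Dc E a → ℓ x * d * (ℓ y * d) = ℓ x * ℓ y := fun {x y} hy => by
    rw [mul_assoc, ← mul_assoc d, ← (C.c1 (L.mem y hy)).eq, mul_assoc, C.dsq, mul_one]
  refine ⟨p₁, p₂, p₃, p₄, p₅, p₆, q₁, q₂, c, ?_, g, ?_⟩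
  · simp only [k2 q₁.1.p12.m2, k2 q₂.1.p12.m2, ← mul_assoc, e]
  · simp only [k2 q₁.1.p12.m2, e']

theorem card_d : Nat.card (zpowers d) = 2 := by rw [Nat.card_zpowers, orderOf_eq_two C.dsq C.dne]

theorem card_pre (ha : a * a = 1) {B : Subgroup F} (h1 : a ∈ B) (h2 : ∀ f ∈ B, Commute f a) :
    Nat.card (zpowers a) * Nat.card (pre R B) = 2 * Nat.card B := by
  have e1 := card_eq_map (MonoidHom.fst G F) (R ⊓ B.comap (MonoidHom.snd G F))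
  have e2 := card_eq_map (MonoidHom.snd G F) (R ⊓ B.comap (MonoidHom.snd G F))
  rw [card_ker_fst _ (zpowers a) fun f => by
    rw [mem_inf, C.k2, ← zp ha]; exact and_iff_left_of_imp fun h => zpowers_le.2 h1 h] at e1
  rw [card_ker_snd _ (zpowers d) fun f => by
    rw [mem_inf, C.k1, ← zp C.dsq]; exact and_iff_left (one_mem B), C.card_d] at e2
  have e3 : (R ⊓ B.comap (MonoidHom.snd G F)).map (MonoidHom.snd G F) = B := by
    refine le_antisymm (by rintro _ ⟨x, hx, rfl⟩; exact hx.2) fun f hf => ?_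
    obtain ⟨h, m⟩ := C.sur f (h2 f hf)
    exact ⟨(h, f), ⟨m, hf⟩, rfl⟩
  rw [e3] at e2
  exact e1.symm.trans e2

theorem card_img [Finite G] [Finite F] (ha : a * a = 1) {A : Subgroup G} (h2 : A ≤ dom R) :
    Nat.card (zpowers a) * Nat.card A ≤ 2 * Nat.card (img R A) := by
  have e1 := card_eq_map (MonoidHom.fst G F) (R ⊓ A.comap (MonoidHom.fst G F))
  have e2 := card_eq_map (MonoidHom.snd G F) (R ⊓ A.comap (MonoidHom.fst G F))
  rw [card_ker_fst _ (zpowers a) fun f => by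
    rw [mem_inf, C.k2, ← zp ha]; exact and_iff_left (one_mem A)] at e1
  rw [card_ker_snd _ (zpowers d ⊓ A) fun f => by
    rw [mem_inf, C.k1, ← zp C.dsq]; rfl] at e2
  have e3 : (R ⊓ A.comap (MonoidHom.fst G F)).map (MonoidHom.fst G F) = A := by
    refine le_antisymm (by rintro _ ⟨x, hx, rfl⟩; exact hx.2) fun f hf => ?_
    obtain ⟨h, m⟩ := mem_dom.1 (h2 hf)
    exact ⟨(f, h), ⟨m, hf⟩, rfl⟩
  rw [e3] at e1
  rw [← e1, e2, ← C.card_d]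
  exact Nat.mul_le_mul_right _ (card_le_of_le inf_le_left)

theorem pgroup_img (ha : a * a = 1) {P : Subgroup G} (hP : IsPGroup 2 P) : IsPGroup 2 (img R P) := by
  rintro ⟨f, hf⟩
  obtain ⟨h, h1, m⟩ := mem_img.1 hf
  obtain ⟨k, hk⟩ := hP ⟨h, h1⟩
  have m2 : (h ^ 2 ^ k, f ^ 2 ^ k) ∈ R := R.pow_mem m _
  rw [show h ^ 2 ^ k = 1 from congrArg Subtype.val hk, C.k2] at m2
  refine ⟨k + 1, Subtype.ext ?_⟩
  show f ^ 2 ^ (k + 1) = 1
  rw [pow_succ, pow_mul, sq]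
  rcases m2 with e | e <;> rw [e]
  exacts [mul_one _, ha]

variable (S : Sys E a 21)
include S

theorem eq_of {h : G} {x y : F} (hx : x ∈ Dc E a) (hy : y ∈ E) (m : (h, x) ∈ R) (m' : (h, y) ∈ R) : y = x := by
  rcases C.eq2 m m' with e | e
  · exact e
  · rw [e, S.nta x hx (e ▸ hy), mul_one]

theorem comm_rev {X Y : G} {x y : F} (hy : y ∈ Dc E a) (m : (X, x) ∈ R) (m' : (Y, y) ∈ R) (c : Commute X Y) :
    Commute x y := by
  have := Rconj m m'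
  rw [conj_eq_self_iff.2 c] at this
  exact conj_eq_self_iff.1 (C.eq_of S hy (S.t3.conj x y hy.1) m' this)

theorem ne_of {X : G} {x : F} (hx : x ∈ Dc E a) (m : (X, x) ∈ R) : X ≠ 1 ∧ X ≠ d := by
  have : (X, (1 : F)) ∉ R := fun m' => by
    rcases C.eq2 m' m with e | e
    · exact S.t3.ne_one hx.1 e
    · exact hx.2.1 (e.trans (one_mul a))
  rwa [C.k1, not_or] at this

variable {ℓ : F → G} (L : Lift R E a ℓ)
include L

theorem cls {h : G} (hc : h ∈ dom R) (h2 : h * h = 1 ∨ h * h = d) : ∃ k, (h = k ∨ h = k * d) ∧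
    (k = 1 ∨ (∃ x ∈ Dc E a, k = ℓ x) ∨ (∃ x y, Pr (Dc E a) x y ∧ k = ℓ x * ℓ y) ∨
      ∃ x y z, Gen3 E a x y z ∧ k = ℓ x * ℓ y * ℓ z) := by
  obtain ⟨f, m⟩ := mem_dom.1 hc
  have m2 := C.eq2 ((C.k1 _).2 h2) (Rmul m m)
  rw [one_mul] at m2
  obtain ⟨g, e, hg⟩ := S.inv f (C.c2 m) m2
  have mg : (h, g) ∈ R := by
    rcases e with rfl | rfl
    · exact m
    · simpa [mul_assoc, S.asq] using C.ma m
  rcases hg with rfl | hg | ⟨x, y, p, rfl⟩ | ⟨x, y, z, p, rfl⟩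
  · exact ⟨1, C.eq1 (Rone R) mg, Or.inl rfl⟩
  · exact ⟨_, C.eq1 (L.mem g hg) mg, Or.inr (Or.inl ⟨g, hg, rfl⟩)⟩
  · exact ⟨_, C.eq1 (Rmul (L.mem x p.m1) (L.mem y p.m2)) mg, Or.inr (Or.inr (Or.inl ⟨x, y, p, rfl⟩))⟩
  · exact ⟨_, C.eq1 (Rmul (Rmul (L.mem x p.1.p12.m1) (L.mem y p.1.p12.m2)) (L.mem z p.1.p13.m2)) mg,
      Or.inr (Or.inr (Or.inr ⟨x, y, z, p, rfl⟩))⟩

omit S in
theorem lc {x y : F} (hx : x ∈ Dc E a) (hy : y ∈ Dc E a) (c : Commute x y) : Commute (ℓ x) (ℓ y) :=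
  C.lift_comm hx hy c (L.mem x hx) (L.mem y hy)

omit S in
theorem ld {x : F} (hx : x ∈ Dc E a) : Commute (ℓ x) d := C.c1 (L.mem x hx)

omit S in
theorem tri_sq {x y z : F} (p : Tri (Dc E a) x y z) : ℓ x * ℓ y * ℓ z * (ℓ x * ℓ y * ℓ z) = 1 :=
  sq_mul ((C.lc L p.p13.m1 p.p13.m2 p.p13.cm).mul_left (C.lc L p.p23.m1 p.p23.m2 p.p23.cm))
    (sq_mul (C.lc L p.p12.m1 p.p12.m2 p.p12.cm) (L.sq _ p.p12.m1) (L.sq _ p.p12.m2)) (L.sq _ p.p13.m2)

omit S L in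
theorem not_sq {t : G} (ht : IsConj d t) (g : G) : g * g ≠ t := by
  obtain ⟨u, rfl⟩ := isConj_iff.1 ht
  intro e
  refine C.n1 (u⁻¹ * g * u) ?_
  calc _ = u⁻¹ * (g * g) * u := by group
    _ = _ := by rw [e]; group

omit S L in
theorem pre_sq {B : Subgroup F} (hB : ∀ x ∈ B, x * x = 1) : ∀ h ∈ pre R B, h * h = 1 := fun h hh => by
  obtain ⟨f, hf, m⟩ := mem_pre.1 hh
  have := Rmul m m
  rw [hB f hf, C.k1] at this
  exact this.resolve_right (C.n1 h)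

omit L in
theorem img_sq {A : Subgroup G} (hA : ∀ x ∈ A, x * x = 1) : ∀ f ∈ img R A, f * f = 1 := fun f hf => by
  obtain ⟨h, hh, m⟩ := mem_img.1 hf
  have := Rmul m m
  rw [hA h hh, C.k2] at this
  obtain ⟨g, e, hg⟩ := S.inv f (C.c2 m) this
  have c : Commute g a := by
    rcases e with rfl | rfl
    · exact C.c2 m
    · simpa [mul_assoc, S.asq] using (C.c2 m).mul_left (Commute.refl a)
  have t := fun {x} (hx : x ∈ Dc E a) => S.t3.mul_self hx.1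
  have gg : g * g = 1 := by
    rcases hg with rfl | hx | ⟨x, y, p, rfl⟩ | ⟨x, y, z, p, rfl⟩
    · simp
    · exact t hx
    · exact sq_mul p.cm (t p.m1) (t p.m2)
    · exact sq_mul (p.1.p13.cm.mul_left p.1.p23.cm) (sq_mul p.1.p12.cm (t p.1.p12.m1) (t p.1.p12.m2)) (t p.1.p13.m2)
  rcases e with rfl | rfl
  exacts [gg, sq_mul c gg S.asq]

omit L in
theorem card_base {B : Subgroup F} (h1 : Nat.card B = 1024) (h2 : ∀ x ∈ B, x * x = 1) (h3 : a ∈ B)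
    (h4 : a ≠ 1) : Nat.card (pre R B) = 1024 := by
  have e1 := C.card_pre S.asq h3 fun f hf => comm_of_sq h2 hf h3
  rw [Nat.card_zpowers, orderOf_eq_two S.asq h4] at e1
  omega

variable (an : a ≠ 1)
include an

omit L in
/-- uniqueness of large elementary abelian subgroups in a 2-subgroup of the centraliser -/
theorem uq_pre [Finite G] [Finite F] {B : Subgroup F} (h1 : Nat.card B = 1024) (h2 : ∀ x ∈ B, x * x = 1) (h3 : a ∈ B)
    {P A : Subgroup G} (hP : IsPGroup 2 P) (hc : ∀ h ∈ P, Commute h d) (hB : pre R B ≤ P) (hA : A ≤ P)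
    (hs : ∀ x ∈ A, x * x = 1) (hn : Nat.card (pre R B) ≤ Nat.card A) : A = pre R B := by
  have e1 := C.card_pre S.asq h3 fun f hf => comm_of_sq h2 hf h3
  have e0 := C.n3 A hs (fun h hh => hc h (hA hh)) (C.card_base S h1 h2 h3 an ▸ hn)
  have e2 := C.card_img S.asq e0
  have e3 := S.uq (img R P) (img R A) B (C.pgroup_img S.asq hP)
    (fun f hf => let ⟨h, a1, a2⟩ := mem_img.1 hf; mem_img.2 ⟨h, hA a1, a2⟩)
    (fun f hf => let ⟨h, m⟩ := C.sur f (comm_of_sq h2 hf h3); mem_img.2 ⟨h, hB (mem_pre.2 ⟨f, hf, m⟩), m⟩)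
    (C.img_sq S hs) h2 (by have := Nat.mul_le_mul_left (Nat.card (zpowers a)) hn; omega) h1.ge
  refine eq_of_le_of_card_ge (fun h hh => ?_) hn
  obtain ⟨f, m⟩ := mem_dom.1 (e0 hh)
  exact mem_pre.2 ⟨f, e3 ▸ mem_img.2 ⟨h, hh, m⟩, m⟩

omit L in
/-- the normaliser of the inverse image of the base group controls the fusion of `d` -/
theorem norm_trans [Finite G] [Finite F] {B : Subgroup F} (h1 : Nat.card B = 1024) (h2 : ∀ x ∈ B, x * x = 1)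
    (h3 : a ∈ B) {t : G} (ht : IsConj d t) (hA : t ∈ pre R B) :
    ∃ u : G, u * d * u⁻¹ = t ∧ ∀ x, x ∈ pre R B ↔ u * x * u⁻¹ ∈ pre R B := by
  obtain ⟨g, rfl⟩ := isConj_iff.1 ht
  have sq := C.pre_sq h2
  have cA : pre R B ≤ centralizer {d} := fun h hh =>
    let ⟨_, _, m⟩ := mem_pre.1 hh; mem_centralizer_singleton_iff.2 (C.c1 m)
  let A₁ := (pre R B).comap (MulAut.conj g).toMonoidHom
  have sq₁ : ∀ x ∈ A₁, x * x = 1 := fun x hx => (MulAut.conj g).injective (by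
    rw [map_mul, map_one]; exact sq _ hx)
  have cA₁ : A₁ ≤ centralizer {d} := fun h hh =>
    mem_centralizer_singleton_iff.2 ((conj_commute_iff g _ _).1 (comm_of_sq sq hh hA))
  obtain ⟨h, hh, P, hP, p1, p2, p3⟩ := sylow_in cA₁ cA (pgroup_of_sq sq₁) (pgroup_of_sq sq)
  have e := C.uq_pre S an h1 h2 h3 (A := A₁.map (MulAut.conj h).toMonoidHom) p1
    (fun x hx => mem_centralizer_singleton_iff.1 (hP hx)) p2 (by rintro _ ⟨x, hx, rfl⟩; exact p3 x hx)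
    (by rintro _ ⟨x, hx, rfl⟩; rw [← map_mul, sq₁ x hx, map_one])
    (by
      unfold A₁
      rw [card_map_of_injective (MulAut.conj h).injective, comap_equiv_eq_map_symm',
        card_map_of_injective (MulAut.conj g).symm.injective])
  refine ⟨g * h⁻¹, ?_, fun x => ?_⟩
  · rw [mul_assoc g, (show Commute h d from mem_centralizer_singleton_iff.1 hh).inv_left.eq]; group
  · conv_lhs => rw [← e, mem_map_equiv]
    show g * (h⁻¹ * x * h) * g⁻¹ ∈ pre R B ↔ _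
    rw [show g * (h⁻¹ * x * h) * g⁻¹ = g * h⁻¹ * x * (g * h⁻¹)⁻¹ by group]

variable (N : NS E a ℓ d)
include N

omit an in
theorem pair_not {x y : F} (p : Pr (Dc E a) x y) : ¬ IsConj d (ℓ x * ℓ y) ∧ ¬ IsConj d (ℓ x * ℓ y * d) := by
  constructor
  · obtain ⟨u, v, x', y', p1, p2, e⟩ := S.swap
    obtain ⟨f, hf, rfl, rfl⟩ := S.tr2 _ _ _ _ p2.symm p
    obtain ⟨h, m⟩ := C.sur f hf
    intro hc
    refine C.not_sq hc (h * (ℓ u * ℓ v * ℓ x') * h⁻¹) ?_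
    have e1 := L.conj (Rmul (L.mem u p1.m1) (L.mem v p1.m2)) x' p2.m1
    rw [e, inv_eq_of_mul_self (sq_mul (C.lc L p1.m1 p1.m2 p1.cm) (L.sq _ p1.m1) (L.sq _ p1.m2))] at e1
    rw [← L.conj m _ p2.m1, ← L.conj m _ p2.m2, ← e1]
    group
  · obtain ⟨p₁, p₂, p₃, -, -, -, q, -, -, -, g, e⟩ := N
    obtain ⟨f, hf, rfl, rfl⟩ := S.tr2 _ _ _ _ q.1.p12 p
    obtain ⟨h, m⟩ := C.sur f hf
    intro hc
    refine C.not_sq hc (h * g * h⁻¹) ?_
    rw [← L.conj m _ q.1.p12.m1, ← L.conj m _ q.1.p12.m2, ← conj_eq_self_iff.2 (C.c1 m)]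
    calc _ = h * (g * g) * h⁻¹ := by group
      _ = _ := by rw [e]; group

omit an in
theorem tri_conj {x y z x' y' z' : F} (p : Gen3 E a x y z) (q : Gen3 E a x' y' z') :
    IsConj (ℓ x * ℓ y * ℓ z) (ℓ x' * ℓ y' * ℓ z') ∧ IsConj (ℓ x * ℓ y * ℓ z) (ℓ x' * ℓ y' * ℓ z' * d) := by
  have key : ∀ {x y z x' y' z' : F}, Gen3 E a x y z → Gen3 E a x' y' z' →
      IsConj (ℓ x * ℓ y * ℓ z) (ℓ x' * ℓ y' * ℓ z') ∧ IsConj (ℓ x * ℓ y * ℓ z * d) (ℓ x' * ℓ y' * ℓ z' * d) := by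
    intro x y z x' y' z' p q
    obtain ⟨f, hf, rfl, rfl, rfl⟩ := S.tr3 _ _ _ _ _ _ p q
    obtain ⟨h, m⟩ := C.sur f hf
    rw [← L.conj m _ p.1.p12.m1, ← L.conj m _ p.1.p12.m2, ← L.conj m _ p.1.p13.m2]
    refine ⟨isConj_iff.2 ⟨h, by group⟩, isConj_iff.2 ⟨h, ?_⟩⟩
    conv_rhs => rw [← conj_eq_self_iff.2 (C.c1 m)]
    group
  obtain ⟨p₁, p₂, p₃, p₄, p₅, p₆, q₁, q₂, -, e, -⟩ := N
  exact ⟨(key p q).1, (key p q₁).1.trans (e ▸ (key q₂ q).2)⟩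

omit an in
theorem mul_not {w w' : G} (c : Commute w w') (hw : ∃ x ∈ Dc E a, w = ℓ x ∨ w = ℓ x * d)
    (hw' : ∃ x ∈ Dc E a, w' = ℓ x ∨ w' = ℓ x * d) (h : IsConj d (w * w')) : w' = d * w := by
  obtain ⟨x, hx, e⟩ := hw
  obtain ⟨y, hy, e'⟩ := hw'
  have m : (w, x) ∈ R := by rcases e with rfl | rfl; exacts [L.mem x hx, C.md (L.mem x hx)]
  have m' : (w', y) ∈ R := by rcases e' with rfl | rfl; exacts [L.mem y hy, C.md (L.mem y hy)]
  by_cases exy : x = y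
  · subst exy
    rcases C.eq1 m m' with e1 | e1
    · rw [e1] at h; exact absurd rfl (C.not_sq h w)
    · rw [e1, (C.c1 m).eq]
  · have p : Pr (Dc E a) x y := ⟨hx, hy, exy, C.comm_rev S hy m m' c⟩
    rcases C.eq1 (Rmul (L.mem x hx) (L.mem y hy)) (Rmul m m') with e1 | e1 <;> rw [e1] at h
    exacts [absurd h (C.pair_not S L N p).1, absurd h (C.pair_not S L N p).2]

theorem tri_not [Finite G] [Finite F] {x y z : F} (p0 : Gen3 E a x y z) :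
    ¬ IsConj d (ℓ x * ℓ y * ℓ z) ∧ ¬ IsConj d (ℓ x * ℓ y * ℓ z * d) := by
  suffices h : ¬ IsConj d (ℓ x * ℓ y * ℓ z) from ⟨h, fun c => h (c.trans (C.tri_conj S L N p0 p0).2.symm)⟩
  intro hT
  obtain ⟨B, h1, h2, h3, -, p, hp, q, hq, r, hr, s, hs, g1, g2, hrs⟩ := S.base
  have sq := C.pre_sq h2
  have mA : ∀ {x}, x ∈ B → x ∈ Dc E a → ℓ x ∈ pre R B := fun h h' => mem_pre.2 ⟨_, h, L.mem _ h'⟩
  have dA : d ∈ pre R B := mem_pre.2 ⟨1, one_mem B, C.d1⟩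
  have X : ∀ w ∈ pre R B, IsConj d w → ¬ IsConj d (d * w) → w = d ∨ ∃ x ∈ Dc E a, w = ℓ x ∨ w = ℓ x * d := by
    intro w hw c nc
    obtain ⟨k, e, hk⟩ := C.cls S L (pre_le hw) (Or.inl (sq w hw))
    rcases hk with rfl | ⟨x, hx, rfl⟩ | ⟨x, y, p, rfl⟩ | ⟨x', y', z', p', rfl⟩
    · refine Or.inl ((e.resolve_left fun e => C.dne ?_).trans (one_mul d))
      rwa [e, isConj_one_left] at c
    · exact Or.inr ⟨x, hx, e⟩
    · rcases e with rfl | rfl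
      exacts [absurd c (C.pair_not S L N p).1, absurd c (C.pair_not S L N p).2]
    · refine absurd ?_ nc
      rw [← (comm_of_sq sq hw dA).eq]
      rcases e with rfl | rfl
      · exact hT.trans (C.tri_conj S L N p0 p').2
      · rw [mul_assoc, C.dsq, mul_one]; exact hT.trans (C.tri_conj S L N p0 p').1
  have Y : ∀ w ∈ pre R B, ∀ w' ∈ pre R B, IsConj d w → IsConj d w' → ¬ IsConj d (d * w) → ¬ IsConj d (d * w') →
      ¬ IsConj d (w * w') := by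
    intro w hw w' hw' c c' n n' h
    rcases X w hw c n with rfl | e
    · exact n' h
    rcases X w' hw' c' n' with rfl | e'
    · exact n ((comm_of_sq sq hw hw').eq ▸ h)
    · exact n (C.mul_not S L N (comm_of_sq sq hw hw') e e' h ▸ c')
  have a1 := mA hp g1.1.p12.m1
  have a2 := mA hq g1.1.p12.m2
  have a3 := mA hr g1.1.p13.m2
  have a4 := mA hs g2.1.p13.m2
  have tA := mul_mem (mul_mem a1 a2) a3
  have wA := mul_mem (mul_mem a1 a2) a4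
  obtain ⟨u, e, hu⟩ := C.norm_trans S an h1 h2 h3 (hT.trans (C.tri_conj S L N p0 g1).1) tA
  have cj : ∀ w, IsConj d (u⁻¹ * w * u) ↔ IsConj d w := fun w =>
    ⟨fun h => h.trans (isConj_iff.2 ⟨u, by group⟩), fun h => h.trans (isConj_iff.2 ⟨u⁻¹, by group⟩)⟩
  have mu : ∀ w ∈ pre R B, u⁻¹ * w * u ∈ pre R B := fun w hw => (hu _).2 (by simpa [mul_assoc] using hw)
  have dw : ∀ w, d * (u⁻¹ * w * u) = u⁻¹ * (ℓ p * ℓ q * ℓ r * w) * u := fun w => by rw [← e]; group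
  have tw : ℓ p * ℓ q * ℓ r * (ℓ p * ℓ q * ℓ s) = ℓ r * ℓ s := by
    rw [(comm_of_sq sq (mul_mem a1 a2) a3).eq, mul_assoc, mul_self_cancel (sq _ (mul_mem a1 a2))]
  have prs : Pr (Dc E a) r s := ⟨g1.1.p13.m2, g2.1.p13.m2, hrs, comm_of_sq h2 hr hs⟩
  refine Y _ (mu _ wA) _ (mu _ (mul_mem wA dA)) ((cj _).2 (hT.trans (C.tri_conj S L N p0 g2).1))
    ((cj _).2 (hT.trans (C.tri_conj S L N p0 g2).2)) ?_ ?_ ?_
  · rw [dw, cj, tw]; exact (C.pair_not S L N prs).1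
  · rw [dw, cj, ← mul_assoc, tw]; exact (C.pair_not S L N prs).2
  · rw [show ∀ w w' : G, u⁻¹ * w * u * (u⁻¹ * w' * u) = u⁻¹ * (w * w') * u from fun _ _ => by group, cj,
      mul_self_cancel (sq _ wA)]

theorem cases_D [Finite G] [Finite F] {t : G} (ht : IsConj d t) (c : t ∈ dom R) :
    t = d ∨ ∃ x ∈ Dc E a, t = ℓ x ∨ t = ℓ x * d := by
  have sq : t * t = 1 := by
    obtain ⟨g, rfl⟩ := isConj_iff.1 ht
    calc _ = g * (d * d) * g⁻¹ := by group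
      _ = 1 := by rw [C.dsq]; group
  obtain ⟨k, e, hk⟩ := C.cls S L c (Or.inl sq)
  rcases hk with rfl | ⟨x, hx, rfl⟩ | ⟨x, y, p, rfl⟩ | ⟨x', y', z', p', rfl⟩
  · refine Or.inl ((e.resolve_left fun e => C.dne ?_).trans (one_mul d))
    rwa [e, isConj_one_left] at ht
  · exact Or.inr ⟨x, hx, e⟩
  · rcases e with rfl | rfl
    exacts [absurd ht (C.pair_not S L N p).1, absurd ht (C.pair_not S L N p).2]
  · rcases e with rfl | rfl
    exacts [absurd ht (C.tri_not S L an N p').1, absurd ht (C.tri_not S L an N p').2]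

omit N an in
theorem one_conj {x y : F} (hx : x ∈ Dc E a) (hy : y ∈ Dc E a) : IsConj (ℓ x) (ℓ y) := by
  obtain ⟨f, hf, rfl⟩ := S.tr1 _ hx _ hy
  obtain ⟨h, m⟩ := C.sur f hf
  exact isConj_iff.2 ⟨h, L.conj m x hx⟩

theorem not_both [Finite G] [Finite F] {x y : F} (hx : x ∈ Dc E a) (hy : y ∈ Dc E a) (c : IsConj d (ℓ x)) :
    ¬ IsConj d (ℓ y * d) := by
  intro c'
  have k1 := fun {z} (hz : z ∈ Dc E a) => c.trans (C.one_conj S L hx hz)
  have k2 := fun {z} (hz : z ∈ Dc E a) => c'.trans (C.one_conj S (C.lift_d L) hy hz)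
  obtain ⟨B, h1, h2, h3, -, p, hp, q, hq, r, hr, -, -, g1, -⟩ := S.base
  have sq := C.pre_sq h2
  have a1 : ℓ p ∈ pre R B := mem_pre.2 ⟨_, hp, L.mem _ g1.1.p12.m1⟩
  have a2 : ℓ q ∈ pre R B := mem_pre.2 ⟨_, hq, L.mem _ g1.1.p12.m2⟩
  have dA : d ∈ pre R B := mem_pre.2 ⟨1, one_mem B, C.d1⟩
  obtain ⟨u, e, hu⟩ := C.norm_trans S an h1 h2 h3 (k1 g1.1.p12.m1) a1
  have wA : u⁻¹ * ℓ q * u ∈ pre R B := (hu _).2 (by simpa [mul_assoc] using a2)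
  have n : ¬ IsConj d (u⁻¹ * ℓ q * u * d) := fun h => (C.pair_not S L N g1.1.p12.symm).1
    (h.trans (isConj_iff.2 ⟨u, by rw [← e]; group⟩))
  rcases C.cases_D S L an N ((k1 g1.1.p12.m2).trans (isConj_iff.2 ⟨u⁻¹, by group⟩)) (pre_le wA) with e1 | ⟨z, hz, e1 | e1⟩
  · refine g1.1.p12.ne (C.eq_of S g1.1.p12.m2 g1.1.p12.m1.1 (L.mem _ g1.1.p12.m2) ?_)
    rw [show ℓ q = ℓ p by rw [← e, ← e1]; group]
    exact L.mem _ g1.1.p12.m1
  · exact n (e1 ▸ k2 hz)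
  · rw [e1, mul_assoc, C.dsq, mul_one] at n
    exact n (k1 hz)

end CW

/-- the local description inside the subgroup of index two -/
structure Lw (R : Subgroup (G × F)) (E : Set F) (a : F) (ℓ : F → G) (d : G) : Prop where
  C : CW R E a d
  L : Lift R E a ℓ
  N : NS E a ℓ d
  cls : ∀ t, t ∈ Dc (conjugatesOf d) d ∧ t ∈ dom R ↔ ∃ x ∈ Dc E a, ℓ x = t

theorem CW.exists_lw [Finite G] [Finite F] {R : Subgroup (G × F)} {d : G} {a : F} {E : Set F} (C : CW R E a d)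
    (S : Sys E a 21) (an : a ≠ 1) {ℓ : F → G} (L : Lift R E a ℓ) (N : NS E a ℓ d) {b : G} (c : IsConj d b)
    (h1 : b ∈ dom R) (h2 : b ≠ d) : ∃ ℓ', Lw R E a ℓ' d := by
  have key : ∀ {ℓ : F → G}, Lift R E a ℓ → NS E a ℓ d → ∀ x ∈ Dc E a, IsConj d (ℓ x) → Lw R E a ℓ d := by
    intro ℓ L N x hx c
    refine ⟨C, L, N, fun t => ⟨fun ht => ?_, ?_⟩⟩
    · rcases C.cases_D S L an N ht.1.1 ht.2 with e | ⟨y, hy, e | e⟩
      · exact absurd e ht.1.2.1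
      · exact ⟨y, hy, e.symm⟩
      · exact absurd (e ▸ ht.1.1) (C.not_both S L an N hx hy c)
    · rintro ⟨y, hy, rfl⟩
      exact ⟨⟨c.trans (C.one_conj S L hx hy), (C.ne_of S hy (L.mem y hy)).2, (C.ld L hy).symm⟩,
        mem_dom.2 ⟨_, L.mem y hy⟩⟩
  rcases C.cases_D S L an N c h1 with e | ⟨y, hy, e | e⟩
  · exact absurd e h2
  · exact ⟨_, key L N y hy (e ▸ c)⟩
  · exact ⟨_, key (C.lift_d L) (C.ns_d L N) y hy (e ▸ c)⟩

end H96.FA
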