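import Mathlib
import Cfsg.Agent.Lib.F3L.AutL

/-!
The conjugates of `d` that commute with `d` lie in the subgroup of index two of the centraliser.
-/

set_option autoImplicit false

namespace H96.FA

open Subgroup Cfsg H54 H94 H56 H96.F22 H80.FI

variable {G G' F : Type*} [Group G] [Group G'] [Group F]

theorem Lw.map {R : Subgroup (G × F)} {E : Set F} {a : F} {ℓ : F → G} {d : G} (h : Lw R E a ℓ d) (φ : G ≃* G') :
    Lw (R.comap (φ.symm.toMonoidHom.prodMap (MonoidHom.id F))) E a (fun x => φ (ℓ x)) (φ d) := by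
  set R' := R.comap (φ.symm.toMonoidHom.prodMap (MonoidHom.id F))
  have mem : ∀ x f, (φ x, f) ∈ R' ↔ (x, f) ∈ R := fun x f => by
    show (φ.symm (φ x), f) ∈ R ↔ _
    rw [φ.symm_apply_apply]
  have md : ∀ x, φ x ∈ dom R' ↔ x ∈ dom R := fun x => by simp only [mem_dom, mem]
  have cm : ∀ x y, Commute (φ x) (φ y) ↔ Commute x y := fun x y => commute_map_iff φ.injective
  have ic : ∀ x y, IsConj (φ x) (φ y) ↔ IsConj x y := fun x y =>
    ⟨fun c => by simpa using φ.symm.toMonoidHom.map_isConj c, fun c => φ.toMonoidHom.map_isConj c⟩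
  have C := h.C
  refine ⟨⟨by rw [← map_mul, C.dsq, map_one], (map_ne_one_iff _ φ.injective).2 C.dne, fun f hf => ?_,
    fun {x f} => ?_, fun {x f} m => C.c2 m, fun x => ?_, fun f => ?_, fun {X Y x y} hx hy c => ?_, ?_,
    fun A h1 h2 h3 x hx => ?_, ?_, ?_, ?_, ?_, ?_⟩, ⟨fun x hx => (mem _ _).2 (h.L.mem x hx),
    fun {x f} => ?_, fun x hx => by rw [← map_mul, h.L.sq x hx, map_one]⟩, ?_, fun t => ?_⟩
  · obtain ⟨x, m⟩ := C.sur f hf
    exact ⟨φ x, (mem _ _).2 m⟩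
  · obtain ⟨x, rfl⟩ := φ.surjective x
    simpa only [mem, cm] using C.c1
  · obtain ⟨x, rfl⟩ := φ.surjective x
    rw [mem, C.k1, map_eq_one_iff _ φ.injective, φ.injective.eq_iff]
  · rw [← map_one φ, mem, C.k2]
  · obtain ⟨X, rfl⟩ := φ.surjective X
    obtain ⟨Y, rfl⟩ := φ.surjective Y
    simpa only [mem, cm] using C.lift_comm hx hy c
  · simpa only [φ.surjective.forall, ← map_mul, Ne, φ.injective.eq_iff] using C.n1
  · obtain ⟨x, rfl⟩ := φ.surjective x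
    refine (md x).2 (C.n3 (A.comap φ.toMonoidHom) (fun y hy => φ.injective ?_) (fun y hy => (cm _ _).1 (h2 _ hy)) ?_ hx)
    · rw [map_mul, map_one]; exact h1 _ hy
    · rwa [comap_equiv_eq_map_symm', card_map_of_injective φ.symm.injective]
  · simpa only [φ.surjective.forall, ← map_mul, cm, md] using C.idx
  · simpa only [φ.surjective.forall, ← map_mul, ← map_inv, cm, md] using C.nrm
  · simpa only [φ.surjective.forall, cm, md, map_eq_one_iff _ φ.injective, φ.injective.eq_iff] using C.cent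
  · simpa only [φ.surjective.forall, ← map_mul, cm, md, ic, mem] using C.out
  · simpa only [φ.surjective.exists, cm, md] using C.ex
  · obtain ⟨x, rfl⟩ := φ.surjective x
    intro m y hy
    rw [← h.L.conj ((mem _ _).1 m) y hy, map_mul, map_mul, map_inv]
  · obtain ⟨p₁, p₂, p₃, p₄, p₅, p₆, q₁, q₂, c, e, g, e'⟩ := h.N
    exact ⟨p₁, p₂, p₃, p₄, p₅, p₆, q₁, q₂, c, by simpa using congrArg φ e, φ g, by simpa using congrArg φ e'⟩
  · obtain ⟨t, rfl⟩ := φ.surjective t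
    simp only [φ.injective.eq_iff, ← h.cls]
    simp only [φ.injective.eq_iff, mem_Dc, cm, Ne, md]
    exact and_congr_left' (and_congr_left' (ic d t))

/-- the conjugates of `d` in the domain -/
def pts (R : Subgroup (G × F)) (d : G) : Set G := {t | t ∈ Dc (conjugatesOf d) d ∧ t ∈ dom R}

namespace Lw

variable {R : Subgroup (G × F)} {E : Set F} {a : F} {ℓ : F → G} {d : G} (h : Lw R E a ℓ d)
include h

theorem mem {x : F} (hx : x ∈ Dc E a) : ℓ x ∈ pts R d := (h.cls _).2 ⟨x, hx, rfl⟩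

theorem dd : d ∈ dom R := mem_dom.2 ⟨_, h.C.d1⟩

theorem conj_pt {g t : G} (c : Commute g d) (ht : t ∈ pts R d) : g * t * g⁻¹ ∈ pts R d := by
  refine ⟨⟨IsConj.trans ht.1.1 (isConj_iff.2 ⟨g, rfl⟩), fun e => ht.1.2.1 ?_, ?_⟩, h.C.nrm g c t ht.2⟩
  · rwa [← conj_eq_self_iff.2 c, conj_inj_iff] at e
  · rw [← conj_eq_self_iff.2 c, conj_commute_iff]; exact ht.1.2.2

variable (S : Sys E a 21) (an : a ≠ 1)
include S

theorem comm {x y : F} (hx : x ∈ Dc E a) (hy : y ∈ Dc E a) : Commute (ℓ x) (ℓ y) ↔ Commute x y :=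
  ⟨h.C.comm_rev S hy (h.L.mem x hx) (h.L.mem y hy), h.C.lc h.L hx hy⟩

theorem out' {w : G} (c : IsConj d w) (c' : Commute w d) (hw : w ∉ dom R) : ∃ b ∈ pts R d, Commute w b ∧
    ¬ IsConj d (w * b) ∧ ¬ IsConj d (w * (b * d)) ∧
    ∀ x ∈ pts R d, (x = b ↔ ∀ y ∈ pts R d, Commute w y → Commute x y) := by
  obtain ⟨p, hp, h1, h2⟩ := h.C.out w c c' hw
  refine ⟨_, h.mem hp, (h1 _ (h.L.mem p hp)).1, (h1 _ (h.L.mem p hp)).2, (h1 _ (h.C.md (h.L.mem p hp))).2,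
    fun x hx => ?_⟩
  obtain ⟨x, hx', rfl⟩ := (h.cls x).1 hx
  refine ⟨fun e y hy cy => ?_, fun k => congrArg ℓ ((h2 x hx').2 fun q hq Q m cq =>
    (h.comm S hx' hq).1 (k _ (h.mem hq) ?_))⟩
  · obtain ⟨y, hy', rfl⟩ := (h.cls y).1 hy
    rw [e, h.comm S hp hy']
    exact (h2 p hp).1 rfl y hy' _ (h.L.mem y hy') cy
  · rcases h.C.eq1 m (h.L.mem q hq) with e | e <;> rw [e]
    exacts [cq, cq.mul_right c']

include an

theorem base_pair {u v : G} (hu : u ∈ pts R d) (hv : v ∈ pts R d) (c : Commute u v) :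
    ∃ A : Subgroup G, (∀ x ∈ A, x * x = 1) ∧ 1024 ≤ Nat.card A ∧ d ∈ A ∧ u ∈ A ∧ v ∈ A := by
  obtain ⟨x, hx, rfl⟩ := (h.cls u).1 hu
  obtain ⟨y, hy, rfl⟩ := (h.cls v).1 hv
  obtain ⟨B, h1, h2, h3, -, p, hp, q, hq, r, -, -, -, g1, -⟩ := S.base
  obtain ⟨f, hf, p', m1, h4, q', m2, h5, rfl, rfl⟩ : ∃ f, Commute f a ∧ ∃ p ∈ B, p ∈ Dc E a ∧ ∃ q ∈ B, q ∈ Dc E a ∧
      f * p * f⁻¹ = x ∧ f * q * f⁻¹ = y := by
    by_cases e : x = y
    · obtain ⟨f, hf, e'⟩ := S.tr1 p g1.1.p12.m1 x hx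
      exact ⟨f, hf, p, hp, g1.1.p12.m1, p, hp, g1.1.p12.m1, e', e ▸ e'⟩
    · obtain ⟨f, hf, e1, e2⟩ := S.tr2 p q x y g1.1.p12 ⟨hx, hy, e, (h.comm S hx hy).1 c⟩
      exact ⟨f, hf, p, hp, g1.1.p12.m1, q, hq, g1.1.p12.m2, e1, e2⟩
  obtain ⟨g, m⟩ := h.C.sur f hf
  refine ⟨(pre R B).map (MulAut.conj g).toMonoidHom, ?_, ?_,
    ⟨d, mem_pre.2 ⟨1, one_mem B, h.C.d1⟩, conj_eq_self_iff.2 (h.C.c1 m)⟩,
    ⟨_, mem_pre.2 ⟨_, m1, h.L.mem _ h4⟩, h.L.conj m _ h4⟩, ⟨_, mem_pre.2 ⟨_, m2, h.L.mem _ h5⟩, h.L.conj m _ h5⟩⟩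
  · rintro _ ⟨z, hz, rfl⟩
    rw [← map_mul, h.C.pre_sq h2 z hz, map_one]
  · rw [card_map_of_injective (MulAut.conj g).injective, h.C.card_base S h1 h2 h3 an]

theorem sym {x : G} (hx : x ∈ pts R d) {R' : Subgroup (G × F)} {ℓ' : F → G} (h' : Lw R' E a ℓ' x) : d ∈ pts R' x := by
  obtain ⟨A, h1, h2, h3, h4, -⟩ := h.base_pair S an hx hx (.refl x)
  exact ⟨⟨IsConj.symm hx.1.1, hx.1.2.1.symm, hx.1.2.2.symm⟩, h'.C.n3 A h1 (fun y hy => comm_of_sq h1 hy h4) h2 h3⟩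

end Lw

/-- outer involutions are not conjugate to `d` -/
theorem Lw.all [Finite G] {E : Set F} (M : Model22 F E) {a : F} (ha : a ∈ E) {R : Subgroup (G × F)} {ℓ : F → G} {d : G}
    (h : Lw R E a ℓ d) {w : G} (hw : IsConj d w) (c : Commute w d) : w ∈ dom R := by
  have S := sys22 M ha
  have an := (tc M).ne_one ha
  have all : ∀ {x}, IsConj d x → ∃ R ℓ, Lw R E a ℓ x := fun hx => by
    obtain ⟨g, rfl⟩ := isConj_iff.1 hx
    exact ⟨_, _, h.map (MulAut.conj g)⟩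
  by_contra hn
  obtain ⟨R', ℓ', h'⟩ := all hw
  have wd : w ≠ d := fun e => hn (e ▸ h.dd)
  have dn : d ∉ dom R' := fun m => hn (h'.sym S an ⟨⟨hw.symm, wd.symm, c⟩, m⟩ h).2
  obtain ⟨b', hb', c1, -, -, u1⟩ := h'.out' S hw.symm c.symm dn
  obtain ⟨b, hb, -, n1, n2, u2⟩ := h.out' S hw c hn
  have db : IsConj d b' := hw.trans hb'.1.1
  have bn : b' ∉ dom R := fun m => by
    obtain ⟨R'', ℓ'', h''⟩ := all db
    obtain ⟨A, h1, h2, -, h4, h5⟩ := h''.base_pair S an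
      (h.sym S an ⟨⟨db, fun e => dn (e ▸ hb'.2), c1⟩, m⟩ h'') (h'.sym S an hb' h'') c.symm
    exact hn (h.C.n3 A h1 (fun y hy => comm_of_sq h1 hy h4) h2 h5)
  have zd := h.C.idx w b' c c1.symm hn bn
  have cz : ∀ y ∈ pts R d, Commute w y → Commute (w * b') y := fun y hy cy => by
    refine cy.mul_left (conj_eq_self_iff.1 ((u1 _ (h'.conj_pt cy.symm hb')).2 fun v hv cv => ?_)).symm
    have := (u1 b' hb').1 rfl _ (h'.conj_pt cy.symm.inv_left hv) (by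
      rw [← conj_eq_self_iff.2 hy.1.2.2.symm.inv_left, conj_commute_iff]; exact cv)
    rw [← conj_commute_iff y] at this
    simpa [mul_assoc] using this
  have w2 := h'.C.dsq
  obtain ⟨p', hp', rfl⟩ := (h'.cls b').1 hb'
  obtain ⟨k, e, hk⟩ := h.C.cls S h.L zd (Or.inl (sq_mul hb'.1.2.2 w2 (h'.L.sq _ hp')))
  have ck : ∀ y ∈ pts R d, Commute w y → Commute k y := fun y hy cy => by
    rcases e with e | e
    · exact e ▸ cz y hy cy
    · have := (cz y hy cy).mul_left hy.1.2.2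
      rwa [e, mul_assoc, h.C.dsq, mul_one] at this
  have pt : ∀ {f}, (k, f) ∈ R → ∀ x ∈ Dc E a, (∀ q ∈ E, Commute f q → Commute q x) → ℓ x = b := fun {f} m x hx hq =>
    (u2 _ (h.mem hx)).2 fun y hy cy => by
      obtain ⟨q, h1, rfl⟩ := (h.cls y).1 hy
      exact (h.comm S hx h1).2 (hq q h1.1 (h.C.comm_rev S h1 m (h.L.mem q h1) (ck _ hy cy))).symm
  have inj : ∀ {x y}, Pr (Dc E a) x y → ℓ x = b → ℓ y ≠ b := fun p e1 e2 =>
    p.ne (h.C.eq_of S p.m2 p.m1.1 (h.L.mem _ p.m2) (e2 ▸ e1 ▸ h.L.mem _ p.m1))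
  rcases hk with rfl | ⟨x, hx, rfl⟩ | ⟨x, y, p, rfl⟩ | ⟨x, y, z, p, rfl⟩
  · rcases e with e | e
    · exact hb'.1.2.1 (by rw [← mul_self_cancel w2 (ℓ' p'), e, mul_one])
    · exact dn (by rw [← one_mul d, ← e]; exact mul_mem h'.dd hb'.2)
  · rw [pt (h.L.mem x hx) x hx fun q _ c => c.symm] at e
    rcases e with e | e
    · exact n1 (by rwa [← e, mul_self_cancel w2])
    · exact n2 (by rwa [← e, mul_self_cancel w2])
  · have m := Rmul (h.L.mem x p.m1) (h.L.mem y p.m2)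
    exact inj p (pt m x p.m1 fun q hq c => (commute_of_mul M.tt (Pr.sub p) hq c.symm).1)
      (pt m y p.m2 fun q hq c => (commute_of_mul M.tt (Pr.sub p) hq c.symm).2)
  · have m := Rmul (Rmul (h.L.mem x p.1.p12.m1) (h.L.mem y p.1.p12.m2)) (h.L.mem z p.1.p13.m2)
    exact inj p.1.p12 (pt m x p.1.p12.m1 fun q hq c => (commute_tri M hq (Tri.sub p.1) c).1)
      (pt m y p.1.p12.m2 fun q hq c => (commute_tri M hq (Tri.sub p.1) c).2.1)

end H96.FA
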