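import Mathlib
import Cfsg.Agent.Lib.F3L.AutG
import Cfsg.Agent.Lib.F3L.AutM

/-!
From the local description in the subgroup of index two to the automorphism group (after Lib/FiI/Glue).
-/

set_option autoImplicit false

namespace H96.FA

open Subgroup Cfsg H54 H94 H56 H96.F22 H80.FI

variable {G F : Type*} [Group G] [Group F]

/-- the local description, all commuting conjugates being lifts -/
structure Lf (R : Subgroup (G × F)) (E : Set F) (a : F) (ℓ : F → G) (d : G) : Prop where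
  C : CW R E a d
  L : Lift R E a ℓ
  N : NS E a ℓ d
  cls : ∀ t, t ∈ Dc (conjugatesOf d) d ↔ ∃ x ∈ Dc E a, ℓ x = t

/-- the local description holds at every member of `D` -/
def AllF (E : Set F) (a : F) (D : Set G) : Prop :=
  ∀ d ∈ D, conjugatesOf d = D ∧ ∃ R ℓ, Lf R E a ℓ d

theorem Lw.allF [Finite G] {E : Set F} (M : Model22 F E) {a : F} (ha : a ∈ E) {R : Subgroup (G × F)} {ℓ : F → G}
    {d : G} (h : Lw R E a ℓ d) : AllF E a (conjugatesOf d) := fun x hx => by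
  refine ⟨(IsConj.conjugatesOf_eq hx).symm, ?_⟩
  obtain ⟨g, rfl⟩ := isConj_iff.1 hx
  have l := h.map (MulAut.conj g)
  exact ⟨_, _, l.C, l.L, l.N, fun t => (and_iff_left_of_imp fun ht => l.all M ha ht.1 ht.2.2.symm).symm.trans (l.cls t)⟩

namespace Lf

variable {R : Subgroup (G × F)} {E : Set F} {a : F} {ℓ : F → G} {d : G} (h : Lf R E a ℓ d) (S : Sys E a 21)
include h

theorem mem {x : F} (hx : x ∈ Dc E a) : ℓ x ∈ Dc (conjugatesOf d) d := (h.cls _).2 ⟨x, hx, rfl⟩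

theorem cases {t : G} (ht : t ∈ conjugatesOf d) (c : Commute d t) : t = d ∨ ∃ x ∈ Dc E a, ℓ x = t := by
  by_cases e : t = d
  exacts [Or.inl e, Or.inr ((h.cls t).1 ⟨ht, e, c⟩)]

include S

theorem lw {x y : F} (hx : x ∈ Dc E a) (hy : y ∈ Dc E a) : ℓ (x * y * x) = ℓ x * ℓ y * ℓ x := by
  have := h.L.conj (h.L.mem x hx) y hy
  rw [inv_eq_of_mul_self (h.L.sq x hx), S.t3.inv_eq hx.1] at this
  exact this.symm

theorem inj {x y : F} (hx : x ∈ Dc E a) (hy : y ∈ Dc E a) (e : ℓ x = ℓ y) : x = y :=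
  h.C.eq_of S hy hx.1 (h.L.mem y hy) (e ▸ h.L.mem x hx)

theorem comm {x y : F} (hx : x ∈ Dc E a) (hy : y ∈ Dc E a) : Commute (ℓ x) (ℓ y) ↔ Commute x y :=
  ⟨h.C.comm_rev S hy (h.L.mem x hx) (h.L.mem y hy), h.C.lc h.L hx hy⟩

theorem pr {x y : F} (hx : x ∈ Dc E a) (hy : y ∈ Dc E a) {D : Set G} (p : Pr D (ℓ x) (ℓ y)) : Pr (Dc E a) x y :=
  ⟨hx, hy, fun e => p.ne (by rw [e]), (h.comm S hx hy).1 p.cm⟩

theorem qiso : QIso (Dc E a) (Dc (conjugatesOf d) d) ℓ := by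
  have q := S.t3.q3.dc a
  refine ⟨q, ⟨fun t ht => ?_, fun t ht u hu c => ?_, fun t ht u hu => ?_⟩,
    ⟨fun x hx => h.mem hx, fun x hx y hy => h.inj S hx hy, fun t ht => (h.cls t).1 ht⟩, fun x hx y hy => h.lw S hx hy⟩
  · obtain ⟨x, hx, rfl⟩ := (h.cls t).1 ht
    exact h.L.sq x hx
  · obtain ⟨x, hx, rfl⟩ := (h.cls t).1 ht
    obtain ⟨y, hy, rfl⟩ := (h.cls u).1 hu
    rw [← h.lw S hx hy, ← h.lw S hy hx, q.br x hx y hy fun c' => c ((h.comm S hx hy).2 c')]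
  · obtain ⟨x, hx, rfl⟩ := (h.cls t).1 ht
    obtain ⟨y, hy, rfl⟩ := (h.cls u).1 hu
    rw [← h.lw S hx hy]
    exact h.mem (q.cl x hx y hy)

omit S in
theorem self : d ∈ closure (Dc (conjugatesOf d) d) := by
  obtain ⟨p₁, p₂, p₃, p₄, p₅, p₆, q₁, q₂, -, e, -⟩ := h.N
  have m : ∀ {x y z}, Gen3 E a x y z → ℓ x * ℓ y * ℓ z ∈ closure (Dc (conjugatesOf d) d) := fun q =>
    mul_mem (mul_mem (subset_closure (h.mem q.1.p12.m1)) (subset_closure (h.mem q.1.p12.m2)))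
      (subset_closure (h.mem q.1.p13.m2))
  exact (mul_mem_cancel_left (m q₂)).1 (e ▸ m q₁)

theorem gen {g : G} (c : g ∈ dom R) : g ∈ closure (Dc (conjugatesOf d) d) := by
  obtain ⟨f, m⟩ := mem_dom.1 c
  have : closure (Dc E a) ≤ img R (closure (Dc (conjugatesOf d) d)) :=
    (closure_le _).2 fun x hx => mem_img.2 ⟨_, subset_closure (h.mem hx), h.L.mem x hx⟩
  obtain ⟨g', h1, m'⟩ := mem_img.1 (this (S.gen1 f (h.C.c2 m)))
  rcases h.C.eq1 m' m with rfl | rfl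
  exacts [h1, mul_mem h1 h.self]

theorem cent {z : G} (c : Commute z d) (c' : ∀ y ∈ Dc (conjugatesOf d) d, Commute z y) : z = 1 ∨ z = d :=
  h.C.cent z c fun _ hg => commute_of_mem_closure c' (h.gen S hg)

theorem trans {u v : G} (hu : u ∈ Dc (conjugatesOf d) d) (hv : v ∈ Dc (conjugatesOf d) d) :
    ∃ g, (Commute g d ∧ g ∈ closure (Dc (conjugatesOf d) d)) ∧ g * u * g⁻¹ = v := by
  obtain ⟨x, hx, rfl⟩ := (h.cls u).1 hu
  obtain ⟨y, hy, rfl⟩ := (h.cls v).1 hv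
  obtain ⟨f, hf, rfl⟩ := S.tr1 x hx y hy
  obtain ⟨g, m⟩ := h.C.sur f hf
  exact ⟨g, ⟨h.C.c1 m, h.gen S (mem_dom.2 ⟨f, m⟩)⟩, h.L.conj m x hx⟩

theorem exists_gen {x y : F} (p : Pr (Dc E a) x y) : ∃ r, Gen3 E a r x y := by
  obtain ⟨p₁, p₂, p₃, -, -, -, q, -⟩ := h.N
  obtain ⟨f, hf, rfl, rfl⟩ := S.tr2 _ _ _ _ q.1.p23 p
  exact ⟨_, q.conj S.t3 hf⟩

theorem third {u : G} (hu : u ∈ Dc (conjugatesOf d) d) : ∃ c ∈ Dc (conjugatesOf d) d, c ≠ u ∧ Commute c u := by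
  obtain ⟨p₁, p₂, p₃, -, -, -, q, -⟩ := h.N
  obtain ⟨x, hx, rfl⟩ := (h.cls u).1 hu
  obtain ⟨f, hf, rfl⟩ := S.tr1 _ q.1.p12.m1 x hx
  have p := Pr_conj S.t3 hf q.1.p12.symm
  exact ⟨_, h.mem p.m1, fun e => p.ne (h.inj S p.m1 p.m2 e), (h.comm S p.m1 p.m2).2 p.cm⟩

omit S in
theorem nonempty : (Dc (conjugatesOf d) d).Nonempty := by
  obtain ⟨p₁, p₂, p₃, -, -, -, q, -⟩ := h.N
  exact ⟨_, h.mem q.1.p12.m1⟩

theorem two {b : G} (hb : b ∈ Dc (conjugatesOf d) d) : d * b ∉ conjugatesOf d := by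
  obtain ⟨x, hx, rfl⟩ := (h.cls b).1 hb
  intro hc
  rw [hb.2.2.eq] at hc
  rcases h.cases hc (hb.2.2.mul_right (Commute.refl d)) with e | ⟨y, hy, e⟩
  · exact (h.C.ne_of S hx (h.L.mem x hx)).1 (mul_eq_right.1 e)
  · rw [h.C.eq_of S hx hy.1 (h.C.md (h.L.mem x hx)) (e ▸ h.L.mem y hy), left_eq_mul] at e
    exact h.C.dne e

theorem uniq {b x y : G} (hb : b ∈ Dc (conjugatesOf d) d) (p : Pr (conjugatesOf d) x y) (c1 : Commute d x)
    (c2 : Commute d y) (e : d * b = x * y) : x = d ∨ x = b := by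
  obtain ⟨β, hβ, rfl⟩ := (h.cls b).1 hb
  rcases h.cases p.m1 c1 with rfl | ⟨ξ, hξ, rfl⟩
  · exact Or.inl rfl
  rcases h.cases p.m2 c2 with rfl | ⟨η, hη, rfl⟩
  · rw [hb.2.2.eq] at e; exact Or.inr (mul_right_cancel e).symm
  have := S.p12 β hβ _ _ (h.pr S hξ hη p)
  have m := h.C.md (h.L.mem β hβ)
  rw [← hb.2.2.eq, e] at m
  exact ((h.C.eq2 (Rmul (h.L.mem _ hξ) (h.L.mem _ hη)) m).elim this.1 this.2).elim

theorem odd {b : G} (hb : b ∈ Dc (conjugatesOf d) d) : ∃ l : List G, Odd l.length ∧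
    (∀ x ∈ l, x ∈ conjugatesOf d ∧ Commute x d ∧ Commute x b) ∧ (∀ x ∈ l, ∀ y ∈ l, Commute x y) ∧ l.prod = 1 := by
  obtain ⟨p₁, p₂, p₃, p₄, p₅, p₆, q₁, q₂, c, e, -⟩ := h.N
  obtain ⟨g, ⟨hg, -⟩, rfl⟩ := h.trans S (h.mem q₁.1.p12.m1) hb
  have hm : ∀ x ∈ [p₁, p₂, p₃, p₄, p₅, p₆], x ∈ Dc E a := by
    simp [q₁.1.p12.m1, q₁.1.p12.m2, q₁.1.p13.m2, q₂.1.p12.m1, q₂.1.p12.m2, q₂.1.p13.m2]
  have hc : ∀ x ∈ [p₁, p₂, p₃, p₄, p₅, p₆], ∀ y ∈ [p₁, p₂, p₃, p₄, p₅, p₆], Commute x y := by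
    simp only [List.forall_mem_cons, List.not_mem_nil, false_imp_iff, implies_true, and_true] at c ⊢
    obtain ⟨⟨c1, c2, c3⟩, ⟨c4, c5, c6⟩, c7, c8, c9⟩ := c
    exact ⟨⟨.refl _, q₁.1.p12.cm, q₁.1.p13.cm, c1, c2, c3⟩, ⟨q₁.1.p12.cm.symm, .refl _, q₁.1.p23.cm, c4, c5, c6⟩,
      ⟨q₁.1.p13.cm.symm, q₁.1.p23.cm.symm, .refl _, c7, c8, c9⟩,
      ⟨c1.symm, c4.symm, c7.symm, .refl _, q₂.1.p12.cm, q₂.1.p13.cm⟩,
      ⟨c2.symm, c5.symm, c8.symm, q₂.1.p12.cm.symm, .refl _, q₂.1.p23.cm⟩,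
      c3.symm, c6.symm, c9.symm, q₂.1.p13.cm.symm, q₂.1.p23.cm.symm, .refl _⟩
  have gd := conj_eq_self_iff.2 hg
  refine ⟨(([p₁, p₂, p₃, p₄, p₅, p₆].map ℓ) ++ [d]).map (MulAut.conj g), by simp; decide, ?_, ?_, ?_⟩
  · simp only [List.forall_mem_map, List.forall_mem_append, List.forall_mem_singleton, MulAut.conj_apply]
    refine ⟨fun x hx => ⟨IsConj.trans (h.mem (hm x hx)).1 (isConj_iff.2 ⟨g, rfl⟩), ?_, ?_⟩, ?_⟩
    · conv_rhs => rw [← gd]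
      exact (conj_commute_iff _ _ _).2 (h.mem (hm x hx)).2.2.symm
    · exact (conj_commute_iff _ _ _).2 ((h.comm S (hm x hx) q₁.1.p12.m1).2 (hc x hx _ List.mem_cons_self))
    · rw [gd]; exact ⟨IsConj.refl d, .refl d, hb.2.2⟩
  · simp only [List.forall_mem_map, List.forall_mem_append, List.forall_mem_singleton, MulAut.conj_apply,
      conj_commute_iff]
    exact ⟨fun x hx => ⟨fun y hy => (h.comm S (hm x hx) (hm y hy)).2 (hc x hx y hy), (h.mem (hm x hx)).2.2.symm⟩,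
      fun x hx => (h.mem (hm x hx)).2.2, .refl d⟩
  · rw [← map_list_prod, map_eq_one_iff _ (MulAut.conj g).injective]
    have : ℓ p₁ * ℓ p₂ * ℓ p₃ * (ℓ p₄ * ℓ p₅ * ℓ p₆ * d) = 1 := by rw [← e, h.C.tri_sq h.L q₁.1]
    simpa [mul_assoc] using this

theorem four [Finite G] [Finite F] (an : a ≠ 1) {b c : G} (p : Tri (conjugatesOf d) d b c) : ∃ r ∈ conjugatesOf d, Commute r d ∧
    Commute r b ∧ Commute r c ∧ r * (d * b * c) ∉ conjugatesOf d ∧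
    ∀ x y, Pr (conjugatesOf d) x y → Commute d x → Commute d y → r * (d * b * c) ≠ x * y := by
  obtain ⟨β, hβ, rfl⟩ := (h.cls b).1 ⟨p.p12.m2, p.p12.ne.symm, p.p12.cm⟩
  obtain ⟨γ, hγ, rfl⟩ := (h.cls c).1 ⟨p.p13.m2, p.p13.ne.symm, p.p13.cm⟩
  obtain ⟨ρ, q⟩ := h.exists_gen S (h.pr S hβ hγ p.p23)
  have hρ := q.1.p12.m1
  have e : ℓ ρ * (d * ℓ β * ℓ γ) = ℓ ρ * ℓ β * ℓ γ * d := by
    rw [p.p12.cm.eq, mul_assoc (ℓ β), p.p13.cm.eq]; simp only [mul_assoc]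
  refine ⟨_, (h.mem hρ).1, (h.mem hρ).2.2.symm, (h.comm S hρ hβ).2 q.1.p12.cm, (h.comm S hρ hγ).2 q.1.p13.cm,
    e ▸ (h.C.tri_not S h.L an h.N q).2, fun x y p' c1 c2 e' => ?_⟩
  have m := h.C.md (Rmul (Rmul (h.L.mem _ hρ) (h.L.mem _ hβ)) (h.L.mem _ hγ))
  rw [← e, e'] at m
  have := S.p13 _ _ _ q
  have one : ∀ ξ ∈ Dc E a, x * y ≠ ℓ ξ * d := fun ξ hξ e =>
    (h.C.eq2 (h.C.md (h.L.mem _ hξ)) (e ▸ m)).elim (this.1 ξ hξ).1 (this.1 ξ hξ).2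
  rcases h.cases p'.m1 c1 with e1 | ⟨ξ, hξ, e1⟩ <;> rcases h.cases p'.m2 c2 with e2 | ⟨η, hη, e2⟩
  · exact p'.ne (e1.trans e2.symm)
  · exact one η hη (by rw [e1, e2, c2.eq])
  · exact one ξ hξ (by rw [e1, e2])
  · subst e1 e2
    have p'' := h.pr S hξ hη p'
    exact (h.C.eq2 (Rmul (h.L.mem _ hξ) (h.L.mem _ hη)) m).elim (this.2 _ _ p'') (q.2 _ _ p'')

end Lf

namespace AllF

variable {E : Set F} {a : F} (S : Sys E a 21) {D : Set G} (h : AllF E a D)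
include S h

theorem glob0 (step : ∀ a ∈ D, ∀ b ∈ D, ∀ c ∈ D, Near D a b → Commute b c → Near D a c) : Glob0 D where
  sq d hd := let ⟨_, _, _, l⟩ := h d hd; l.C.dsq
  ne d hd := let ⟨_, _, _, l⟩ := h d hd; l.C.dne
  conj g d hd := (h d hd).1 ▸ isConj_iff.2 ⟨g, rfl⟩
  step := step
  loc y hy u hu v hv c1 c2 := by
    obtain ⟨e, R, ℓ, l⟩ := h y hy
    by_cases e1 : u = y
    · exact Or.inl (e1 ▸ c2)
    by_cases e2 : v = y
    · exact Or.inl (e2 ▸ c1.symm)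
    exact or_iff_not_imp_left.2 ((e ▸ l.qiso S).q'.br u ⟨hu, e1, c1⟩ v ⟨hv, e2, c2⟩)

variable (g0 : Glob0 D) {b : G} (hb : b ∈ D)
include g0 hb

theorem trans_comp {u : G} (hu : u ∈ D) (hn : Near D b u) : ∃ g ∈ closure {x | x ∈ D ∧ Near D b x}, g * b * g⁻¹ = u := by
  have key : ∀ y ∈ D, b ∈ Dc D y → u ∈ Dc D y → ∃ g ∈ closure {x | x ∈ D ∧ Near D b x}, g * b * g⁻¹ = u := by
    intro y hy h1 h2
    obtain ⟨e, R, ℓ, l⟩ := h y hy
    obtain ⟨g, c, e'⟩ := l.trans S (e.symm ▸ h1) (e.symm ▸ h2)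
    refine ⟨g, Subgroup.closure_mono (fun x hx => ?_) (e ▸ c.2), e'⟩
    exact ⟨hx.1, g0.step b hb y hy x hx.1 (Near.of_commute hb h1.2.2.symm) hx.2.2⟩
  by_cases e : u = b
  · exact ⟨1, one_mem _, by simp [e]⟩
  by_cases c : Commute b u
  · obtain ⟨e', R, ℓ, l⟩ := h b hb
    obtain ⟨y, hy, h1, h2⟩ := l.third S (e'.symm ▸ (⟨hu, e, c⟩ : u ∈ Dc D b))
    rw [e'] at hy
    exact key y hy.1 (Dc_symm hb hy) ⟨hu, h1.symm, h2⟩
  · obtain ⟨y, hy, c1, c2⟩ := hn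
    exact key y hy ⟨hb, fun e => c (e ▸ c2), c1⟩ ⟨hu, fun e => c (e ▸ c1.symm), c2⟩

theorem pk_comp : Pk E a (Subtype.val ⁻¹' {x | x ∈ D ∧ Near D b x} : Set (closure {x | x ∈ D ∧ Near D b x})) := by
  set K := {x | x ∈ D ∧ Near D b x}
  have le : closure K ≤ g0.stab hb := (closure_le _).2 fun x hx => g0.mem_stab_of_commute hb hx.1 hx.2 (.refl x)
  have near : ∀ x ∈ K, ∀ y ∈ K, Near D x y := fun x hx y hy => g0.trans hx.1 hb hy.1 hx.2.symm hy.2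
  have cm : ∀ x y : closure K, Commute x y ↔ Commute x.1 y.1 := fun x y =>
    (commute_map_iff (closure K).subtype_injective).symm
  have b' : b ∈ K := ⟨hb, g0.near_refl hb⟩
  have dcK : ∀ x ∈ K, Dc D x ⊆ K := fun x hx y hy => ⟨hy.1, g0.step b hb x hx.1 y hy.1 hx.2 hy.2.2⟩
  have t3 : T3 (Subtype.val ⁻¹' K : Set (closure K)) := ⟨fun x hx => orderOf_eq_two (Subtype.ext (g0.sq _ hx.1))
      fun e => g0.ne _ hx.1 (congrArg Subtype.val e), fun x hx y hy => by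
      rcases g0.three hx.1 hy.1 (near _ hx _ hy) with c | c
      · left; rw [sq]; exact Subtype.ext (sq_mul c (g0.sq _ hx.1) (g0.sq _ hy.1))
      · right
        refine Subtype.ext ?_
        calc ((x : G) * y) ^ 3 = x * y * x * (y * x * y) := by simp [pow_succ, mul_assoc]
          _ = 1 := by rw [← c]; simp [mul_assoc, mul_self_cancel (g0.sq _ hx.1), mul_self_cancel (g0.sq _ hy.1),
            g0.sq _ hx.1],
    fun g x hx => ⟨g0.conj g x hx.1, g0.near_conj_of_mem hb (le g.2) hx.1 hx.2⟩⟩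
  have qv : ∀ x : closure K, x.1 ∈ K → QIso (Dc (Subtype.val ⁻¹' K) x) (Dc D x.1) Subtype.val := fun x hx => by
    obtain ⟨e, R, ℓ, l⟩ := h x hx.1
    exact ⟨t3.q3.dc x, (e ▸ l.qiso S).q', ⟨fun y hy => ⟨hy.1.1, fun e => hy.2.1 (Subtype.ext e), (cm _ _).1 hy.2.2⟩,
      Subtype.val_injective.injOn, fun y hy => ⟨⟨y, subset_closure (dcK _ hx hy)⟩,
        ⟨dcK _ hx hy, fun e => hy.2.1 (congrArg Subtype.val e), (cm _ _).2 hy.2.2⟩, rfl⟩⟩, fun _ _ _ _ => rfl⟩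
  refine ⟨⟨t3, fun x hx y hy => ?_, closure_preimage_eq_top K, ⟨⟨b, subset_closure b'⟩, b'⟩⟩, fun x hx y hy => ?_,
    fun x hx => ?_, fun x hx => ?_, eq_bot_iff.2 fun z hz => ?_⟩
  · obtain ⟨g, hg, e⟩ := h.trans_comp S g0 hb hx.1 hx.2
    obtain ⟨g', hg', e'⟩ := h.trans_comp S g0 hb hy.1 hy.2
    refine ⟨⟨g', hg'⟩ * ⟨g, hg⟩⁻¹, Subtype.ext ?_⟩
    show g' * g⁻¹ * x * (g' * g⁻¹)⁻¹ = y
    rw [← e, ← e']; group
  · obtain ⟨z, hz, c1, c2⟩ := near _ hx _ hy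
    have zK : z ∈ K := ⟨hz, g0.step b hb x hx.1 z hz hx.2 c1.symm⟩
    exact ⟨⟨z, subset_closure zK⟩, zK, (cm _ _).2 c1, (cm _ _).2 c2⟩
  · obtain ⟨e, R, ℓ, l⟩ := h x hx.1
    exact ⟨_, (e ▸ l.qiso S).trans (qv x hx).symm⟩
  · obtain ⟨e, R, ℓ, l⟩ := h x hx.1
    have := e ▸ l.self
    rw [← (qv x hx).bij.image_eq] at this
    exact (mem_map_iff_mem (closure K).subtype_injective).1 (by rwa [MonoidHom.map_closure])
  · obtain ⟨e, R, ℓ, l⟩ := h b hb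
    have c : ∀ y ∈ K, Commute z.1 y := fun y hy =>
      ((cm _ _).1 (mem_center_iff.1 hz ⟨y, subset_closure hy⟩)).symm
    rcases l.cent S (c b b') fun y hy => c y (dcK b b' (e ▸ hy)) with e1 | e1
    · exact Subtype.ext e1
    · obtain ⟨y, hy⟩ := l.nonempty
      rw [e] at hy
      obtain ⟨g, hg, e2⟩ := h.trans_comp S g0 hb hy.1 (dcK b b' hy).2
      have := (cm _ _).1 (mem_center_iff.1 hz ⟨g, hg⟩)
      rw [e1] at this
      exact absurd (e2.symm.trans (conj_eq_self_iff.2 this)) hy.2.1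

end AllF

theorem conj_closure {K : Set G} {g : G} (h : ∀ x ∈ K, g * x * g⁻¹ ∈ K) {n : G} (hn : n ∈ closure K) :
    g * n * g⁻¹ ∈ closure K :=
  ((closure_le _).2 fun x hx => subset_closure (h x hx) : closure K ≤ (closure K).comap (MulAut.conj g).toMonoidHom) hn

theorem Lw.aut [Finite G] {E : Set F} (M : Model22 F E) {R : Subgroup (G × F)} {ℓ₀ : F → G} {d : G}
    (l₀ : Lw R E (M.x 0) ℓ₀ d) : Nonempty (G ≃* MulAut Spor.Fi22) := by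
  have := M.finite
  have ha := M.x_mem (j := 0) (by norm_num)
  have S := sys22 M ha
  have an := (tc M).ne_one ha
  have h := l₀.allF M ha
  set D := conjugatesOf d
  have g0 := h.glob0 S (step22 M (fun x hx => let ⟨_, _, _, l⟩ := h x hx; l.C.dsq)
    fun x hx => let ⟨e, _, ℓ, l⟩ := h x hx; ⟨ℓ, e ▸ l.qiso S⟩)
  have gl : Glob D := ⟨g0, fun b hb t ht hn => by
      obtain ⟨N⟩ := (h.pk_comp S g0 hb).model22 M
      have hK : t ∈ normalizer (closure {x | x ∈ D ∧ Near D b x} : Set G) :=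
        mem_normalizer_fintype fun n => conj_closure (K := {x | x ∈ D ∧ Near D b x}) fun x hx =>
          ⟨g0.conj t x hx.1, g0.near_conj_of_mem hb hn hx.1 hx.2⟩
      obtain ⟨x, hx, c⟩ := fixA N (φ := normalizerMonoidHom _ ⟨t, hK⟩) (by
        rw [← map_mul, show (⟨t, hK⟩ * ⟨t, hK⟩ : normalizer _) = 1 from Subtype.ext ht, map_one])
      exact ⟨x, hx.1, hx.2, conj_eq_self_iff.1 (congrArg Subtype.val c)⟩,
    fun u v p => by
      obtain ⟨e, R, ℓ, l⟩ := h u p.m1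
      exact e ▸ l.two S (e.symm ▸ ⟨p.m2, p.ne.symm, p.cm⟩),
    fun u v x y p q c1 c2 e' => by
      obtain ⟨e, R, ℓ, l⟩ := h u p.m1
      exact l.uniq S (e.symm ▸ ⟨p.m2, p.ne.symm, p.cm⟩) (e.symm ▸ q) c1 c2 e',
    fun u v p => by
      obtain ⟨e, R, ℓ, l⟩ := h u p.m1
      exact e ▸ l.odd S (e.symm ▸ ⟨p.m2, p.ne.symm, p.cm⟩),
    fun u v w p => by
      obtain ⟨e, R, ℓ, l⟩ := h u p.p12.m1
      exact e ▸ l.four S an (e.symm ▸ p)⟩
  have hd : d ∈ D := IsConj.refl d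
  obtain ⟨-, R, ℓ, l⟩ := h d hd
  obtain ⟨z, hz⟩ := l.nonempty
  have p := h.pk_comp S g0 hd
  rw [show {x | x ∈ D ∧ Near D d x} = D from Set.ext fun x =>
    and_iff_left_of_imp fun hx => gl.near ⟨hd, hz.1, hz.2.1.symm, hz.2.2⟩ hx] at p
  obtain ⟨N⟩ := p.model22 M
  have : (closure D).Normal := ⟨fun n hn g => conj_closure (g0.conj g) hn⟩
  have inj : Function.Injective (MulAut.conjNormal (H := closure D)) := by
    refine (injective_iff_map_eq_one _).2 fun g hg => ?_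
    have c : ∀ x ∈ D, Commute g x := fun x hx =>
      conj_eq_self_iff.1 (congrArg (fun φ : MulAut (closure D) => (φ ⟨x, subset_closure hx⟩).1) hg)
    refine (l.cent S (c d hd) fun y hy => c y hy.1).resolve_right ?_
    rintro rfl
    obtain ⟨y, hy, n⟩ := (fp N).exists_not_commute (d := ⟨g, subset_closure hd⟩) hd
    exact n (Subtype.ext (c y hy))
  have inn : ∀ k : closure D, MulAut.conj k = MulAut.conjNormal (k : G) := fun k => MulEquiv.ext fun _ => rfl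
  obtain ⟨t, ct, ht⟩ := l.C.ex
  have out : ∀ k, MulAut.conj k ≠ MulAut.conjNormal (H := closure D) t := fun k e => by
    obtain rfl := inj ((inn k).symm.trans e)
    have : k ∈ closure (Dc _ (⟨d, subset_closure hd⟩ : closure D)) :=
      (closure_Dc N hd).ge (mem_centralizer_singleton_iff.2 (Subtype.ext ct))
    refine ht (((closure_le _).2 fun y hy => ?_ : _ ≤ (dom R).subgroupOf _) this)
    obtain ⟨x, hx, e⟩ := (l.cls y).1 ⟨hy.1, fun e => hy.2.1 (Subtype.ext e), hy.2.2.map (Subgroup.subtype _)⟩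
    exact mem_dom.2 ⟨x, show (y.1, x) ∈ R from e ▸ l.L.mem x hx⟩
  obtain ⟨e, -⟩ := N.exists_equiv H18.Fi22.model
  refine ⟨(MulEquiv.ofBijective _ ⟨inj, fun ψ => ?_⟩).trans (MulAut.congr e)⟩
  by_cases hi : ∃ k, MulAut.conj k = ψ
  · obtain ⟨k, rfl⟩ := hi
    exact ⟨k, (inn k).symm⟩
  · obtain ⟨k, rfl⟩ := inn_two N out fun k e => hi ⟨k, e⟩
    exact ⟨k * t, inn k ▸ map_mul _ _ _⟩

end H96.FA
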