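import Mathlib
import Cfsg.Agent.Lib.F3L.AutC
import Cfsg.Agent.Lib.F3L.AutH

/-!
The case `C(d) = 2 U₆(2) 2` leads to the automorphism group of the group of type M(22).
-/

set_option autoImplicit false

namespace H96.FA

open Subgroup Cfsg H54 H94 H56 H96.F22 H80.FI H7.F3

variable {G F : Type*} [Group G] [Group F] {R : Subgroup (G × F)} {L : Subgroup G} {d t b : G} {a : F}

namespace B0

variable (B : B0 R L d a)
include B

theorem eq1 {h h' : G} {f : F} (m : (h, f) ∈ R) (m' : (h', f) ∈ R) : h' = h ∨ h' = h * d := by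
  have := Rmul (Rinv m) m'
  rwa [inv_mul_cancel, B.k1, inv_mul_eq_one, inv_mul_eq_iff_eq_mul, eq_comm] at this

theorem eq2 {h : G} {f f' : F} (m : (h, f) ∈ R) (m' : (h, f') ∈ R) : f' = f ∨ f' = f * a := by
  have := Rmul (Rinv m) m'
  rwa [inv_mul_cancel, B.k2, inv_mul_eq_one, inv_mul_eq_iff_eq_mul, eq_comm] at this

theorem eq_of {E : Set F} (S : Sys E a 21) {h : G} {x y : F} (hx : x ∈ Dc E a) (hy : y ∈ E) (m : (h, x) ∈ R)
    (m' : (h, y) ∈ R) : y = x := by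
  rcases B.eq2 m m' with e | e
  · exact e
  · rw [e, S.nta x hx (e ▸ hy), mul_one]

theorem dom_eq : dom R = L := Subgroup.ext fun x => mem_dom.trans (B.dm x).symm

theorem mem {h : G} {f : F} (m : (h, f) ∈ R) : h ∈ L := (B.dm h).2 ⟨f, m⟩

theorem corrL (h : I2 d L t b) : Corr (R.comap (L.subtype.prodMap (MonoidHom.id F))) ⟨d, h.dL⟩ a :=
  ⟨Subtype.ext (sq_of_two h.d2), fun e => ne_of_two h.d2 (congrArg Subtype.val e), fun x _ => (B.dm x).1 x.2,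
    fun f c => let ⟨x, m⟩ := B.sur f c; ⟨⟨x, B.mem m⟩, m⟩, fun {x _} _ => Subtype.ext (h.le x x.2), B.c2,
    fun x => by simp only [Subtype.ext_iff]; exact B.k1 x, B.k2⟩

end B0

/-- pairs that normalise the correspondence -/
def Rm (R : Subgroup (G × F)) (d : G) (a : F) : Submonoid (G × MulAut F) where
  carrier := {p | Commute p.1 d ∧ p.2 a = a ∧ ∀ h f, (h, f) ∈ R → (p.1 * h * p.1⁻¹, p.2 f) ∈ R}
  one_mem' := ⟨Commute.one_left d, rfl, fun h f m => by simpa using m⟩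
  mul_mem' := fun {p q} hp hq => ⟨hp.1.mul_left hq.1, (congrArg p.2 hq.2.1).trans hp.2.1, fun h f m => by
    simpa [mul_assoc] using hp.2.2 _ _ (hq.2.2 _ _ m)⟩

/-- the extended correspondence -/
def Rh [Finite G] [Finite F] (R : Subgroup (G × F)) (d : G) (a : F) : Subgroup (G × MulAut F) where
  toSubmonoid := Rm R d a
  inv_mem' := fun {x} hx => Submonoid.powers_le.2 hx (mem_powers_iff_mem_zpowers.2 (inv_mem (mem_zpowers x)))

variable [Finite G] [Finite F] {E : Set F} (M : Model22 F E) (h : I2 d L t b) (B : B0 R L d a)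

include h B in
theorem inner {g : G} {f : F} (m : (g, f) ∈ R) : (g, MulAut.conj f) ∈ Rh R d a :=
  ⟨h.le g (B.mem m), conj_eq_self_iff.2 (B.c2 m), fun _ _ m' => Rconj m m'⟩

include M h B in
theorem corrH (ha : a ∈ E) {ψ : MulAut F} (mt : (t, ψ) ∈ Rh R d a) (ho : ∀ g, MulAut.conj g ≠ ψ) :
    Corr (Rh R d a) d (MulAut.conj a) := by
  have dd := sq_of_two h.d2
  refine ⟨dd, ne_of_two h.d2, fun g c => ?_, fun φ c => ?_, fun m => m.1, fun {g φ} m => ?_,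
    fun g => ⟨fun m => (zp dd).1 (h.cent g m.1 fun x hx => (zp dd).2 ?_), fun e => ?_⟩,
    fun φ => ⟨fun m => centA M ha m.2.1 fun y hy => ?_, ?_⟩⟩
  · rcases h.idx g c with k | k <;> obtain ⟨f, m⟩ := (B.dm _).1 k
    · exact ⟨_, inner h B m⟩
    · exact ⟨_, mul_inv_cancel_right g t ▸ Rmul (inner h B m) (Rinv mt)⟩
  · have fa : φ a = a := conj_injective M ((conj_map φ a).symm.trans (conj_eq_self_iff.2 c))
    by_cases hi : ∃ g, MulAut.conj g = φ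
    · obtain ⟨g, rfl⟩ := hi
      obtain ⟨x, m⟩ := B.sur g (conj_eq_self_iff.1 fa)
      exact ⟨x, inner h B m⟩
    · obtain ⟨g, rfl⟩ := inn_two M ho fun g e => hi ⟨g, e⟩
      rw [MulAut.mul_apply, show ψ a = a from mt.2.1] at fa
      obtain ⟨x, m⟩ := B.sur g (conj_eq_self_iff.1 fa)
      exact ⟨_, Rmul (inner h B m) mt⟩
  · exact conj_eq_self_iff.1 ((conj_map φ a).trans (congrArg _ m.2.1))
  · obtain ⟨f, m'⟩ := (B.dm x).1 hx
    rcases B.eq1 m' (m.2.2 _ _ m') with e | e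
    · exact Or.inl (mul_inv_eq_one.2 e)
    · exact Or.inr (mul_inv_eq_iff_eq_mul.2 (e.trans (h.le x hx)))
  · simpa using inner h B ((B.k1 g).2 e)
  · obtain ⟨Y, m'⟩ := B.sur y hy.2.2.symm
    exact B.eq_of (sys22 M ha) hy (Dc_aut M m.2.1 hy).1 m' (by simpa using m.2.2 _ _ m')
  · rintro (rfl | rfl)
    exacts [one_mem _, inner h B ((B.k2 a).2 (Or.inr rfl))]

variable (C : Corr (Rh R d a) d (MulAut.conj a))

include h B C in
theorem mem_iff {g : G} {φ : MulAut F} (m : (g, φ) ∈ Rh R d a) : g ∈ L ↔ ∃ f, MulAut.conj f = φ := by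
  refine ⟨fun k => ?_, ?_⟩
  · obtain ⟨f, m'⟩ := (B.dm g).1 k
    rcases C.eq2 (inner h B m') m with e | e
    exacts [⟨f, e.symm⟩, ⟨f * a, by rw [e, map_mul]⟩]
  · rintro ⟨f, rfl⟩
    obtain ⟨x, m'⟩ := B.sur f (conj_eq_self_iff.1 m.2.1)
    rcases C.eq1 (inner h B m') m with rfl | rfl
    exacts [B.mem m', mul_mem (B.mem m') h.dL]

include M C in
theorem sq_aut (ha : a ∈ E) {g : G} {φ : MulAut F} (m : (g, φ) ∈ Rh R d a) (e : g * g = 1 ∨ g * g = d) : φ * φ = 1 :=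
  (C.eq2 ((C.k1 _).2 e) (Rmul m m)).resolve_right fun k => nsqA M ha φ (k.trans (one_mul _))

include M h B C in
theorem big_le (ha : a ∈ E) (A : Subgroup G) (h1 : ∀ x ∈ A, x * x = 1) (h2 : ∀ x ∈ A, Commute x d)
    (h3 : 1024 ≤ Nat.card A) : A ≤ L := fun x hx => by
  have aa : MulAut.conj a * MulAut.conj a = 1 := by rw [← map_mul, (tc M).mul_self ha, map_one]
  have c := C.card_img aa h2
  rw [Nat.card_zpowers, orderOf_eq_two aa fun e => (tc M).ne_one ha (conj_injective M (e.trans (map_one _).symm))] at c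
  have s : ∀ φ ∈ img (Rh R d a) A, φ * φ = 1 := fun φ hφ =>
    let ⟨y, hy, m⟩ := mem_img.1 hφ; sq_aut M C ha m (Or.inl (h1 y hy))
  obtain ⟨M', k⟩ := H94.SF.big_in M (pgroup_of_sq s)
  obtain ⟨φ, m⟩ := C.tot x (h2 x hx)
  obtain ⟨f, -, e⟩ := (k _ le_rfl s (by omega)).le (mem_img.2 ⟨x, hx, m⟩)
  exact (mem_iff h B C m).2 ⟨f, e⟩

include M B in
theorem equi_in {ℓ : F → G} (l : Lift R E a ℓ) (ha : a ∈ E) {g : G} {φ : MulAut F} (m : (g, φ) ∈ Rh R d a) (k : g ∈ L)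
    {x : F} (hx : x ∈ Dc E a) : g * ℓ x * g⁻¹ = ℓ (φ x) := by
  obtain ⟨f, m'⟩ := (B.dm g).1 k
  have S := sys22 M ha
  rw [l.conj m' x hx, B.eq_of S (Dc_aut M m.2.1 hx) (S.t3.conj f x hx.1) (m.2.2 _ _ (l.mem x hx))
    (Rconj m' (l.mem x hx))]

include M B in
theorem equi_all {ℓ : F → G} (l : Lift R E a ℓ) (ha : a ∈ E) {g : G} {φ : MulAut F} (m : (g, φ) ∈ Rh R d a)
    {x y : F} (hx : x ∈ Dc E a) (e : g * ℓ x * g⁻¹ = ℓ (φ x)) (hy : y ∈ Dc E a) : g * ℓ y * g⁻¹ = ℓ (φ y) := by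
  obtain ⟨f, hf, rfl⟩ := (sys22 M ha).tr1 x hx y hy
  obtain ⟨k, m'⟩ := B.sur f hf
  rw [← l.conj m' x hx, map_mul, map_mul, map_inv, ← l.conj (m.2.2 _ _ m') _ (Dc_aut M m.2.1 hx), ← e]
  group

end H96.FA

namespace H96.FA

open Subgroup Cfsg H54 H94 H56 H96.F22 H80.FI H7.F3

variable {G F : Type*} [Group G] [Group F] [Finite G] [Finite F] {R : Subgroup (G × F)} {L : Subgroup G} {d t b : G}
  {E : Set F} (M : Model22 F E) (h : I2 d L t b) (B : B0 R L d (M.x 47))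
  (C : Corr (Rh R d (M.x 47)) d (MulAut.conj (M.x 47)))
include h B C

theorem nf {g : G} {φ : MulAut F} (m : (g, φ) ∈ Rh R d (M.x 47)) (k : g ∉ L) (e : g * g = 1 ∨ g * g = d) :
    ∃ u χ, (u, χ) ∈ Rh R d (M.x 47) ∧ ∃ ψ₀, (ψ₀ = sig M ∨ ψ₀ = sig M * MulAut.conj (M.x 43)) ∧
      (u * g * u⁻¹, ψ₀) ∈ Rh R d (M.x 47) ∧ ∀ q, Commute (M.x 47) q → ψ₀ (χ q) = χ (φ q) := by
  have ha := M.x_mem (j := 47) (by norm_num)
  obtain ⟨χ, h1, ψ₀, h2, h3⟩ := nf_out M m.2.1 (sq_aut M C ha m e) fun f e => k ((mem_iff h B C m).2 ⟨f, e⟩)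
  obtain ⟨u, mu⟩ := C.sur χ (conj_eq_self_iff.1 ((conj_map χ _).trans (congrArg _ h1)))
  refine ⟨u, χ, mu, ψ₀, h2, ?_⟩
  have m' := Rconj mu m
  rcases h3 with e | e
  · exact ⟨e ▸ m', fun q _ => by rw [← e]; simp⟩
  · refine ⟨by rw [eq_mul_inv_of_mul_eq e.symm]; simpa using Rmul m' (Rinv C.a1), fun q c => ?_⟩
    have := congrArg (· (χ q)) e
    simp only [MulAut.mul_apply, MulAut.conj_apply, MulAut.inv_apply_self] at this
    rw [this, conj_eq_self_iff.2 (h1 ▸ c.map χ)]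

omit C in
theorem not_sp {w : G} (m : (w, sig M * MulAut.conj (M.x 43)) ∈ Rh R d (M.x 47)) {A : Subgroup G} (h1 : A ≤ L)
    (h2 : Nat.card A = 81) (h3 : ∀ x ∈ A, Commute w x) : False := by
  let K := R ⊓ A.comap (MonoidHom.fst G F) ⊓ (fixS (sig M * MulAut.conj (M.x 43))).comap (MonoidHom.snd G F)
  have p : ∀ x ∈ A, x ^ 81 = 1 := fun x hx => congrArg Subtype.val (h2 ▸ pow_card_eq_one' (x := (⟨x, hx⟩ : A)))
  have e1 : K.map (MonoidHom.fst G F) = A := by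
    refine le_antisymm (by rintro _ ⟨x, hx, rfl⟩; exact hx.1.2) fun x hx => ?_
    obtain ⟨f, m'⟩ := (B.dm x).1 (h1 hx)
    refine ⟨(x, f) ^ 82, ⟨⟨R.pow_mem m' _, A.pow_mem hx _⟩, ?_⟩, by rw [map_pow, pow_succ]; simp [p x hx]⟩
    show (sig M * MulAut.conj (M.x 43)) (f ^ 82) = f ^ 82
    have := m.2.2 _ _ m'
    rw [conj_eq_self_iff.2 (h3 x hx)] at this
    rcases B.eq2 m' this with e | e <;> rw [map_pow, e]
    rw [(B.c2 m').mul_pow, show 82 = 2 * 41 from rfl, pow_mul (M.x 47), sq, x_sq M (by norm_num), one_pow, mul_one]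
  have e2 := card_eq_map (MonoidHom.snd G F) K
  rw [card_ker_snd K ⊥ fun g => ⟨fun k => ((B.k1 g).1 k.1.1).elim id fun e => by
      have := orderOf_dvd_of_pow_eq_one (p g k.1.2)
      rw [e, h.d2] at this
      omega, fun k => (mem_bot.1 k).symm ▸ one_mem K⟩, card_bot, one_mul] at e2
  refine not81 M (A := K.map (MonoidHom.snd G F)) (by rintro _ ⟨x, hx, rfl⟩; exact ⟨B.c2 hx.1.1, hx.2⟩) ?_
  rw [← e2, ← h2, ← e1]
  exact card_map_dvd _ _

theorem exists_s : ∃ s, (s, sig M) ∈ Rh R d (M.x 47) ∧ s * s = 1 ∧ ¬ IsConj d s ∧ ¬ IsConj d (s * d) := by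
  obtain ⟨ψ, m⟩ := C.tot t h.td
  obtain ⟨u, χ, mu, ψ₀, e | e, m', -⟩ := nf M h B C m h.tL (Or.inl h.t2) <;> subst e
  · refine ⟨_, m', by rw [conj_mul, h.t2]; simp, fun c => h.n1 (c.trans (isConj_iff.2 ⟨u⁻¹, by group⟩)),
      fun c => h.n2 (c.trans (isConj_iff.2 ⟨u⁻¹, ?_⟩))⟩
    rw [inv_inv, mul_assoc _ _ u, mul_assoc _ d, ← (C.c1 mu).eq]; group
  · obtain ⟨A, h1, h2, h3⟩ := h.c81
    refine (not_sp M h B m' (A := A.map (MulAut.conj u).toMonoidHom) ?_ ?_ ?_).elim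
    · rintro _ ⟨x, hx, rfl⟩; exact h.nrm u (C.c1 mu) x (h1 hx)
    · rwa [card_map_of_injective (MulAut.conj u).injective]
    · rintro _ ⟨x, hx, rfl⟩; exact (conj_commute_iff u _ _).2 (h3 x hx).symm

omit C in
theorem equi_s {ℓ : F → G} (l : Lift R E (M.x 47) ℓ) {s : G} (m : (s, sig M) ∈ Rh R d (M.x 47)) {x : F}
    (hx : x ∈ Dc E (M.x 47)) : s * ℓ x * s⁻¹ = ℓ (sig M x) := by
  have dd := sq_of_two h.d2
  obtain ⟨o, ho, h1, h2⟩ := oct M
  by_contra hn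
  have key : ∀ o : List F, (∀ y ∈ o, y ∈ Dc E (M.x 47) ∧ sig M y = y) →
      ∃ Y, (Y, o.prod) ∈ R ∧ s * Y * s⁻¹ = Y * d ^ o.length := by
    intro o
    induction o with
    | nil => exact fun _ => ⟨1, Rone R, by simp⟩
    | cons y o ih =>
      intro k
      obtain ⟨Y, m1, e1⟩ := ih fun z hz => k z (List.mem_cons_of_mem _ hz)
      obtain ⟨k1, k2⟩ := k y List.mem_cons_self
      have m2 : (s * ℓ y * s⁻¹, sig M y) ∈ R := m.2.2 _ _ (l.mem y k1)
      rw [k2] at m2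
      have e2 := (B.eq1 (l.mem y k1) m2).resolve_left fun e =>
        hn (equi_all M B l (M.x_mem (by norm_num)) m k1 (e.trans (congrArg ℓ k2.symm)) hx)
      refine ⟨ℓ y * Y, Rmul (l.mem y k1) m1, ?_⟩
      rw [← conj_mul, e1, e2, List.length_cons, pow_succ', mul_assoc, ← mul_assoc d, ← h.le Y (B.mem m1)]
      simp only [mul_assoc]
  obtain ⟨Y, m1, e⟩ := key o h1
  have c : Commute s Y := by
    rcases (B.k1 Y).1 (by simpa [h2] using Rmul m1 (Rinv ((B.k2 _).2 (Or.inr rfl)))) with rfl | rfl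
    exacts [Commute.one_right s, m.1]
  obtain ⟨k, hk⟩ := ho
  rw [conj_eq_self_iff.2 c, left_eq_mul, hk, pow_succ, pow_mul, sq, dd, one_pow, one_mul] at e
  exact ne_of_two h.d2 e

omit B C [Finite G] in
theorem idx2 {g k : G} (c : Commute g d) (c' : Commute k d) (h1 : g ∉ L) (h2 : k ∉ L) : g * k ∈ L := by
  simpa [mul_assoc, mul_self_cancel h.t2] using mul_mem ((h.idx g c).resolve_left h1)
    (h.nrm t h.td _ ((h.idx k c').resolve_left h2))

theorem cw {ℓ : F → G} (l : Lift R E (M.x 47) ℓ) : CW R E (M.x 47) d := by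
  have ha := M.x_mem (j := 47) (by norm_num)
  have S := sys22 M ha
  have dd := sq_of_two h.d2
  have CL := B.corrL h
  obtain ⟨s, ms, s2, n1, n2⟩ := exists_s M h B C
  have sL : s ∉ L := fun k => let ⟨f, e⟩ := (mem_iff h B C ms).1 k; sig_not_inner M f e
  have equi : ∀ {g φ}, (g, φ) ∈ Rh R d (M.x 47) → g ∉ L → ∀ x ∈ Dc E (M.x 47), g * ℓ x * g⁻¹ = ℓ (φ x) :=
    fun {g φ} m k x hx => by
      have := equi_in M B l ha (Rmul m ms) (idx2 h m.1 ms.1 k sL) (Dc_aut M ms.2.1 hx)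
      rw [← equi_s M h B l ms hx, ← MulAut.mul_apply, mul_assoc φ, sig_sq, mul_one] at this
      rw [← this, inv_eq_of_mul_self s2, mul_inv_rev, inv_eq_of_mul_self s2]
      simp only [mul_assoc, mul_self_cancel s2]
  have l43 := l.mem _ (m43 M)
  have c43 : Commute s (ℓ (M.x 43)) := conj_eq_self_iff.1 ((equi_s M h B l ms (m43 M)).trans (by rw [sig43]))
  have d43 : Commute (ℓ (M.x 43)) d := h.le _ (B.mem l43)
  have m43' := Rmul ms (inner h B l43)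
  refine ⟨dd, ne_of_two h.d2, B.sur, fun m => h.le _ (B.mem m), B.c2, B.k1, B.k2, fun {X Y x y} hx hy c m m' =>
      (CL.lift_comm S (X := ⟨X, B.mem m⟩) (Y := ⟨Y, B.mem m'⟩) hx hy c m m').map L.subtype, fun g e => ?_,
    B.dom_eq.symm ▸ big_le M h B C ha, B.dom_eq.symm ▸ fun _ _ => idx2 h, B.dom_eq.symm ▸ h.nrm,
    fun z c k => (zp dd).1 (h.cent z c fun x hx => ?_), fun w cw c k => ?_, t, h.td, B.dom_eq.symm ▸ h.tL⟩
  · have c : Commute g d := e ▸ (Commute.refl g).mul_right (Commute.refl g)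
    by_cases k : g ∈ L
    · obtain ⟨ℓ', l'⟩ := CL.exists_lift S
      exact ne_of_two h.d2 (e.symm.trans (congrArg Subtype.val (CL.sq_one S l' (h := ⟨g, k⟩) (Subtype.ext c)
        (Or.inr (Subtype.ext e)))))
    obtain ⟨φ, m⟩ := C.tot g c
    obtain ⟨u, χ, mu, ψ₀, e0, m', -⟩ := nf M h B C m k (Or.inr e)
    have e1 : u * g * u⁻¹ * (u * g * u⁻¹) = 1 := by
      rcases e0 with rfl | rfl
      · rcases C.eq1 ms m' with e1 | e1 <;> rw [e1]
        exacts [s2, sq_mul ms.1 s2 dd]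
      · have := sq_mul c43 s2 (l.sq _ (m43 M))
        rcases C.eq1 m43' m' with e1 | e1 <;> rw [e1]
        exacts [this, sq_mul (C.c1 m43') this dd]
    rw [conj_mul, e, conj_eq_one_iff] at e1
    exact ne_of_two h.d2 e1
  · rw [conj_eq_self_iff.2 (k x (B.dom_eq.symm ▸ hx)), mul_inv_cancel]; exact one_mem _
  rw [B.dom_eq] at k
  obtain ⟨φ, m⟩ := C.tot w c
  have w2 : w * w = 1 := by
    obtain ⟨g, rfl⟩ := isConj_iff.1 cw
    rw [conj_mul, dd]; simp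
  have ic : ∀ {u x}, IsConj d x → IsConj d (u * x * u⁻¹) := fun c => c.trans (isConj_iff.2 ⟨_, rfl⟩)
  obtain ⟨u, χ, mu, ψ₀, rfl | rfl, m', fx⟩ := nf M h B C m k (Or.inl w2)
  · rcases C.eq1 ms m' with e | e
    exacts [absurd (e ▸ ic cw) n1, absurd (e ▸ ic cw) n2]
  have mi := Rinv mu
  refine ⟨χ⁻¹ (M.x 43), Dc_aut M mi.2.1 (m43 M), fun P mP => ?_, fun x hx => ?_⟩
  · have mP' := mu.2.2 _ _ mP
    simp only [MulAut.apply_inv_self] at mP'
    rw [← conj_commute_iff u]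
    refine and_imp.2 (fun k1 k2 => ⟨k1, fun k3 => k2 (by rw [conj_mul]; exact ic k3)⟩ :
      _ → ¬ IsConj d (u * w * u⁻¹ * (u * P * u⁻¹)) → _) ?_
    have q := l.sq _ (m43 M)
    have cs := (c43.mul_left (Commute.refl _))
    have cd : Commute (s * ℓ (M.x 43)) d := C.c1 m43'
    rcases C.eq1 m43' m' with e1 | e1 <;> rcases B.eq1 l43 mP' with e2 | e2 <;> rw [e1, e2]
    · exact ⟨cs, by rwa [mul_assoc, q, mul_one]⟩
    · exact ⟨cs.mul_right cd, by rwa [mul_assoc, mul_self_cancel q]⟩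
    · exact ⟨cs.mul_left d43.symm, by rwa [mul_assoc, ← d43.eq, mul_assoc, mul_self_cancel q]⟩
    · refine ⟨(cs.mul_right cd).mul_left (d43.symm.mul_right (.refl d)), ?_⟩
      rwa [mul_assoc, ← mul_assoc d, ← d43.eq, mul_assoc _ d, dd, mul_one, mul_assoc, q, mul_one]
  · rw [eq_comm, MulAut.inv_def, MulEquiv.symm_apply_eq, eq_comm, uniqP M (Dc_aut M mu.2.1 hx)]
    refine ⟨fun k1 q hq Q mq cq => (commute_map_iff χ.injective).1 (k1 _ (Dc_aut M mu.2.1 hq) ?_), fun k1 q hq e => ?_⟩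
    · have := m.2.2 _ _ mq
      rw [conj_eq_self_iff.2 cq] at this
      rw [fx q hq.2.2, B.eq_of S hq (Dc_aut M m.2.1 hq).1 mq this]
    · obtain ⟨q, rfl⟩ := χ.surjective q
      have hq' : q ∈ Dc E (M.x 47) := by simpa using Dc_aut M mi.2.1 hq
      rw [fx q hq'.2.2, χ.injective.eq_iff] at e
      exact (k1 q hq' _ (l.mem q hq') (conj_eq_self_iff.1 ((equi m k q hq').trans (by rw [e])))).map χ

end H96.FA

namespace H7.F3

open Subgroup Cfsg H54 H80.FI H96.FA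

variable {G : Type*} [Group G] [Finite G]

theorem I2.aut {d t b : G} {L : Subgroup G} (h : I2 d L t b) : Nonempty (G ≃* MulAut Spor.Fi22) := by
  let M := H18.Fi22.model
  have := M.finite
  have ha := M.x_mem (j := 47) (by norm_num)
  obtain ⟨R, B, ψ, h1, h2, h3⟩ := exists_R h M
  have C := corrH M h B ha ⟨h.td, h1, h3⟩ h2
  obtain ⟨M₀, e⟩ := model0 M ha
  have hq : Group.IsPerfect (centralizer {(⟨d, h.dL⟩ : L)}) := by
    rw [show centralizer {(⟨d, h.dL⟩ : L)} = ⊤ from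
      eq_top_iff.2 fun x _ => mem_centralizer_singleton_iff.2 (Subtype.ext (h.le x x.2))]
    exact Group.IsPerfect.top_iff.2 h.qs.1
  obtain ⟨ℓ, l, N⟩ := ns22 M₀ (e ▸ B.corrL h) hq
  rw [e] at l N
  have l' : Lift R _ (M.x 47) fun x => ℓ x := ⟨l.mem, fun {g f} m x hx =>
    congrArg Subtype.val (l.conj (h := ⟨g, B.mem m⟩) m x hx), fun x hx => congrArg Subtype.val (l.sq x hx)⟩
  obtain ⟨p₁, p₂, p₃, p₄, p₅, p₆, q₁, q₂, c, e1, g, e2⟩ := N
  obtain ⟨ℓ', k⟩ := (cw M h B C l').exists_lw (sys22 M ha) ((tc M).ne_one ha) l'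
    ⟨p₁, p₂, p₃, p₄, p₅, p₆, q₁, q₂, c, congrArg Subtype.val e1, g, congrArg Subtype.val e2⟩ h.bc
    (B.dom_eq.symm ▸ h.bL) h.bd
  exact Lw.aut M₀ (e ▸ k)

end H7.F3
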