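import Cfsg.Agent.Lib.F3L.Def

/-! Basic facts on the 3-local configuration of `Fi₂₂`. -/

set_option autoImplicit false
set_option linter.unusedSectionVars false

namespace H7.F3

open Subgroup H87.Mc Cfsg
open H87.U6 (F3 f3_cases pw_add pw_zero pw_one pw_two pw_neg pw_mul pw_inj mem_zp cj_pw cm_cj)

variable {G : Type*} [Group G]

theorem q8_mul' : ∀ a b c d a' b' c' d' : F3, a * d - b * c = 1 → a' * d' - b' * c' = 1 →
    (a + d = 0 ∨ (b = 0 ∧ c = 0)) → (a' + d' = 0 ∨ (b' = 0 ∧ c' = 0)) →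
    a * a' + b * c' + (c * b' + d * d') = 0 ∨ (a * b' + b * d' = 0 ∧ c * a' + d * c' = 0) := by decide +kernel

set_option synthInstance.maxSize 2000 in
set_option synthInstance.maxHeartbeats 200000 in
theorem q8_conj' : ∀ a b c d a' b' c' d' : F3, a * d - b * c = 1 → (a' + d' = 0 ∨ (b' = 0 ∧ c' = 0)) →
    a' * d' - b' * c' = 1 →
    (a * a' + b * c') * d + (a * b' + b * d') * -c + ((c * a' + d * c') * -b + (c * b' + d * d') * a) = 0 ∨
      ((a * a' + b * c') * -b + (a * b' + b * d') * a = 0 ∧ (c * a' + d * c') * d + (c * b' + d * d') * -c = 0) := by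
  decide +kernel

theorem q8_four' : ∀ a b c d : F3, a * d - b * c = 1 → (a + d = 0 ∨ (b = 0 ∧ c = 0)) →
    (a * a + b * c) * (a * a + b * c) = 1 ∧ a * b + b * d = 0 ∧ c * a + d * c = 0 ∧
      c * b + d * d = a * a + b * c := by decide +kernel

namespace Mx

theorem q8.mul {m n : Mx} (h : m.q8) (h' : n.q8) (d : m.det1) (d' : n.det1) : (m.mul n).q8 :=
  fun i => q8_mul' _ _ _ _ _ _ _ _ (d i) (d' i) (h i) (h' i)

theorem q8.adj {m : Mx} (h : m.q8) : m.adj.q8 := fun i => by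
  simpa [Mx.adj, add_comm] using h i

theorem q8.conj {m n : Mx} (h : n.q8) (d : m.det1) (d' : n.det1) : ((m.mul n).mul m.adj).q8 :=
  fun i => q8_conj' _ _ _ _ _ _ _ _ (d i) (h i) (d' i)

theorem q8.four {m : Mx} (h : m.q8) (d : m.det1) (v : V6) : m.ap (m.ap (m.ap (m.ap v))) = v := by
  rw [← ap_mul, ← ap_mul m m v]
  ext i <;> obtain ⟨e1, e2, e3, e4⟩ := q8_four' _ _ _ _ (d i) (h i) <;>
    simp only [ap, Mx.mul, Pi.add_apply, Pi.mul_apply, e2, e3, e4]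
  exacts [by linear_combination v.1 i * e1, by linear_combination v.2 i * e1]

theorem ap_ng (m : Mx) (i : Fin 3) (v : V6) : m.ap (ng i v) = ng i (m.ap v) := by
  simp only [ap, ng]; congr 1 <;> ring

end Mx

theorem pm_ng (π : Equiv.Perm (Fin 3)) (i : Fin 3) (v : V6) : pm π (ng (π i) v) = ng i (pm π v) := by
  have : sg (π i) ∘ π = sg i := by funext j; simp [sg]
  rw [ng, ng, ← this]; rfl

namespace Fr0

variable {z : G} {l : V6 → G} {r : Fin 3 → G} {R : Subgroup G} (h : Fr0 z l r R)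
include h

theorem rinv (i : Fin 3) : (r i)⁻¹ = r i := inv_eq_of_mul_eq_one_right (h.r2 i)
theorem rz (i : Fin 3) : r i * z = z * r i := (h.er i).cz
theorem r4 (i : Fin 3) : r i ^ 4 = 1 := by rw [show 4 = 2 * 2 from rfl, pow_mul, pow_two (r i), h.r2, one_pow]
theorem rq (i : Fin 3) (v : V6) (k : F3) : r i * qq z l v k * (r i)⁻¹ = qq z l (ng i v) k := (h.er i).q v k

theorem rne (i : Fin 3) : r i ≠ 1 := fun e => by
  have := h.l_inj (((h.er i).act (Pi.single i 1, 0)).symm.trans (by rw [e]; simp; rfl))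
  exact (by decide : ∀ i, ng i (Pi.single i 1, 0) ≠ (Pi.single i 1, 0)) i this

/-- conjugation of `r` by an element of `C(z, t)` -/
theorem ex_r {g : G} {m : Mx} {π : Equiv.Perm (Fin 3)} (d : m.det1)
    (a : Ex z l (r 0 * r 1 * r 2) g fun v => m.ap (pm π v)) (i : Fin 3) : g * r (π i) * g⁻¹ = r i := by
  have b := a.inv (φ' := fun v => pm π⁻¹ (m.adj.ap v)) fun v => by rw [pm_pm, inv_mul_cancel, pm_one, d.ap_adj]
  refine h.ex_eq4 ((a.mul (h.er _)).mul b) (h.er i) (fun v => ?_) (by rw [conj_pow, h.r4]; simp) (h.r4 i)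
  rw [pm_ng, pm_pm, inv_mul_cancel, pm_one, Mx.ap_ng, d.ap_adj]

theorem ex_rc {g : G} {m : Mx} (d : m.det1) (a : Ex z l (r 0 * r 1 * r 2) g m.ap) (i : Fin 3) : g * r i = r i * g :=
  cm_cj.2 (h.ex_r (π := 1) d a i)

theorem ex_Ym {g : G} {c : X3} (a : Ex z l (r 0 * r 1 * r 2) g (Ym c)) (i : Fin 3) : g * r i = r i * g :=
  h.ex_rc (m := ⟨1, c, 0, 1⟩) (fun i => by simp) (Ym_eq c ▸ a) i

theorem Rr {ρ : G} (hρ : ρ ∈ R) (i : Fin 3) : ρ * r i = r i * ρ :=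
  let ⟨_, d, _, a⟩ := h.eR ρ hρ; h.ex_rc d a i

theorem rc (i j : Fin 3) : r i * r j = r j * r i := h.Rr (h.rR i) j

theorem Rz {ρ : G} (hρ : ρ ∈ R) : ρ * z = z * ρ := let ⟨_, _, _, a⟩ := h.eR ρ hρ; a.cz

theorem R_inf_Q {ρ : G} (hρ : ρ ∈ R) (hQ : ρ ∈ Qs z l) : ρ = 1 := by
  have h1 : ρ ^ 128 = 1 := by
    have := pow_card_eq_one' (x := (⟨ρ, hρ⟩ : R))
    rw [h.cR] at this
    exact congrArg Subtype.val this
  have h2 : ρ ^ 129 = 1 := by rw [show 129 = 3 * 43 from rfl, pow_mul, h.Q3 hQ, one_pow]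
  rwa [pow_succ, h1, one_mul] at h2

theorem R_eq {ρ ρ' : G} (hρ : ρ ∈ R) (hρ' : ρ' ∈ R) {φ : V6 → V6} (a : Ac z l ρ φ) (b : Ac z l ρ' φ) : ρ = ρ' :=
  inv_mul_eq_one.1 (h.R_inf_Q (mul_mem (inv_mem hρ) hρ') (h.div_memQ a b))

theorem R4 {ρ : G} (hρ : ρ ∈ R) : ρ ^ 4 = 1 := by
  obtain ⟨m, d, q, a⟩ := h.eR ρ hρ
  exact h.R_inf_Q (pow_mem hρ 4) (h.memQ_of_ac ((a.pow 4).ac.congr (q.four d)))

/-- `R` consists of the 2-elements of `C(z, t)` acting inside `Q₈ × Q₈ × Q₈` -/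
theorem memR {g : G} {m : Mx} (d : m.det1) (q : m.q8) (a : Ex z l (r 0 * r 1 * r 2) g m.ap) (g4 : g ^ 4 = 1) :
    g ∈ R := by
  obtain ⟨ρ, hρ, b⟩ := h.Rmax g m d q a.ac
  obtain ⟨n, -, -, c⟩ := h.eR ρ hρ
  exact h.ex_eq4 c a (h.ac_uniq c.ac b) (h.R4 hρ) g4 ▸ hρ

theorem mono_conj {m n : Mx} {π : Equiv.Perm (Fin 3)} (v : V6) :
    m.ap (pm π (n.ap (pm π⁻¹ (m.adj.ap v)))) = ((m.mul (n.pr π)).mul m.adj).ap v := by
  rw [Mx.pm_ap, pm_pm, inv_mul_cancel, pm_one, Mx.ap_mul, Mx.ap_mul]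

theorem mono_inv {g : G} {m : Mx} {π : Equiv.Perm (Fin 3)} (d : m.det1) (a : Ac z l g fun v => m.ap (pm π v)) :
    Ac z l g⁻¹ fun v => pm π⁻¹ (m.adj.ap v) :=
  h.ac_inv a fun v => by rw [pm_pm, inv_mul_cancel, pm_one, d.ap_adj]

/-- `C(z, t)` normalizes `R` -/
theorem nR {g ρ : G} (gz : g * z = z * g) (gt : g * (r 0 * r 1 * r 2) = r 0 * r 1 * r 2 * g) (hρ : ρ ∈ R) :
    g * ρ * g⁻¹ ∈ R := by
  obtain ⟨π, m, d, a⟩ := h.mon g gz
  obtain ⟨n, d', q, b⟩ := h.eR ρ hρ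
  have c := (h.ac_mul (h.ac_mul a b.ac) (h.mono_inv d a)).congr h.mono_conj
  refine h.memR ((d.mul (d'.pr π)).mul d.adj) ((q.pr π).conj d (d'.pr π)) (h.ex_of_ac c ?_)
    (by rw [conj_pow, h.R4 hρ]; simp)
  exact (((show Commute g _ from gt).mul_left b.ct).mul_left (show Commute g _ from gt).inv_left).eq

theorem memP {g : G} : g ∈ Qs z l ⊔ R ↔ ∃ m : Mx, m.det1 ∧ m.q8 ∧ Ac z l g m.ap := by
  constructor
  · intro hg
    obtain ⟨n, hn, ρ, hρ, rfl⟩ := mem_sup_nrm (A := R) (N := Qs z l) (fun ρ hρ => mem_normalizer_iff.2 fun x =>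
      ⟨h.nQ' (h.Rz hρ), fun hx => by simpa [mul_assoc] using h.nQ' (h.Rz (inv_mem hρ)) hx⟩) (sup_comm _ R ▸ hg)
    obtain ⟨m, d, q, a⟩ := h.eR ρ hρ
    exact ⟨m, d, q, (h.ac_mul (h.ac_Q hn) a.ac :)⟩
  · rintro ⟨m, d, q, a⟩
    obtain ⟨ρ, hρ, b⟩ := h.Rmax g m d q a
    simpa using mul_mem (mem_sup_left (h.div_memQ' b a)) (mem_sup_right hρ : ρ ∈ Qs z l ⊔ R)

theorem nP {g x : G} (gz : g * z = z * g) (hx : x ∈ Qs z l ⊔ R) : g * x * g⁻¹ ∈ Qs z l ⊔ R := by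
  obtain ⟨π, m, d, a⟩ := h.mon g gz
  obtain ⟨n, d', q, b⟩ := h.memP.1 hx
  exact h.memP.2 ⟨_, (d.mul (d'.pr π)).mul d.adj, (q.pr π).conj d (d'.pr π),
    (h.ac_mul (h.ac_mul a b) (h.mono_inv d a)).congr h.mono_conj⟩

theorem map {G' : Type*} [Group G'] (f : G ≃* G') :
    Fr0 (f z) (fun v => f (l v)) (fun i => f (r i)) (R.map f.toMonoidHom) where
  toA0 := by simpa only [map_mul] using h.toA0.map f
  r2 i := by rw [← map_mul, h.r2, map_one]
  rR i := mem_map_of_mem _ (h.rR i)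
  er i := by simpa only [map_mul] using (ex_map f).2 (h.er i)
  mon g hg := by
    obtain ⟨g, rfl⟩ := f.surjective g
    obtain ⟨π, m, d, a⟩ := h.mon g (f.injective (by simpa using hg))
    exact ⟨π, m, d, (ac_map f).2 a⟩
  cR := by rw [card_map_of_injective f.injective, h.cR]
  eR := by
    rintro _ ⟨ρ, hρ, rfl⟩
    obtain ⟨m, d, q, a⟩ := h.eR ρ hρ
    have := (ex_map f).2 a
    simp only [map_mul] at this
    exact ⟨m, d, q, this⟩
  Rmax g m d q a := by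
    obtain ⟨g, rfl⟩ := f.surjective g
    obtain ⟨ρ, hρ, b⟩ := h.Rmax g m d q ((ac_map f).1 a)
    exact ⟨f ρ, mem_map_of_mem _ hρ, (ac_map f).2 b⟩

end Fr0

theorem B9.map {G' : Type*} [Group G'] {z : G} (h : B9 z) (f : G ≃* G') : B9 (f z) := fun T p c => by
  rw [← card_map_of_injective (f := f.symm.toMonoidHom) f.symm.injective]
  refine h _ (p.map _) ?_
  rintro _ ⟨x, hx, rfl⟩
  simpa using congrArg f.symm (c x hx)

/-- the quotient `T Q / Q` for a generic frame -/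
theorem A0.sup_pg [Finite G] {V : Type*} [AddCommGroup V] {be : V → V → F3} {z t : G} {l : V → G} (h : A0 be z l t)
    {T : Subgroup G} (p : IsPGroup 3 T) (c : ∀ x ∈ T, x * z = z * x) :
    IsPGroup 3 (T ⊔ Qs z l : Subgroup G) ∧ (∀ x ∈ T ⊔ Qs z l, x * z = z * x) ∧
      Nat.card (T ⊔ Qs z l : Subgroup G) * Nat.card (T ⊓ Qs z l : Subgroup G) = Nat.card T * Nat.card (Qs z l) := by
  have n : T ≤ normalizer (Qs z l : Set G) := fun x hx => mem_normalizer_iff.2 fun q =>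
    ⟨h.nQ' (c x hx), fun hq => by simpa [mul_assoc] using h.nQ' (c _ (inv_mem hx)) hq⟩
  refine ⟨p.to_sup_of_normal_right' h.pgQ n, fun x hx => ?_, ?_⟩
  · obtain ⟨q, hq, a, ha, rfl⟩ := mem_sup_nrm n hx
    exact ((show Commute q z from h.QH hq).mul_left (c a ha)).eq
  · have k1 : Nat.card (T ⊓ Qs z l : Subgroup G) * (Qs z l).relIndex T = Nat.card T := by
      rw [relIndex, ← ((Qs z l).subgroupOf T).card_mul_index, ← inf_subgroupOf_left,
        Nat.card_congr (subgroupOfEquivOfLe inf_le_left).toEquiv]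
    have k2 : Nat.card (Qs z l) * (Qs z l).relIndex (T ⊔ Qs z l) = Nat.card (T ⊔ Qs z l : Subgroup G) := by
      rw [relIndex, ← ((Qs z l).subgroupOf (T ⊔ Qs z l)).card_mul_index, Nat.card_congr (subgroupOfEquivOfLe le_sup_right).toEquiv]
    have k3 : (Qs z l).relIndex (T ⊔ Qs z l) = (Qs z l).relIndex T := by
      have hn : ((Qs z l).subgroupOf (T ⊔ Qs z l)).Normal :=
        (normal_subgroupOf_iff_le_normalizer le_sup_right).2 (sup_le n le_normalizer)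
      have hn' : ((Qs z l).subgroupOf T).Normal := normal_subgroupOf_of_le_normalizer n
      exact Nat.card_congr (QuotientGroup.quotientInfEquivProdNormalizerQuotient T _ n).toEquiv.symm
    rw [← k1, ← k2, k3]; ring

namespace Fr

variable {z : G} {l : V6 → G} {r : Fin 3 → G} {R S : Subgroup G} (h : Fr z l r R S)
include h

theorem Sz {g : G} (hg : g ∈ S) : g * z = z * g := let ⟨_, _, _, a⟩ := h.std g hg; a.1

theorem QS : Qs z l ≤ S := fun x hx => by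
  obtain ⟨g, gz, e⟩ := h.syl _ h.pgQ fun _ => h.QH
  simpa [mul_assoc] using e _ (h.nQ' (show Commute g z from gz).inv_left.eq hx)

theorem map {G' : Type*} [Group G'] (f : G ≃* G') :
    Fr (f z) (fun v => f (l v)) (fun i => f (r i)) (R.map f.toMonoidHom) (S.map f.toMonoidHom) where
  toFr0 := h.toFr0.map f
  pS := h.pS.map _
  syl T p c := by
    obtain ⟨g, gz, e⟩ := h.syl (T.map f.symm.toMonoidHom) (p.map _) (by
      rintro _ ⟨x, hx, rfl⟩
      simpa using congrArg f.symm (c x hx))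
    exact ⟨f g, by simpa using congrArg f gz, fun x hx => ⟨_, e _ (mem_map_of_mem _ hx), by simp⟩⟩
  std := by
    rintro _ ⟨g, hg, rfl⟩
    obtain ⟨c, π, e, a⟩ := h.std g hg
    exact ⟨c, π, e, (ac_map f).2 a⟩
  b9 := h.b9.map f

/-- coordinates adapted to a given 3-subgroup of `C(z)` -/
theorem adapt {T : Subgroup G} (p : IsPGroup 3 T) (c : ∀ x ∈ T, x * z = z * x) :
    ∃ l' r' R' S', Fr z l' r' R' S' ∧ T ≤ S' ∧ Qs z l' = Qs z l ∧ Qs z l' ⊔ R' = Qs z l ⊔ R := by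
  obtain ⟨g, gz, e⟩ := h.syl T p c
  have gz' := (show Commute g z from gz).inv_left.eq
  have F := h.map (MulAut.conj g⁻¹)
  have ez : MulAut.conj g⁻¹ z = z := cm_cj.1 gz'
  have eQ : Qs z (fun v => MulAut.conj g⁻¹ (l v)) = Qs z l := by
    ext x
    obtain ⟨x, rfl⟩ := (MulAut.conj g⁻¹).surjective x
    conv_lhs => rw [← ez]
    rw [ez, ← ez, mem_Qs_map, ez]
    exact ⟨h.nQ' gz', fun hx => by simpa [mul_assoc] using h.nQ' gz hx⟩
  rw [ez] at F
  refine ⟨_, _, _, _, F, fun x hx => ⟨_, e x hx, by simp [mul_assoc]⟩, eQ, ?_⟩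
  rw [eQ]
  refine le_antisymm (sup_le le_sup_left ?_) (sup_le le_sup_left fun ρ hρ => ?_)
  · rintro _ ⟨ρ, hρ, rfl⟩
    exact h.nP gz' (mem_sup_right hρ)
  · have := F.nP gz (mem_sup_right (mem_map_of_mem _ hρ))
    rw [eQ] at this
    simpa [mul_assoc] using this

variable [Finite G]

theorem cardQ' : Nat.card (Qs z l) = 3 ^ 7 := by rw [h.cardQ, card_V6]; rfl

/-- `|T Q / Q| ≤ 9` -/
theorem idx9 {T : Subgroup G} (p : IsPGroup 3 T) (c : ∀ x ∈ T, x * z = z * x) :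
    Nat.card T ≤ 9 * Nat.card (T ⊓ Qs z l : Subgroup G) := by
  obtain ⟨p', c', e⟩ := h.sup_pg p c
  have := Nat.mul_le_mul_right (Nat.card (T ⊓ Qs z l : Subgroup G)) (h.b9 _ p' c')
  rw [e, h.cardQ'] at this
  omega

/-- `T Q / Q` is abelian -/
theorem comm_mem {T : Subgroup G} (p : IsPGroup 3 T) (c : ∀ x ∈ T, x * z = z * x) {x y : G} (hx : x ∈ T)
    (hy : y ∈ T) : x * y * x⁻¹ * y⁻¹ ∈ Qs z l := by
  obtain ⟨p', c', -⟩ := h.sup_pg p c
  set U := T ⊔ Qs z l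
  have hn : ((Qs z l).subgroupOf U).Normal := ⟨fun q hq g => h.nQ' (c' _ g.2) hq⟩
  have : Fact (Nat.Prime 3) := ⟨Nat.prime_three⟩
  obtain ⟨n, hn⟩ := (p'.to_quotient ((Qs z l).subgroupOf U)).exists_card_eq
  have k := card_eq_card_quotient_mul_card_subgroup ((Qs z l).subgroupOf U)
  rw [Nat.card_congr (subgroupOfEquivOfLe le_sup_right).toEquiv, h.cardQ', hn, ← pow_add] at k
  have := h.b9 _ p' c'
  rw [k, Nat.pow_le_pow_iff_right (by norm_num)] at this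
  have cm : ∀ a b : U ⧸ (Qs z l).subgroupOf U, a * b = b * a := by
    by_cases e : n = 2
    · exact (IsPGroup.isMulCommutative_of_card_eq_prime_sq (e ▸ hn)).1.1
    · have : IsCyclic (U ⧸ (Qs z l).subgroupOf U) :=
        isCyclic_of_card_dvd_prime (p := 3) (hn ▸ (pow_dvd_pow 3 (by omega : n ≤ 1)).trans (by norm_num))
      exact IsCyclic.isMulCommutative.1.1
  have := (QuotientGroup.eq_one_iff (N := (Qs z l).subgroupOf U)
    (⟨x, mem_sup_left hx⟩ * ⟨y, mem_sup_left hy⟩ * (⟨x, mem_sup_left hx⟩ : U)⁻¹ * (⟨y, mem_sup_left hy⟩ : U)⁻¹)).1 (by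
      simp only [QuotientGroup.mk_mul, QuotientGroup.mk_inv]
      rw [cm (QuotientGroup.mk _) (QuotientGroup.mk _)]; group)
  exact this

end Fr

end H7.F3
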