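import Cfsg.Agent.Lib.F3L.Bas

/-! The 3-local configuration of `Fi₂₃`: definitions and coordinates. -/

set_option autoImplicit false

namespace H7.F3

open Subgroup H87.Mc Cfsg
open H87.U6 (F3)

abbrev W2 := F3 × F3
abbrev W4 := W2 × W2
/-- the tensor cube of the plane; the first component of a pair has index `0` -/
abbrev V8 := W4 × W4
abbrev B2 := ZMod 2 × ZMod 2
abbrev W6 := B2 × B2 × B2

def b2 (u v : W2) : F3 := u.1 * v.2 - u.2 * v.1
def b4 (u v : W4) : F3 := b2 u.1 v.2 - b2 u.2 v.1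
def b8 (u v : V8) : F3 := b4 u.1 v.2 - b4 u.2 v.1

section Op

variable {W : Type} [AddCommGroup W]

def pI (v : W × W) : W × W := (-v.2, v.1)
def pJ (v : W × W) : W × W := (v.1 + v.2, v.1 - v.2)
/-- `I ^ x.1 * J ^ x.2` -/
def pp (x : B2) (v : W × W) : W × W :=
  if x.1 = 0 then (if x.2 = 0 then v else pJ v) else pI (if x.2 = 0 then v else pJ v)
def un (c : F3) (v : W × W) : W × W := (v.1 + c.val • v.2, v.2)
def mp (f : W → W) (v : W × W) : W × W := (f v.1, f v.2)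

end Op

/-- the extraspecial group `Q₈ ∘ Q₈ ∘ Q₈` modulo signs -/
def pa (x : W6) (v : V8) : V8 := pp x.1 (mp (pp x.2.1) (mp (mp (pp x.2.2)) v))
/-- the standard torus -/
def tau (c : X3) (v : V8) : V8 := un (c 0) (mp (un (c 1)) (mp (mp (un (c 2))) v))
/-- cyclic permutation of the tensor factors -/
def sig (v : V8) : V8 := (((v.1.1.1, v.1.2.1), (v.2.1.1, v.2.2.1)), ((v.1.1.2, v.1.2.2), (v.2.1.2, v.2.2.2)))
/-- interchange of the first two tensor factors -/
def sw (v : V8) : V8 := ((v.1.1, v.2.1), (v.1.2, v.2.2))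
def om2 (x : B2) : B2 := (x.2, x.1 + x.2)
def om6 (x : W6) : W6 := (om2 x.1, om2 x.2.1, om2 x.2.2)
def q2 (x : B2) : ZMod 2 := x.1 + x.2 + x.1 * x.2
def q6 (x : W6) : ZMod 2 := q2 x.1 + q2 x.2.1 + q2 x.2.2
/-- the fixed space of `sw` as an orthogonal sum of three planes -/
def io (v : V6) : V8 :=
  (((-v.1 0 + v.1 1 + v.1 2, v.2 0 - v.2 1 - v.2 2), (-v.1 1 + v.1 2, v.2 1 - v.2 2)),
    ((-v.1 1 + v.1 2, v.2 1 - v.2 2), (-v.1 0 - v.1 1 - v.1 2, v.2 0 + v.2 1 + v.2 2)))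

/-- `φ` normalizes the extraspecial group, induces `A` on it, and `A` is `𝔽₄`-linear -/
structure Nm (φ : V8 → V8) (A : W6 → W6) : Prop where
  add : ∀ u v, φ (u + v) = φ u + φ v
  inj : Function.Injective φ
  nm : ∀ x, (∀ v, φ (pa x v) = pa (A x) (φ v)) ∨ ∀ v, φ (pa x v) = -pa (A x) (φ v)
  om : ∀ x, A (om6 x) = om6 (A x)

/-- the centralizer of `sw` -/
def Cs (φ : V8 → V8) : Prop := (∃ A, Nm φ A) ∧ ∀ v, φ (sw v) = sw (φ v)

variable {G : Type*} [Group G]

/-- `C(z) / Q` is the group of all `φ` with `Nm φ A` for some `A` -/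
structure F8 (z : G) (l : V8 → G) (t : G) : Prop extends A0 b8 z l t where
  img : ∀ g, g * z = z * g → ∃ φ A, Nm φ A ∧ Ac z l g φ
  all : ∀ φ A, Nm φ A → ∃ g, Ac z l g φ
  cM : Nat.card (centralizer ({z} : Set G)) = 3 ^ 13 * 1024

def pw (i j : Fin 3 → G) (x : W6) : G :=
  i 0 ^ x.1.1.val * j 0 ^ x.1.2.val * (i 1 ^ x.2.1.1.val * j 1 ^ x.2.1.2.val) * (i 2 ^ x.2.2.1.val * j 2 ^ x.2.2.2.val)

/-- the configuration before coordinates on `Q` are chosen -/
structure PR (z : G) (Q : Subgroup G) (t : G) (i j : Fin 3 → G) : Prop where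
  z3 : z ^ 3 = 1
  z1 : z ≠ 1
  zQ : z ∈ Q
  cQ : Nat.card Q = 3 ^ 9
  Q3 : ∀ x ∈ Q, x ^ 3 = 1
  Qz : ∀ x ∈ Q, x * z = z * x
  Qc : ∀ x ∈ Q, ∀ y ∈ Q, x * y * x⁻¹ * y⁻¹ ∈ zpowers z
  nQ : ∀ g, g * z = z * g → ∀ x ∈ Q, g * x * g⁻¹ ∈ Q
  CQ : ∀ g, g * z = z * g → (∀ x ∈ Q, g * x = x * g) → g ∈ zpowers z
  t2 : t * t = 1
  t1 : t ≠ 1
  iz : ∀ k, i k * z = z * i k
  jz : ∀ k, j k * z = z * j k
  i2 : ∀ k, i k * i k = t
  j2 : ∀ k, j k * j k = t
  ij : ∀ k, i k * j k = j k * i k * t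
  cm : ∀ k k', k ≠ k' → i k * i k' = i k' * i k ∧ i k * j k' = j k' * i k ∧ j k * j k' = j k' * j k
  nrm : ∀ g, g * z = z * g → ∃ n ∈ Q, ∃ A : W6 → W6, (∀ x, A (om6 x) = om6 (A x)) ∧
    ∀ x, n * g * pw i j x * (n * g)⁻¹ = pw i j (A x) ∨ n * g * pw i j x * (n * g)⁻¹ = pw i j (A x) * t
  all : ∀ A : W6 → W6, (∀ x y, A (x + y) = A x + A y) → (∀ x, A (om6 x) = om6 (A x)) → (∀ x, q6 (A x) = q6 x) →
    ∃ g, g * z = z * g ∧ ∀ x, g * pw i j x * g⁻¹ = pw i j (A x) ∨ g * pw i j x * g⁻¹ = pw i j (A x) * t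
  cM : Nat.card (centralizer ({z} : Set G)) = 3 ^ 13 * 1024

theorem eqns_def8 : True := trivial

theorem card_V8 : Nat.card V8 = 6561 := by simp

/-- an additive map on a product -/
theorem add_prod {A B C : Type*} [AddCommGroup A] [AddCommGroup B] [AddCommGroup C] {k : A × B → C}
    (h : ∀ u v, k (u + v) = k u + k v) (v : A × B) : k v = k (v.1, 0) + k (0, v.2) := by
  rw [← h]; simp

theorem add_f3 {C : Type*} [AddCommGroup C] {k : F3 → C} (h : ∀ u v, k (u + v) = k u + k v) (a : F3) :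
    k a = a.val • k 1 := by
  have hn : ∀ n v, k (n • v) = n • k v := map_nsmul (AddMonoidHom.mk' k h)
  rw [← hn]; simp

theorem add_w2 {C : Type*} [AddCommGroup C] {k : W2 → C} (h : ∀ u v, k (u + v) = k u + k v) (v : W2) :
    k v = v.1.val • k (1, 0) + v.2.val • k (0, 1) := by
  rw [add_prod h, add_f3 (k := fun a => k (a, 0)) (fun a b => by rw [← h]; simp),
    add_f3 (k := fun a => k (0, a)) (fun a b => by rw [← h]; simp)]

theorem add_w4 {C : Type*} [AddCommGroup C] {k : W4 → C} (h : ∀ u v, k (u + v) = k u + k v) (v : W4) :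
    k v = v.1.1.val • k ((1, 0), 0) + v.1.2.val • k ((0, 1), 0) + (v.2.1.val • k (0, (1, 0)) + v.2.2.val • k (0, (0, 1))) := by
  rw [add_prod h, add_w2 (k := fun a => k (a, 0)) (fun a b => by rw [← h]; simp),
    add_w2 (k := fun a => k (0, a)) (fun a b => by rw [← h]; simp)]

/-- an additive map is determined by its values on the basis -/
theorem add_v8 {C : Type*} [AddCommGroup C] {k : V8 → C} (h : ∀ u v, k (u + v) = k u + k v) (v : V8) :
    k v = v.1.1.1.val • k (((1, 0), 0), 0) + v.1.1.2.val • k (((0, 1), 0), 0) +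
      (v.1.2.1.val • k ((0, (1, 0)), 0) + v.1.2.2.val • k ((0, (0, 1)), 0)) +
      (v.2.1.1.val • k (0, ((1, 0), 0)) + v.2.1.2.val • k (0, ((0, 1), 0)) +
      (v.2.2.1.val • k (0, (0, (1, 0))) + v.2.2.2.val • k (0, (0, (0, 1))))) := by
  rw [add_prod h, add_w4 (k := fun a => k (a, 0)) (fun a b => by rw [← h]; simp),
    add_w4 (k := fun a => k (0, a)) (fun a b => by rw [← h]; simp)]

def bas8 : List V8 := [(((1, 0), 0), 0), (((0, 1), 0), 0), ((0, (1, 0)), 0), ((0, (0, 1)), 0),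
  (0, ((1, 0), 0)), (0, ((0, 1), 0)), (0, (0, (1, 0))), (0, (0, (0, 1)))]

theorem ext_v8 {C : Type*} [AddCommGroup C] {k k' : V8 → C} (h : ∀ u v, k (u + v) = k u + k v)
    (h' : ∀ u v, k' (u + v) = k' u + k' v) (e : ∀ v ∈ bas8, k v = k' v) (v : V8) : k v = k' v := by
  simp only [bas8, List.forall_mem_cons, List.not_mem_nil, false_imp_iff, implies_true, and_true] at e
  obtain ⟨e1, e2, e3, e4, e5, e6, e7, e8⟩ := e
  rw [add_v8 h, add_v8 h', e1, e2, e3, e4, e5, e6, e7, e8]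

theorem sy8 : Sy b8 where
  tri v := by
    have : ∀ a : F3, a + a + a = 0 := by decide
    ext <;> exact this _
  add_l u v w := by simp only [b8, b4, b2, Prod.fst_add, Prod.snd_add]; ring
  add_r u v w := by simp only [b8, b4, b2, Prod.fst_add, Prod.snd_add]; ring
  alt v := by simp only [b8, b4, b2]; ring
  nd w hw := by
    have e := fun v (_ : v ∈ bas8) => hw v
    simp only [bas8, List.forall_mem_cons, List.not_mem_nil, false_imp_iff, implies_true, and_true] at e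
    simp [b8, b4, b2] at e
    obtain ⟨e1, e2, e3, e4, e5, e6, e7, e8⟩ := e
    ext <;> assumption
  inner k hk := ⟨(((-k (0, (0, (0, 1))), k (0, (0, (1, 0)))), (k (0, ((0, 1), 0)), -k (0, ((1, 0), 0)))),
      ((k ((0, (0, 1)), 0), -k ((0, (1, 0)), 0)), (-k (((0, 1), 0), 0), k (((1, 0), 0), 0)))), fun v => by
    rw [add_v8 hk v]; simp only [b8, b4, b2, nsmul_eq_mul, ZMod.natCast_val, ZMod.cast_id', id]; ring⟩

theorem pp_add {W : Type} [AddCommGroup W] (x : B2) (u v : W × W) : pp x (u + v) = pp x u + pp x v := by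
  unfold pp; split_ifs <;> ext <;> simp only [pI, pJ, Prod.fst_add, Prod.snd_add] <;> abel

theorem un_add {W : Type} [AddCommGroup W] (c : F3) (u v : W × W) : un c (u + v) = un c u + un c v := by
  simp only [un, Prod.fst_add, Prod.snd_add, Prod.mk_add_mk, smul_add, Prod.mk.injEq, and_true]; abel

theorem mp_add {W : Type} [AddCommGroup W] {f : W → W} (h : ∀ u v, f (u + v) = f u + f v) (u v : W × W) :
    mp f (u + v) = mp f u + mp f v := by simp [mp, h]

theorem pa_add (x : W6) (u v : V8) : pa x (u + v) = pa x u + pa x v := by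
  rw [pa, mp_add (mp_add (pp_add _)), mp_add (pp_add _), pp_add]; rfl

theorem tau_add (c : X3) (u v : V8) : tau c (u + v) = tau c u + tau c v := by
  rw [tau, mp_add (mp_add (un_add _)), mp_add (un_add _), un_add]; rfl

theorem sig_add (u v : V8) : sig (u + v) = sig u + sig v := rfl
theorem sw_add (u v : V8) : sw (u + v) = sw u + sw v := rfl
theorem sw_sw (v : V8) : sw (sw v) = v := rfl
theorem sig_three (v : V8) : sig (sig (sig v)) = v := rfl
theorem sw_io (v : V6) : sw (io v) = io v := rfl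

theorem io_add (u v : V6) : io (u + v) = io u + io v := by
  simp only [io, Prod.fst_add, Prod.snd_add, Pi.add_apply, Prod.mk_add_mk, Prod.mk.injEq]
  refine ⟨⟨⟨?_, ?_⟩, ?_, ?_⟩, ⟨?_, ?_⟩, ?_, ?_⟩ <;> ring

theorem b8_io (u v : V6) : b8 (io u) (io v) = b6 u v := by
  simp only [io, b8, b4, b2, b6_eq]
  linear_combination (-(u.1 0 * v.2 0) + u.2 0 * v.1 0 + u.1 1 * v.2 1 - u.2 1 * v.1 1 + u.1 2 * v.2 2 -
    u.2 2 * v.1 2) * three

end H7.F3
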