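import Cfsg.Agent.Lib.F3L.Bas
import Cfsg.Agent.Lib.LocStruct.SylowIn

/-! Sylow 3-subgroups of involution centralizers in the 3-local configuration of `Fi₂₂`. -/

set_option autoImplicit false
set_option linter.unusedSectionVars false

namespace H7.F3.End

open Subgroup H87.Mc Cfsg H69
open H87.U6 (F3 f3_cases pw_add pw_zero pw_one pw_two pw_neg pw_mul pw_inj mem_zp cj_pw cm_cj)

variable {G : Type*} [Group G]

/-- `g` induces the permutation `π` of the planes -/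
def Pe (z : G) (l : V6 → G) (g : G) (π : Equiv.Perm (Fin 3)) : Prop :=
  ∃ m : Mx, m.det1 ∧ Ac z l g fun v => m.ap (pm π v)

/-- the Sylow 3-subgroup of the centralizer of `w` -/
def Xw (z : G) (l : V6 → G) (y w : G) : Subgroup G := (zpowers y ⊔ Qs z l) ⊓ centralizer {w}

theorem eqns_a : True := trivial

theorem mc {w g : G} : g ∈ centralizer ({w} : Set G) ↔ g * w = w * g := mem_centralizer_singleton_iff

theorem odd_cent {z g : G} (z3 : z ^ 3 = 1) (z1 : z ≠ 1) {n : ℕ} (e : g ^ 3 ^ n = 1)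
    (hg : g * z * g⁻¹ ∈ zpowers z) : g * z = z * g := by
  rcases (mem_z3 z3).1 hg with a | a | a
  · exact absurd (by simpa using a) z1
  · exact cm_cj.2 a
  · obtain ⟨k, hk⟩ : Odd (3 ^ n) := Odd.pow (by decide)
    have c : Commute (g ^ 2) z := cm_cj.2 (by
      rw [pow_two, show g * g * z * (g * g)⁻¹ = g * (g * z * g⁻¹) * g⁻¹ by group, a,
        show g * z⁻¹ * g⁻¹ = (g * z * g⁻¹)⁻¹ by group, a, inv_inv])
    rw [hk, pow_succ, pow_mul, mul_eq_one_iff_inv_eq] at e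
    exact e ▸ ((c.pow_left k).inv_left).eq

theorem perm_odd : ∀ π : Equiv.Perm (Fin 3), π ^ 3 = 1 ∨ π ^ 2 = 1 := by decide
theorem perm_fix : ∀ (π : Equiv.Perm (Fin 3)) (i : Fin 3), π i = i → π ^ 3 = 1 → π = 1 := by decide
theorem perm_sw : ∀ π : Equiv.Perm (Fin 3), π * Equiv.swap 1 2 = Equiv.swap 1 2 * π → π ^ 3 = 1 → π = 1 := by decide
theorem perm_zero : ∀ π : Equiv.Perm (Fin 3), π 0 = 0 → π = 1 ∨ π = Equiv.swap 1 2 := by decide
theorem ng_inj : ∀ i j : Fin 3, ng i (Pi.single i 1, 0) = ng j (Pi.single i 1, 0) → i = j := by decide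

theorem q8_u : ∀ a b c d k : F3, a * d - b * c = 1 → (a + d = 0 ∨ (b = 0 ∧ c = 0)) →
    (a * 1 + b * 0 + (c * k + d * 1) = 0 ∨ (a * k + b * 1 = 0 ∧ c * 1 + d * 0 = 0)) → k = 0 := by decide +kernel

theorem one_ap (v : V6) : Mx.ap ⟨1, 0, 0, 1⟩ v = v := by simp [Mx.ap]

variable {z : G} {l : V6 → G} {r : Fin 3 → G} {R : Subgroup G} {y : G}

section
variable (h : Fr0 z l r R)
include h

theorem pe_mul {g g' : G} {π π' : Equiv.Perm (Fin 3)} (a : Pe z l g π) (b : Pe z l g' π') :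
    Pe z l (g * g') (π' * π) :=
  let ⟨m, d, a⟩ := a; let ⟨n, d', b⟩ := b
  ⟨m.mul (n.pr π), d.mul (d'.pr π), (h.ac_mul a b).congr fun v => by rw [Mx.pm_ap, pm_pm, Mx.ap_mul]⟩

theorem pe_uniq {g : G} {π π' : Equiv.Perm (Fin 3)} (a : Pe z l g π) (b : Pe z l g π') : π = π' :=
  let ⟨_, d, a⟩ := a; let ⟨_, _, b⟩ := b
  (Mx.mono_uniq d (h.ac_uniq a b)).1

theorem pe_one : Pe z l 1 1 := ⟨⟨1, 0, 0, 1⟩, fun i => by simp, h.ac_one.congr fun v => (one_ap v).symm⟩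

theorem pe_pow {g : G} {π : Equiv.Perm (Fin 3)} (a : Pe z l g π) : ∀ n : ℕ, Pe z l (g ^ n) (π ^ n)
  | 0 => by simpa using pe_one h
  | n + 1 => by rw [pow_succ, pow_succ']; exact pe_mul h (pe_pow a n) a

theorem pe_three {g : G} {π : Equiv.Perm (Fin 3)} (a : Pe z l g π) {n : ℕ} (e : g ^ 3 ^ n = 1) : π ^ 3 = 1 := by
  have := pe_uniq h (pe_pow h a (3 ^ n)) (e ▸ pe_one h)
  rcases perm_odd π with b | b
  · exact b
  · obtain ⟨k, hk⟩ : Odd (3 ^ n) := Odd.pow (by decide)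
    rw [hk, pow_succ, pow_mul, b, one_pow, one_mul] at this
    rw [this, one_pow]

theorem pe_fix {g : G} {m : Mx} {π : Equiv.Perm (Fin 3)} (d : m.det1) {i : Fin 3}
    (e : ∀ v, m.ap (pm π (ng i v)) = ng i (m.ap (pm π v))) : π i = i := by
  refine ng_inj _ _ ?_
  have := e (Pi.single (π i) 1, 0)
  rw [← Mx.ap_ng, ← pm_ng] at this
  have := congrArg (fun v => pm π⁻¹ (m.adj.ap v)) this
  simpa only [d.adj_ap, pm_pm, mul_inv_cancel, pm_one] using this.symm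

theorem pe_r {g : G} {π : Equiv.Perm (Fin 3)} (a : Pe z l g π) {i : Fin 3} (c : g * r i = r i * g) : π i = i :=
  let ⟨_, d, a⟩ := a
  pe_fix h (g := g) d fun v => (h.ac_uniq (h.ac_mul a (h.er i).ac) (c ▸ h.ac_mul (h.er i).ac a) v :)

theorem P3 {g : G} (hg : g ∈ Qs z l ⊔ R) {n : ℕ} (e : g ^ 3 ^ n = 1) : g ∈ Qs z l := by
  obtain ⟨m, d, q, a⟩ := h.memP.1 hg
  have g4 : g ^ 4 ∈ Qs z l := h.memQ_of_ac ((h.ac_pow a 4).congr (q.four d))
  have e1 : g ^ (3 ^ n * 3 ^ n) = 1 := by rw [pow_mul, e, one_pow]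
  obtain ⟨k, hk⟩ : Odd (3 ^ n) := Odd.pow (by decide)
  rw [hk, show (2 * k + 1) * (2 * k + 1) = 4 * (k * k + k) + 1 by ring, pow_succ, pow_mul,
    mul_eq_one_iff_inv_eq] at e1
  exact e1 ▸ inv_mem (pow_mem g4 _)

end

variable [Finite G] (h : St z l r R y)
include h

theorem eyk (k : F3) : Ex z l (r 0 * r 1 * r 2) (y ^ k.val) (Ym fun _ => k) := by
  rcases f3_cases k with rfl | rfl | rfl
  · rw [pw_zero]; exact Ex.one.congr fun v => (Ym_zero v).symm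
  · rw [pw_one]; exact h.ey
  · exact (show y ^ (2 : F3).val = y * y from pow_two y) ▸ (h.ey.mul h.ey).congr fun v => Ym_Ym _ _ v

theorem yr (i : Fin 3) : y * r i = r i * y := h.ex_Ym h.ey i

/-- a diagonal element which is in the quaternion group on one plane lies in `P` -/
theorem dq {g : G} {m : Mx} (d : m.det1) (a : Ac z l g m.ap) (i : Fin 3)
    (q : m.a i + m.d i = 0 ∨ (m.b i = 0 ∧ m.c i = 0)) : m.q8 := by
  obtain ⟨ρ, hρ, k, b⟩ := h.dg g m d a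
  obtain ⟨n, d', q', c⟩ := h.eR ρ hρ
  obtain rfl : n.mul ⟨1, fun _ => k, 0, 1⟩ = m := Mx.eq_of_ap fun v => by
    rw [Mx.ap_mul, ← Ym_eq]; exact h.ac_uniq (c.mul (eyk h k)).ac b v
  obtain rfl := q8_u _ _ _ _ k (d' i) (q' i) q
  exact q'.mul (fun _ => Or.inr ⟨rfl, rfl⟩) d' fun i => by simp

theorem yS : IsPGroup 3 (zpowers y) ∧ ∀ x ∈ zpowers y, x * z = z * x :=
  ⟨pgz (k := 1) (by simpa using h.y3), by
    rintro _ ⟨n, rfl⟩; exact ((show Commute y z from h.ey.cz).zpow_left n).eq⟩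

theorem memS {g : G} : g ∈ zpowers y ⊔ Qs z l ↔ ∃ v k, ∃ m : F3, g = qq z l v k * y ^ m.val := by
  refine ⟨fun hg => ?_, by
    rintro ⟨v, k, m, rfl⟩; exact mul_mem (mem_sup_right (qQ v k)) (mem_sup_left (pow_mem (mem_zpowers y) _))⟩
  obtain ⟨n, hn, a, ha, rfl⟩ := mem_sup_nrm (fun x hx => mem_normalizer_iff.2 fun q =>
    ⟨h.nQ' ((yS h).2 x hx), fun hq => by simpa [mul_assoc] using h.nQ' ((yS h).2 _ (inv_mem hx)) hq⟩) hg
  obtain ⟨v, k, rfl⟩ := h.memQ.1 hn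
  obtain ⟨m, rfl⟩ := (mem_zp h.y3).1 ha
  exact ⟨v, k, m, rfl⟩

theorem acS (v : V6) (k m : F3) : Ac z l (qq z l v k * y ^ m.val) (Ym fun _ => m) :=
  (h.ac_mul (h.ac_q v k) (eyk h m).ac :)

theorem Xp (w : G) : IsPGroup 3 (Xw z l y w) := (h.sup_pg (yS h).1 (yS h).2).1.to_inf_left
theorem Xz {w x : G} (hx : x ∈ Xw z l y w) : x * z = z * x := (h.sup_pg (yS h).1 (yS h).2).2.1 x hx.1

variable {w : G} {ψ : V6 → V6} (a : Ex z l (r 0 * r 1 * r 2) w ψ) (wy : w * y = y * w)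
include a

theorem zX : z ∈ Xw z l y w := ⟨mem_sup_right zQ, mc.2 a.cz.symm⟩

include wy

theorem yX : y ∈ Xw z l y w := ⟨mem_sup_left (mem_zpowers y), mc.2 wy.symm⟩

theorem memX {g : G} : g ∈ Xw z l y w ↔ ∃ v, ψ v = v ∧ ∃ k m : F3, g = qq z l v k * y ^ m.val := by
  have c : ∀ v k, ∀ m : F3, w * (qq z l v k * y ^ m.val) * w⁻¹ = qq z l (ψ v) k * y ^ m.val := fun v k m => by
    rw [← conj_mul, a.q, cm_cj.1 ((show Commute w y from wy).pow_right _).eq]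
  constructor
  · rintro ⟨hg, hw⟩
    obtain ⟨v, k, m, rfl⟩ := (memS h).1 hg
    exact ⟨v, (h.q_inj (mul_right_cancel ((c v k m).symm.trans (cm_cj.1 (mc.1 hw).symm)))).1, k, m, rfl⟩
  · rintro ⟨v, e, k, m, rfl⟩
    exact ⟨(memS h).2 ⟨v, k, m, rfl⟩, mc.2 (cm_cj.2 (by rw [c, e])).symm⟩

theorem cardX : Nat.card (Xw z l y w) = Nat.card {v // ψ v = v} * 9 := by
  rw [← Nat.card_congr (Equiv.ofBijective (fun p : {v // ψ v = v} × F3 × F3 =>
    (⟨_, (memX h a wy).2 ⟨p.1, p.1.2, p.2.1, p.2.2, rfl⟩⟩ : Xw z l y w)) ⟨?_, fun g => ?_⟩)]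
  · simp
  · rintro ⟨v, k, m⟩ ⟨v', k', m'⟩ e
    have e := congrArg Subtype.val e
    simp only at e
    obtain rfl : m = m' := by
      have := congrFun (congrArg Prod.fst (h.ac_uniq (acS h v k m) (e ▸ acS h v' k' m') (0, 1))) 0
      simpa [Ym] using this
    obtain ⟨e1, rfl⟩ := h.q_inj (mul_right_cancel e)
    rw [Subtype.ext e1]
  · obtain ⟨v, e, k, m, e'⟩ := (memX h a wy).1 g.2
    exact ⟨(⟨v, e⟩, k, m), Subtype.ext e'.symm⟩

theorem cenX (w2 : w * w = 1) (hu : ∃ u, ψ u = u ∧ u.2 ≠ 0) {x : G} (hx : x ∈ Xw z l y w)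
    (c : ∀ g ∈ Xw z l y w, x * g = g * x) : x ∈ zpowers z := by
  obtain ⟨v, e, k, m, rfl⟩ := (memX h a wy).1 hx
  have lX : ∀ u, ψ u = u → qq z l u 0 ∈ Xw z l y w := fun u e =>
    (memX h a wy).2 ⟨u, e, 0, 0, by rw [pw_zero, mul_one]⟩
  obtain rfl : m = 0 := by
    obtain ⟨u, e, hu⟩ := hu
    obtain ⟨j, e1⟩ := h.ac_q' (acS h v k m) u
    have := congrArg Prod.fst (h.q_inj ((e1 0).symm.trans (cm_cj.1 (c _ (lX u e))))).1
    simp only [Ym, add_eq_left] at this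
    by_contra hm
    exact hu (funext fun i => by simpa [hm] using congrFun this i)
  rw [pw_zero, mul_one] at c ⊢
  obtain rfl : v = 0 := h.nd v fun u => by
    have e2 : ψ (ψ u) = u := h.ac_uniq (a.mul a).ac (w2 ▸ h.ac_one) u
    have := (h.qcm _ _).1 (c _ (lX (u + ψ u) (by rw [h.ac_add a.ac, e2, add_comm])))
    have e3 := h.ac_be a.ac v u
    rw [e] at e3
    rw [h.add_r, e3] at this
    linear_combination -this + b6 v u * three
  exact h.qz k ▸ pow_mem (mem_zpowers z) _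

theorem sylX (w2 : w * w = 1) (hu : ∃ u, ψ u = u ∧ u.2 ≠ 0)
    (hp : ∀ g π, Pe z l g π → g * w = w * g → π ^ 3 = 1 → π = 1) :
    IsSylowIn 3 (Xw z l y w) (centralizer {w}) := by
  have : Fact (Nat.Prime 3) := ⟨Nat.prime_three⟩
  refine isSylowIn_of_normalizer inf_le_right ⟨le_inf inf_le_right le_normalizer, Xp h w, fun T h1 h2 p =>
    le_antisymm (fun g hg => ⟨?_, (h2 hg).1⟩) h1⟩
  have pw : ∀ g ∈ T, ∃ n, g ^ 3 ^ n = 1 := fun g hg =>
    let ⟨n, e⟩ := p ⟨g, hg⟩; ⟨n, congrArg Subtype.val e⟩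
  obtain ⟨n, e⟩ := pw g hg
  have gz := odd_cent h.z3 h.z1 e (cenX h a wy w2 hu (conj_mem_of_mem_normalizer (h2 hg).2 (zX h a)) fun x hx => by
    have := Xz h (conj_mem_of_mem_normalizer' (h2 hg).2 hx)
    rw [show g * z * g⁻¹ * x = g * (z * (g⁻¹ * x * g)) * g⁻¹ by group, ← this]; group)
  obtain ⟨π, m, d, b⟩ := h.mon g gz
  obtain rfl := hp g π ⟨m, d, b⟩ (mc.1 (h2 hg).1) (pe_three h.toFr0 ⟨m, d, b⟩ e)
  obtain ⟨ρ, hρ, k, c⟩ := h.dg g m d b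
  have y1 : y ^ k.val ∈ Xw z l y w := pow_mem (yX h a wy) _
  obtain ⟨n', e'⟩ := pw _ (mul_mem hg (inv_mem (h1 y1)))
  have k1 := mul_mem (mem_sup_left (h.div_memQ' c b)) (mem_sup_right hρ : ρ ∈ Qs z l ⊔ R)
  have := P3 h.toFr0 (by simpa [mul_assoc] using k1) e'
  have k2 : _ ∈ zpowers y ⊔ Qs z l := mul_mem (mem_sup_right this) y1.1
  rwa [inv_mul_cancel_right] at k2

end H7.F3.End
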