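import Cfsg.Agent.Lib.F3L.EndA
import Cfsg.Agent.S0815
import Cfsg.Agent.S0280
import Cfsg.Agent.S0283

/-! The index of the double cover of `U₆(2)` in the involution centralizer. -/

set_option autoImplicit false
set_option linter.unusedSectionVars false

namespace H7.F3.End

open Subgroup Cfsg H69

variable {G : Type*} [Group G] [Finite G] {d : G} {L : Subgroup G}

theorem cardU {K : Type} [Field K] [Fintype K] (hK : Fintype.card K = 4) : Nat.card (PSU 6 K 2) = 9196830720 := by
  have := Cfsg.Agent.S0280.result (F := K) (q := 2) hK 6 (by norm_num)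
  simp only [Finset.prod_range_succ, Finset.prod_range_zero] at this
  norm_num [Nat.even_iff] at this
  omega

theorem card_sub {K : Subgroup G} (d2 : orderOf d = 2) (hd : d ∈ K) : Nat.card ((zpowers d).subgroupOf K) = 2 := by
  rw [Nat.card_congr (subgroupOfEquivOfLe (zpowers_le.2 hd)).toEquiv, Nat.card_zpowers, d2]

theorem Lle (hL : LD d L) : L ≤ centralizer {d} := fun x hx => mc.2 (hL.le x hx)

theorem nL (hL : LD d L) : centralizer {d} ≤ normalizer (L : Set G) := fun g hg => mem_normalizer_iff.2 fun x =>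
  ⟨hL.nrm g (mc.1 hg) x, fun hx => by simpa [mul_assoc] using hL.nrm _ (mc.1 (inv_mem hg)) _ hx⟩

theorem cardL (hL : LD d L) (d2 : orderOf d = 2) : Nat.card L = 9196830720 * 2 := by
  obtain ⟨_, K, _, _, hK, ⟨e⟩⟩ := hL.iso
  rw [card_eq_card_quotient_mul_card_subgroup ((zpowers d).subgroupOf L), Nat.card_congr e.toEquiv, cardU hK,
    card_sub d2 hL.dL]

theorem idx6 (hL : LD d L) (d2 : orderOf d = 2) : L.relIndex (centralizer {d}) ∣ 6 := by
  obtain ⟨_, K, _, _, hK, ⟨e⟩⟩ := hL.iso
  set C := centralizer ({d} : Set G)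
  have nD : ((zpowers d).subgroupOf C).Normal := ⟨fun x hx g => by
    obtain ⟨n, e⟩ := hx
    exact ⟨n, by simp [← show d ^ n = x from e, ((show Commute g.1 d from mc.1 g.2).zpow_right n).eq]⟩⟩
  let f : L →* C ⧸ (zpowers d).subgroupOf C := (QuotientGroup.mk' _).comp (inclusion (Lle hL))
  have hk : f.ker = (zpowers d).subgroupOf L := by
    ext x; simp [f, mem_subgroupOf]
  have nf : f.range.Normal := ⟨by
    rintro _ ⟨x, rfl⟩ g
    obtain ⟨g, rfl⟩ := QuotientGroup.mk_surjective g
    exact ⟨⟨_, hL.nrm g (mc.1 g.2) x x.2⟩, rfl⟩⟩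
  have e' : f.range ≃* PSU 6 K 2 :=
    ((QuotientGroup.quotientKerEquivRange f).symm.trans (QuotientGroup.quotientMulEquivOfEq hk)).trans e
  have k1 := card_dvd_of_injective (MulAut.conjNormal (H := f.range)) ((injective_iff_map_eq_one _).2 fun g hg => by
    obtain ⟨g, rfl⟩ := QuotientGroup.mk_surjective g
    refine (QuotientGroup.eq_one_iff _).2 (hL.cent g (mc.1 g.2) fun x hx => ?_)
    have := congrArg Subtype.val (MulEquiv.congr_fun hg ⟨_, ⟨x, hx⟩, rfl⟩)
    exact (QuotientGroup.eq_one_iff (N := (zpowers d).subgroupOf C)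
      (g * (⟨x, Lle hL hx⟩ : C) * g⁻¹ * (⟨x, Lle hL hx⟩ : C)⁻¹)).1 (mul_inv_eq_one.2 this :))
  have : Fact (Nat.Prime 2) := ⟨Nat.prime_two⟩
  rw [Nat.card_congr (MulAut.congr e').toEquiv, Cfsg.Agent.S0815.result (q := 2) 2 1 le_rfl rfl hK 6 (by norm_num) (by norm_num),
    cardU hK] at k1
  have k2 := card_eq_card_quotient_mul_card_subgroup ((zpowers d).subgroupOf C)
  rw [card_sub d2 (mc.2 rfl), ← (L.subgroupOf C).card_mul_index,
    Nat.card_congr (subgroupOfEquivOfLe (Lle hL)).toEquiv, cardL hL d2] at k2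
  rw [show Nat.card (C ⧸ (zpowers d).subgroupOf C) = L.relIndex C * 9196830720 by rw [relIndex]; omega] at k1
  exact (Nat.mul_dvd_mul_iff_right (by norm_num)).1 k1

theorem tw (hL : LD d L) (d2 : orderOf d = 2) {X : Subgroup G} (hX : IsSylowIn 3 X (centralizer {d}))
    (c : Nat.card X = 729) {g g' : G} (gd : g * d = d * g) (gd' : g' * d = d * g') (a : g ∉ L) (b : g' ∉ L) :
    g * g' ∈ L := by
  have : Fact (Nat.Prime 3) := ⟨Nat.prime_three⟩
  obtain ⟨T, hT⟩ := exists_isSylowIn 3 L
  have cT : Nat.card T = 729 := by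
    rw [hT.card_eq_pow_factorization, cardL hL d2, show 9196830720 * 2 = 3 ^ 6 * 25231360 from rfl,
      Nat.factorization_mul (by norm_num) (by norm_num), Nat.Prime.factorization_pow Nat.prime_three,
      Finsupp.add_apply, Nat.factorization_eq_zero_of_not_dvd (by norm_num), Finsupp.single_eq_same]
    rfl
  have k1 := (hX.of_card_le hT.isP (hT.le.trans (Lle hL)) (by rw [c, cT])).not_dvd_relIndex_of_le hT.le (Lle hL)
  have k2 := idx6 hL d2
  have k3 : L.relIndex (centralizer {d}) ≠ 1 := fun e => a (relIndex_eq_one.1 e (mc.2 gd))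
  have k4 : (L.subgroupOf (centralizer {d})).index = 2 := by
    have := Nat.le_of_dvd (by norm_num) k2
    rw [relIndex] at *
    generalize (L.subgroupOf (centralizer {d})).index = n at *
    interval_cases n <;> simp_all
  exact (mul_mem_iff_of_index_two k4 (a := ⟨g, mc.2 gd⟩) (b := ⟨g', mc.2 gd'⟩)).2 (iff_of_false a b)

theorem quasi (hL : LD d L) (hd : d ∈ ⁅L, L⁆) : IsQuasisimple L := by
  obtain ⟨_, K, _, _, hK, ⟨e⟩⟩ := hL.iso
  have hs := Cfsg.Agent.S0283.result (F := K) (q := 2) hK 6 (by norm_num) (by norm_num)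
  have hZ : center L = (zpowers d).subgroupOf L := by
    ext x
    refine ⟨fun hx => hL.cent x (hL.le _ x.2) fun g hg => ?_, fun ⟨n, hn⟩ => mem_center_iff.2 fun g => Subtype.ext ?_⟩
    · have := congrArg Subtype.val (mem_center_iff.1 hx ⟨g, hg⟩)
      rw [show x * g = g * x from this.symm]; simp
    · simpa [← show d ^ n = x from hn] using ((show Commute g.1 d from hL.le _ g.2).zpow_right n).eq
  have hs' : IsSimpleGroup (L ⧸ (zpowers d).subgroupOf L) := e.isSimpleGroup
  refine ⟨⟨?_⟩, (QuotientGroup.quotientMulEquivOfEq hZ).isSimpleGroup⟩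
  have hle : (zpowers d).subgroupOf L ≤ _root_.commutator L := by
    rw [commutator_def, ← map_subtype_le_iff, map_commutator, map_subtype_top, map_subgroupOf_eq_of_le (zpowers_le.2 hL.dL)]
    exact zpowers_le.2 hd
  rcases hs'.eq_bot_or_eq_top_of_normal ((_root_.commutator L).map (QuotientGroup.mk' _))
    (Normal.map inferInstance _ (QuotientGroup.mk'_surjective _)) with a | a
  · rw [commutator_def, map_commutator, map_top_of_surjective _ (QuotientGroup.mk'_surjective _),
      commutator_eq_bot_iff_le_centralizer] at a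
    have := @IsSimpleGroup.prime_card (L ⧸ (zpowers d).subgroupOf L)
      { (inferInstance : Group _) with mul_comm := fun x y => a (mem_top y) x (mem_top x) } hs'
    rw [Nat.card_congr e.toEquiv, cardU hK] at this
    exact absurd (this.eq_one_or_self_of_dvd 2 (by norm_num)) (by norm_num)
  · rw [← comap_map_eq_self (f := QuotientGroup.mk' ((zpowers d).subgroupOf L)) (H := _root_.commutator L) (by rwa [QuotientGroup.ker_mk']), a, comap_top]

end H7.F3.End
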