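import Cfsg.Agent.Lib.F3L.EndB

/-! The 2-group `R` lies in `L`, and `L` is quasisimple. -/

set_option autoImplicit false
set_option linter.unusedSectionVars false

namespace H7.F3.End

open Subgroup H87.Mc Cfsg H69
open H87.U6 (F3 f3_cases pw_add pw_zero pw_one pw_two pw_neg pw_mul pw_inj mem_zp cj_pw cm_cj)

theorem fix0 : Fintype.card {v // ng 0 v = v} = 81 ∧ ∃ u, ng 0 u = u ∧ u.2 ≠ 0 := by decide +kernel
theorem fix01 : Fintype.card {v // ng 1 (ng 0 v) = v} = 9 ∧ ∃ u, ng 1 (ng 0 u) = u ∧ u.2 ≠ 0 := by decide +kernel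
theorem ng01 : ∀ v, ng 1 (ng 0 v) = -ng 2 v := by decide +kernel

theorem sc_dec : ∀ s : X3, s * s = 1 → ∃ a b c : Fin 2, s = sg 0 ^ a.val * sg 1 ^ b.val * sg 2 ^ c.val ∧
    (s 1 = -1 ↔ b = 1) ∧ (s 2 = -1 ↔ c = 1) := by decide +kernel

/-- a matrix on one plane -/
def pl (i : Fin 3) (a b c d : F3) : Mx :=
  ⟨fun j => if j = i then a else 1, fun j => if j = i then b else 0, fun j => if j = i then c else 0,
    fun j => if j = i then d else 1⟩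

theorem cube_dec (n : Mx) (d : n.det1) (q : n.q8) (i : Fin 3) :
    (((n.mul ⟨1, 1, 0, 1⟩).mul (n.mul ⟨1, 1, 0, 1⟩)).mul (n.mul ⟨1, 1, 0, 1⟩)).b i = 0 ∧
    (((n.mul ⟨1, 1, 0, 1⟩).mul (n.mul ⟨1, 1, 0, 1⟩)).mul (n.mul ⟨1, 1, 0, 1⟩)).c i = 0 := by
  have d := d i
  have q := q i
  simp only [Mx.mul, Pi.add_apply, Pi.mul_apply, Pi.one_apply, Pi.zero_apply, mul_one, mul_zero, add_zero]
  revert d q
  generalize n.a i = a, n.b i = b, n.c i = c, n.d i = e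
  revert a b c e
  decide +kernel

set_option synthInstance.maxSize 4000 in
set_option synthInstance.maxHeartbeats 400000 in
theorem anti_dec : ∀ a b c d : F3, a * d - b * c = 1 → a + d = 0 → ∀ a' b' c' d' : F3, a' * d' - b' * c' = 1 →
    a' + d' = 0 → ∀ e f g k : F3, e * k - f * g = 1 → e + k = 0 → a' * e + b' * g + (c' * f + d' * k) = 0 →
    (a * a' + b * c' = -(a' * a + b' * c) ∧ a * b' + b * d' = -(a' * b + b' * d) ∧
      c * a' + d * c' = -(c' * a + d' * c) ∧ c * b' + d * d' = -(c' * b + d' * d)) ∨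
    (a * e + b * g = -(e * a + f * c) ∧ a * f + b * k = -(e * b + f * d) ∧
      c * e + d * g = -(g * a + k * c) ∧ c * f + d * k = -(g * b + k * d)) := by
  decide +kernel

theorem unit_dec : ∀ a d : F3, a * d = 1 → a * a = 1 ∧ d = a := by decide

theorem pl_det (i : Fin 3) {a b c d : F3} (e : a * d - b * c = 1) : (pl i a b c d).det1 := fun j => by
  by_cases hj : j = i <;> simp [pl, hj, e]

theorem pl_q8 (i : Fin 3) {a b c d : F3} (e : a + d = 0) : (pl i a b c d).q8 := fun j => by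
  by_cases hj : j = i <;> simp [pl, hj, e]

variable {G : Type*} [Group G]

/-- the data of the end game -/
structure SU (z : G) (l : V6 → G) (r : Fin 3 → G) (R : Subgroup G) (y : G) (L : Subgroup G) : Prop
    extends St z l r R y, LD (r 0) L where
  su : ∀ m : Mx, m.det1 → m.q8 → ∃ ρ ∈ R, ∃ n : Mx, n.det1 ∧ n.q8 ∧ Ex z l (r 0 * r 1 * r 2) ρ n.ap ∧
      ∀ i, i ≠ 0 → n.a i = m.a i ∧ n.b i = m.b i ∧ n.c i = m.c i ∧ n.d i = m.d i
  co : ∀ ρ ∈ R, ∀ m : Mx, Ac z l ρ m.ap → ∀ j : Fin 3, (∀ i, i ≠ j → m.b i = 0 ∧ m.c i = 0) → m.b j = 0 ∧ m.c j = 0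

theorem eqns_c : True := trivial

variable {z : G} {l : V6 → G} {r : Fin 3 → G} {R : Subgroup G} {y : G} {L : Subgroup G}

theorem scal (h : Fr0 z l r R) {ρ : G} (hρ : ρ ∈ R) {m : Mx} (d : m.det1) (a : Ac z l ρ m.ap)
    (e : ∀ i, m.b i = 0 ∧ m.c i = 0) : ∃ a b c : Fin 2, ρ = r 0 ^ a.val * r 1 ^ b.val * r 2 ^ c.val ∧
      (m.a 1 = -1 ↔ b = 1) ∧ (m.a 2 = -1 ↔ c = 1) := by
  have k : ∀ i, m.a i * m.a i = 1 ∧ m.d i = m.a i := fun i => unit_dec _ _ (by simpa [e i] using d i)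
  obtain ⟨i, j, n, e1, e2⟩ := sc_dec m.a (funext fun i => (k i).1)
  have p : ∀ i, ∀ n : Fin 2, Ac z l (r i ^ n.val) fun v => (sg i ^ n.val * v.1, sg i ^ n.val * v.2) := fun i n => by
    fin_cases n
    exacts [(pow_zero (r i)).symm ▸ h.ac_one.congr fun v => by simp,
      (pow_one (r i)).symm ▸ (h.er i).ac.congr fun v => by simp [ng]]
  refine ⟨i, j, n, h.R_eq hρ (mul_mem (mul_mem (pow_mem (h.rR _) _) (pow_mem (h.rR _) _)) (pow_mem (h.rR _) _)) a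
    ((h.ac_mul (h.ac_mul (p 0 i) (p 1 j)) (p 2 n)).congr fun v => ?_), e2⟩
  simp only [Mx.ap, show m.b = 0 from funext fun i => (e i).1, show m.c = 0 from funext fun i => (e i).2,
    show m.d = m.a from funext fun i => (k i).2, ← mul_assoc, ← e1, zero_mul, add_zero, zero_add]

variable [Finite G]

theorem ord2 (h : Fr0 z l r R) : orderOf (r 0) = 2 :=
  haveI : Fact (Nat.Prime 2) := ⟨Nat.prime_two⟩
  orderOf_eq_prime (by rw [pow_two, h.r2]) (h.rne 0)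

theorem syl0 (h : St z l r R y) : IsSylowIn 3 (Xw z l y (r 0)) (centralizer {r 0}) :=
  sylX h (h.er 0) (yr h 0).symm (h.r2 0) fix0.2 fun _ π a c => perm_fix π 0 (pe_r h.toFr0 a c)

theorem card0 (h : St z l r R y) : Nat.card (Xw z l y (r 0)) = 729 := by
  rw [cardX h (h.er 0) (yr h 0).symm, Nat.card_eq_fintype_card, fix0.1]

theorem nconj (h : St z l r R y) {w : G} (s : IsSylowIn 3 (Xw z l y w) (centralizer {w}))
    (c : Nat.card (Xw z l y w) = 81) : ¬ IsConj (r 0) w := fun e => by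
  have : Fact (Nat.Prime 3) := ⟨Nat.prime_three⟩
  obtain ⟨g, rfl⟩ := isConj_iff.1 e
  have := s.card_eq (cj_centralizer_singleton _ g ▸ (syl0 h).cj g)
  rw [card_cj, c, card0 h] at this
  omega

theorem n3 (h : St z l r R y) : ¬ IsConj (r 0) (r 1 * r 0) := by
  have a := (h.er 1).mul (h.er 0)
  have c : r 1 * r 0 * y = y * (r 1 * r 0) := ((show Commute y _ from yr h 1).mul_right (yr h 0)).eq.symm
  refine nconj h (sylX h a c ?_ fix01.2 ?_) (by rw [cardX h a c, Nat.card_eq_fintype_card, fix01.1])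
  · rw [mul_assoc, ← mul_assoc (r 0), h.rc 0 1, mul_assoc, h.r2, mul_one, h.r2]
  · rintro g π ⟨m, d, b⟩ e
    refine perm_fix π 2 (pe_fix h.toFr0 (g := g) d fun v => ?_)
    have := h.ac_uniq (h.ac_mul b a.ac) (e ▸ h.ac_mul a.ac b) v
    simp only [ng01] at this
    exact neg_inj.1 ((add_neg' (h.ac_add b) _).symm.trans this)

theorem conj1 (h : St z l r R y) : ∃ g, g * r 0 * g⁻¹ = r 1 := by
  obtain ⟨σ, c, a⟩ := h.sig
  obtain ⟨n, -, b⟩ := h.exists_ex a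
  rw [Ym_eq] at b
  exact ⟨(n * σ)⁻¹, by rw [← h.ex_r (π := ro) (fun i => by simp) b 0, show ro 0 = 1 from rfl]; group⟩

theorem r10 (h : St z l r R y) : r 1 ≠ r 0 := fun e =>
  absurd (ng_inj 1 0 (h.ac_uniq (h.er 1).ac (e ▸ (h.er 0).ac) _)) (by decide)

namespace SU

variable (h : SU z l r R y L)
include h

theorem tw' {g g' : G} (gd : g * r 0 = r 0 * g) (gd' : g' * r 0 = r 0 * g') (a : g ∉ L) (b : g' ∉ L) : g * g' ∈ L :=
  tw h.toLD (ord2 h.toFr0) (syl0 h.toSt) (card0 h.toSt) gd gd' a b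

theorem sqL {g : G} (gd : g * r 0 = r 0 * g) : g * g ∈ L := by
  by_cases a : g ∈ L
  exacts [mul_mem a a, h.tw' gd gd a a]

theorem oddL {g : G} (gd : g * r 0 = r 0 * g) {n : ℕ} (o : Odd n) (e : g ^ n ∈ L) : g ∈ L := by
  obtain ⟨k, rfl⟩ := o
  rwa [pow_succ, pow_mul, pow_two, mul_mem_cancel_left (pow_mem (h.sqL gd) k)] at e

theorem thL {g : G} (gd : g * r 0 = r 0 * g) (e : g ^ 3 = 1) : g ∈ L := h.oddL gd (by decide) (e ▸ one_mem L)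

theorem yL : y ∈ L := h.thL (yr h.toSt 0) h.y3
theorem zL : z ∈ L := h.thL (h.rz 0).symm h.z3

theorem XL : Xw z l y (r 0) ≤ L := fun x hx => by
  obtain ⟨n, e⟩ := Xp h.toSt _ ⟨x, hx⟩
  exact h.oddL (mc.1 hx.2) (Odd.pow (by decide) : Odd (3 ^ n)) (by
    rw [show x ^ 3 ^ n = 1 from congrArg Subtype.val e]; exact one_mem L)

theorem KL : K3 (r 0) ≤ L := (closure_le _).2 fun _ hx => h.thL hx.1 hx.2

/-- an element normalizing `Z` centralizes it after a correction from `L` -/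
theorem corr {g : G} (hg : g * z * g⁻¹ ∈ zpowers z) : ∃ k ∈ L, g * k * z = z * (g * k) := by
  rcases (mem_z3 h.z3).1 hg with a | a | a
  · exact absurd (by simpa using a) h.z1
  · exact ⟨1, one_mem L, by rw [mul_one, cm_cj, a]⟩
  · obtain ⟨k, hk, e⟩ := h.ky
    obtain ⟨k', hk', e'⟩ := h.ky'
    refine ⟨k⁻¹ * k', h.KL (mul_mem (inv_mem hk) hk'), cm_cj.2 ?_⟩
    rw [show g * (k⁻¹ * k') * z * (g * (k⁻¹ * k'))⁻¹ = g * k⁻¹ * (k' * z * k'⁻¹) * k * g⁻¹ by group, e', ← e,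
      show g * k⁻¹ * (k * z * k⁻¹)⁻¹ * k * g⁻¹ = (g * z * g⁻¹)⁻¹ by group, a, inv_inv]

theorem sqR (j : Fin 3) : ∃ a b c : Fin 2, r 0 ^ a.val * r 1 ^ b.val * r 2 ^ c.val ∈ L ∧
      (1 = j ↔ b = 1) ∧ (2 = j ↔ c = 1) := by
  obtain ⟨ρ, hρ, n, d, q, a, e⟩ := h.su (pl j 0 1 (-1) 0) (pl_det j (by decide)) (pl_q8 j rfl)
  obtain ⟨a', b, c, e1, e2, e3⟩ := scal h.toFr0 (mul_mem hρ hρ) (d.mul d) ((a.mul a).ac.congr fun v => (Mx.ap_mul _ _ v).symm)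
    fun i => ⟨(q8_four' _ _ _ _ (d i) (q i)).2.1, (q8_four' _ _ _ _ (d i) (q i)).2.2.1⟩
  have k : ∀ i, i ≠ 0 → ((n.mul n).a i = -1 ↔ i = j) := fun i hi => by
    obtain ⟨f1, f2, f3, -⟩ := e i hi
    rw [show (n.mul n).a i = n.a i * n.a i + n.b i * n.c i from rfl, f1, f2, f3]
    by_cases hj : i = j <;> simp [pl, hj]
    decide
  exact ⟨a', b, c, e1 ▸ h.sqL (h.Rr hρ 0), (k 1 (by decide)).symm.trans e2, (k 2 (by decide)).symm.trans e3⟩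

theorem rL (j : Fin 3) : r j ∈ L := by
  have k : ∀ b : Fin 2, ¬ b = 1 → b = 0 := by decide
  obtain ⟨a, b, c, e, e1, e2⟩ := h.sqR j
  rw [mul_assoc, mul_mem_cancel_left (pow_mem h.dL _)] at e
  fin_cases j
  · exact h.dL
  · obtain rfl := e1.1 rfl
    obtain rfl := k c (mt e2.2 (by decide))
    simpa using e
  · obtain rfl := e2.1 rfl
    obtain rfl := k b (mt e1.2 (by decide))
    simpa using e

theorem RL : R ≤ L := fun ρ hρ => by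
  obtain ⟨n, d, q, a⟩ := h.eR ρ hρ
  have b := (a.mul h.ey).congr (φ' := (n.mul ⟨1, 1, 0, 1⟩).ap) fun v => by rw [Mx.ap_mul, Ym_eq]
  have d' : (n.mul ⟨1, 1, 0, 1⟩).det1 := d.mul fun i => by simp
  have m : ρ * y * (ρ * y) * (ρ * y) ∈ R := by
    have k := h.nR h.ey.cz h.ey.ct hρ
    have := mul_mem (mul_mem hρ k) (h.nR h.ey.cz h.ey.ct k)
    rwa [show ρ * (y * ρ * y⁻¹) * (y * (y * ρ * y⁻¹) * y⁻¹) = ρ * y * (ρ * y) * (ρ * (y * y)⁻¹) by group,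
      sq3 h.y3, inv_inv] at this
  obtain ⟨i, j, k, e, -⟩ := scal h.toFr0 m ((d'.mul d').mul d') (((b.mul b).mul b).ac.congr fun v => by
    simp only [Mx.ap_mul]) (cube_dec n d q)
  have := h.oddL (g := ρ * y) ((show Commute ρ _ from h.Rr hρ 0).mul_left (yr h.toSt 0)).eq (n := 3) (by decide) (by
    rw [pow_three', e]; exact mul_mem (mul_mem (pow_mem (h.rL _) _) (pow_mem (h.rL _) _)) (pow_mem (h.rL _) _))
  rwa [mul_mem_cancel_right h.yL] at this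

theorem tr0 {ρ : G} (hρ : ρ ∈ R) {n : Mx} (a : Ac z l ρ n.ap) (q : n.q8) (j : Fin 3)
    (e : ∀ i, i ≠ 0 → i ≠ j → n.b i = 0 ∧ n.c i = 0) (ne : n.b j ≠ 0) : n.a 0 + n.d 0 = 0 :=
  (q 0).resolve_right fun k => ne (h.co ρ hρ n a j fun i hi => by
    by_cases h0 : i = 0
    exacts [h0 ▸ k, e i h0 hi]).1

theorem dcomm : r 0 ∈ ⁅L, L⁆ := by
  obtain ⟨ρ, hρ, n, d, q, a, e⟩ := h.su (pl 1 0 1 (-1) 0) (pl_det _ (by decide)) (pl_q8 _ rfl)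
  have key : ∀ σ ∈ R, ∀ p : Mx, Ex z l (r 0 * r 1 * r 2) σ p.ap → p.a 1 = 1 ∧ p.b 1 = 0 ∧ p.c 1 = 0 ∧ p.d 1 = 1 →
      (n.a 0 * p.a 0 + n.b 0 * p.c 0 = -(p.a 0 * n.a 0 + p.b 0 * n.c 0) ∧
        n.a 0 * p.b 0 + n.b 0 * p.d 0 = -(p.a 0 * n.b 0 + p.b 0 * n.d 0) ∧
        n.c 0 * p.a 0 + n.d 0 * p.c 0 = -(p.c 0 * n.a 0 + p.d 0 * n.c 0) ∧
        n.c 0 * p.b 0 + n.d 0 * p.d 0 = -(p.c 0 * n.b 0 + p.d 0 * n.d 0)) → r 0 ∈ ⁅L, L⁆ := by
    rintro σ hσ p b ⟨f1, f2, f3, f4⟩ ⟨g1, g2, g3, g4⟩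
    obtain ⟨k1, k2, k3, k4⟩ : n.a 2 = 1 ∧ n.b 2 = 0 ∧ n.c 2 = 0 ∧ n.d 2 = 1 := e 2 (by decide)
    have : n.mul p = Mx.mul ⟨sg 0, 0, 0, sg 0⟩ (p.mul n) := by
      clear e; ext i <;> fin_cases i <;> simp [Mx.mul, sg, *]
    have e1 := h.R_eq (mul_mem hρ hσ) (mul_mem (h.rR 0) (mul_mem hσ hρ)) (a.mul b).ac
      (((h.er 0).mul (b.mul a)).ac.congr fun v => by rw [← Mx.ap_mul n, this, Mx.ap_mul, Mx.ap_mul, ng_eq])
    have := commutator_mem_commutator (h.RL hρ) (h.RL hσ)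
    rwa [commutatorElement_def, e1, show r 0 * (σ * ρ) * ρ⁻¹ * σ⁻¹ = r 0 by group] at this
  obtain ⟨σ, hσ, p, d1, q1, a1, e1⟩ := h.su (pl 2 0 1 (-1) 0) (pl_det _ (by decide)) (pl_q8 _ rfl)
  obtain ⟨τ, hτ, s, d2, q2, a2, e2⟩ := h.su (pl 2 1 1 1 (-1)) (pl_det _ (by decide)) (pl_q8 _ (by decide))
  have i1 : ∀ i : Fin 3, i ≠ 0 → i ≠ 1 → i = 2 := by decide
  have i2 : ∀ i : Fin 3, i ≠ 0 → i ≠ 2 → i = 1 := by decide
  have p1 : p.a 1 = 1 ∧ p.b 1 = 0 ∧ p.c 1 = 0 ∧ p.d 1 = 1 := e1 1 (by decide)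
  have s1 : s.a 1 = 1 ∧ s.b 1 = 0 ∧ s.c 1 = 0 ∧ s.d 1 = 1 := e2 1 (by decide)
  have p2 : p.a 2 = 0 ∧ p.b 2 = 1 ∧ p.c 2 = -1 ∧ p.d 2 = 0 := e1 2 (by decide)
  have s2 : s.a 2 = 1 ∧ s.b 2 = 1 ∧ s.c 2 = 1 ∧ s.d 2 = -1 := e2 2 (by decide)
  refine (anti_dec _ _ _ _ (d 0) (h.tr0 hρ a.ac q 1 (fun i u v => ?_) ?_) _ _ _ _ (d1 0)
    (h.tr0 hσ a1.ac q1 2 (fun i u v => ?_) ?_) _ _ _ _ (d2 0) (h.tr0 hτ a2.ac q2 2 (fun i u v => ?_) ?_)
    (h.tr0 (mul_mem hσ hτ) ((a1.mul a2).ac.congr fun v => (Mx.ap_mul _ _ v).symm) (q1.mul q2 d1 d2) 2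
      (fun i u v => ?_) ?_)).elim (key σ hσ p a1 p1) (key τ hτ s a2 s1)
  · obtain rfl := i1 i u v
    exact ⟨(e 2 u).2.1, (e 2 u).2.2.1⟩
  · rw [(e 1 (by decide)).2.1]; decide
  · exact i2 i u v ▸ ⟨p1.2.1, p1.2.2.1⟩
  · rw [p2.2.1]; decide
  · exact i2 i u v ▸ ⟨s1.2.1, s1.2.2.1⟩
  · rw [s2.2.1]; decide
  · obtain rfl := i2 i u v
    simp [Mx.mul, p1, s1]
  · simp [Mx.mul, p2, s2]

end SU

end H7.F3.End
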