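import Cfsg.Agent.Lib.F3L.EndC

/-! The outer involution in the case of index two. -/

set_option autoImplicit false
set_option linter.unusedSectionVars false

namespace H7.F3.End

open Subgroup H87.Mc Cfsg H69
open H87.U6 (F3 f3_cases pw_add pw_zero pw_one pw_two pw_neg pw_mul pw_inj mem_zp cj_pw cm_cj)

/-- the action of the outer involution -/
def sw (c : X3) (v : V6) : V6 := Ym c (pm (Equiv.swap 1 2) v)

theorem fixa : ∀ c : X3, c 0 = 0 → c 1 + c 2 = 0 → ∃ u, sw c u = u ∧ u.2 ≠ 0 := by decide +kernel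
theorem fixb : ∀ c : X3, c 0 = 0 → c 1 + c 2 = 0 → Fintype.card {v // sw c (ng 0 v) = v} = 9 := by decide +kernel
theorem fixc : ∀ c : X3, c 0 = 0 → c 1 + c 2 = 0 → ∃ u, sw c (ng 0 u) = u ∧ u.2 ≠ 0 := by decide +kernel
theorem fixd : ∀ c : X3, c 0 = 0 → c 1 + c 2 = 0 → ∀ v, sw c (ng 0 v) = v → ng 0 v = v := by decide +kernel

set_option synthInstance.maxSize 4000 in
theorem adj_dec : ∀ a b c d : F3, a * d - b * c = 1 → ∃ q : F3 × F3 × F3 × F3, q.1 * q.2.2.2 - q.2.1 * q.2.2.1 = 1 ∧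
    (q.1 + q.2.2.2 = 0 ∨ (q.2.1 = 0 ∧ q.2.2.1 = 0)) ∧ q.1 * a + q.2.1 * c = 1 ∧ q.2.2.1 * a + q.2.2.2 * c = 0 ∧
      q.2.2.1 * b + q.2.2.2 * d = 1 := by decide +kernel

theorem cmu_dec (m : Mx) (d : m.det1) (i : Fin 3) :
    (m.c i = 0 → (((m.mul ⟨1, 1, 0, 1⟩).mul m.adj).mul ⟨1, fun _ => 2, 0, 1⟩).b i = 0) ∧
    ((((m.mul ⟨1, 1, 0, 1⟩).mul m.adj).mul ⟨1, fun _ => 2, 0, 1⟩).c i = 0 ↔ m.c i = 0) := by
  have d := d i
  simp only [Mx.mul, Mx.adj, Pi.add_apply, Pi.mul_apply, Pi.one_apply, Pi.zero_apply, Pi.neg_apply]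
  revert d
  generalize m.a i = a, m.b i = b, m.c i = c, m.d i = e
  revert a b c e
  decide +kernel

theorem sign_dec : ∀ a d : F3, a * d = 1 → (a = 1 ∧ d = 1) ∨ (a = -1 ∧ d = -1) := by decide

variable {G : Type*} [Group G] [Finite G]
variable {z : G} {l : V6 → G} {r : Fin 3 → G} {R : Subgroup G} {y : G} {L : Subgroup G}

theorem cj_cen (h : St z l r R y) {w w' g : G} (e : Xw z l y w ^ᶜ g = Xw z l y w') (hz : z ∈ Xw z l y w)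
    (c : ∀ x ∈ Xw z l y w', (∀ g ∈ Xw z l y w', x * g = g * x) → x ∈ zpowers z) : g * z * g⁻¹ ∈ zpowers z :=
  c _ (e ▸ cj_mem g hz) fun x hx => by
    obtain ⟨x, hx', rfl⟩ := mem_cj'.1 (e ▸ hx : x ∈ Xw z l y w ^ᶜ g)
    rw [conj_mul, conj_mul, Xz h hx']

namespace SU

variable (h : SU z l r R y L)
include h

theorem t1 {g : G} (gd : g * r 0 = r 0 * g) (gL : g ∉ L) : ∃ τ ∉ L, ∃ m : Mx, m.det1 ∧
    Ex z l (r 0 * r 1 * r 2) τ fun v => m.ap (pm (Equiv.swap 1 2) v) := by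
  have : Fact (Nat.Prime 3) := ⟨Nat.prime_three⟩
  obtain ⟨n, hn, a, ha, rfl⟩ := ((syl0 h.toSt).mono h.XL (Lle h.toLD)).frattini (nL h.toLD (mc.2 gd))
  obtain ⟨k, hk, e⟩ := h.corr (cj_cen h.toSt (cj_eq_of_mem_normalizer ha) (zX h.toSt (h.er 0))
    fun x => cenX h.toSt (h.er 0) (yr h.toSt 0).symm (h.r2 0) fix0.2)
  have c : Commute (a * k) (r 0) := by
    simpa using ((show Commute n _ from h.le n hn).inv_left.mul_left gd).mul_left (h.le k hk)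
  have aL : a * k ∉ L := by rwa [mul_mem_cancel_right hk, ← mul_mem_cancel_left hn]
  generalize a * k = τ at *
  obtain ⟨π, m, d, b⟩ := h.mon τ e
  obtain ⟨q, b'⟩ := h.ex_adj b
  have ct : Commute (r 0 * r 1 * r 2) (r 0) := (h.er 0).ct.symm
  have qL := h.thL (((c.mul_left ct).mul_left c.inv_left).mul_left ct.inv_left).eq (h.Q3 q)
  rw [← mul_mem_cancel_left qL] at aL
  rcases perm_zero π (pe_r h.toFr0 ⟨m, d, b⟩ c.eq) with rfl | rfl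
  · obtain ⟨ρ, hρ, j, b1⟩ := h.dg τ m d b
    obtain ⟨p, -, -, b2⟩ := h.eR ρ hρ
    obtain ⟨i, e1⟩ := h.ex_eq (h.ex_of_ac b1 (b2.mul (eyk h.toSt j)).ct) b' fun _ => rfl
    exact absurd (e1 ▸ mul_mem (mul_mem (h.RL hρ) (pow_mem h.yL _)) (pow_mem h.zL _)) aL
  · exact ⟨_, aL, m, d, b'⟩

theorem t2' {g : G} (gd : g * r 0 = r 0 * g) (gL : g ∉ L) : ∃ τ ∉ L, ∃ c, Ex z l (r 0 * r 1 * r 2) τ (sw c) := by
  obtain ⟨τ, τL, m, d, a⟩ := h.t1 gd gL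
  choose q q1 q2 q3 using fun i => adj_dec _ _ _ _ (d i)
  obtain ⟨ρ, hρ, n, d', -, b, e⟩ := h.su ⟨fun i => (q i).1, fun i => (q i).2.1, fun i => (q i).2.2.1, fun i => (q i).2.2.2⟩ q1 q2
  have a1 := (b.mul a).congr (φ' := fun v => (n.mul m).ap (pm (Equiv.swap 1 2) v)) fun v => (Mx.ap_mul _ _ _).symm
  have e1 : ∀ i, i ≠ 0 → (n.mul m).a i = 1 ∧ (n.mul m).c i = 0 ∧ (n.mul m).d i = 1 := fun i hi => by
    obtain ⟨f1, f2, f3, f4⟩ := e i hi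
    simpa only [Mx.mul, Pi.add_apply, Pi.mul_apply, f1, f2, f3, f4] using q3 i
  have d1 := d'.mul d
  rw [← mul_mem_cancel_left (h.RL hρ)] at τL
  generalize n.mul m = p, ρ * τ = σ at *
  have y1 : Ac z l y (Mx.ap ⟨1, 1, 0, 1⟩) := Ym_eq 1 ▸ h.ey.ac
  have y2 : Ac z l (y ^ (2 : F3).val) (Mx.ap ⟨1, fun _ => 2, 0, 1⟩) := Ym_eq _ ▸ (eyk h.toSt 2).ac
  have a0 : Ac z l (σ * y * σ⁻¹) ((p.mul ⟨1, 1, 0, 1⟩).mul p.adj).ap :=
    (h.ac_mul (h.ac_mul a1.ac y1) (h.mono_inv d1 a1.ac)).congr h.mono_conj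
  have a2 := (h.ac_mul a0 y2).congr
    (φ' := (((p.mul ⟨1, 1, 0, 1⟩).mul p.adj).mul ⟨1, fun _ => 2, 0, 1⟩).ap) fun v => (Mx.ap_mul _ _ _).symm
  have d2 : (((p.mul ⟨1, 1, 0, 1⟩).mul p.adj).mul ⟨1, fun _ => 2, 0, 1⟩).det1 :=
    ((d1.mul fun i => by simp).mul d1.adj).mul fun i => by simp
  have k := fun (i : Fin 3) (hi : i ≠ 0) =>
    And.intro ((cmu_dec p d1 i).1 (e1 i hi).2.1) ((cmu_dec p d1 i).2.2 (e1 i hi).2.1)
  obtain ⟨ρ', hρ', a3⟩ := h.Rmax _ _ d2 (dq h.toSt d2 a2 1 (Or.inr (k 1 (by decide)))) a2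
  have c0 := (cmu_dec p d1 0).2.1 (h.co ρ' hρ' _ a3 0 k).2
  obtain ⟨f1, f2, f3⟩ := e1 1 (by decide)
  obtain ⟨g1, g2, g3⟩ := e1 2 (by decide)
  rcases sign_dec (p.a 0) (p.d 0) (by simpa [c0] using d1 0) with ⟨s1, s2⟩ | ⟨s1, s2⟩
  · refine ⟨σ, τL, p.b, a1.congr fun v => ?_⟩
    rw [sw, Ym_eq]; congr 1
    ext i <;> fin_cases i <;> simp [*]
  · refine ⟨r 0 * σ, by rwa [mul_mem_cancel_left h.dL], sg 0 * p.b, ((h.er 0).mul a1).congr fun v => ?_⟩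
    rw [sw, Ym_eq, ng_eq, ← Mx.ap_mul]; congr 1
    ext i <;> fin_cases i <;> simp [Mx.mul, sg, *]

theorem t3 {g : G} (gd : g * r 0 = r 0 * g) (gL : g ∉ L) : ∃ t ∉ L, ∃ c : X3, c 0 = 0 ∧ c 1 + c 2 = 0 ∧
    Ex z l (r 0 * r 1 * r 2) t (sw c) ∧ t * t = 1 ∧ t * y = y * t := by
  obtain ⟨τ, τL, c, a⟩ := h.t2' gd gL
  have a1 := ((eyk h.toSt (-c 0)).mul a).congr (φ' := sw ((fun _ => -c 0) + c)) fun v => Ym_Ym _ _ _
  rw [← mul_mem_cancel_left (pow_mem h.yL (-c 0).val)] at τL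
  have c0 : ((fun _ => -c 0) + c : X3) 0 = 0 := neg_add_cancel _
  generalize ((fun _ => -c 0) + c : X3) = e, y ^ (-c 0).val * τ = σ at *
  have a2 := (a1.mul a1).congr (φ' := Mx.ap ⟨1, e + e ∘ Equiv.swap 1 2, 0, 1⟩) fun v => by
    rw [sw, sw, pm_Ym, Ym_Ym, pm_pm, Equiv.swap_mul_self, pm_one, Ym_eq]
  have q := dq h.toSt (fun i => by simp) a2.ac 0 (Or.inr ⟨by simp [Equiv.swap_apply_of_ne_of_ne, c0], rfl⟩)
  have b : ∀ i, e i + e (Equiv.swap 1 2 i) = 0 := fun i => ((q i).resolve_left (by simp; decide)).1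
  obtain ⟨j, e1⟩ := h.ex_eq Ex.one a2 fun v => by rw [show e + e ∘ Equiv.swap 1 2 = 0 from funext b, one_ap]; rfl
  have a3 : Ex z l (r 0 * r 1 * r 2) (σ * z ^ j.val) (sw e) := a1.mul (h.ex_z _)
  have t2 : σ * z ^ j.val * (σ * z ^ j.val) = 1 := by
    rw [mul_assoc, ← mul_assoc (z ^ _), ← cz a1.cz, ← mul_assoc, ← mul_assoc, e1, one_mul, ← h.zz, ← h.zz,
      show j + j + j = 0 by linear_combination j * three, pw_zero]
  refine ⟨_, by rwa [mul_mem_cancel_right (pow_mem h.zL _)], e, c0, by simpa using b 1, a3, t2, ?_⟩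
  generalize σ * z ^ j.val = t at *
  obtain ⟨k, e2⟩ := h.ex_eq (h.ey.mul a3) (a3.mul h.ey) fun v => by
    rw [sw, sw, pm_Ym, Ym_Ym, Ym_Ym, add_comm]; rfl
  have e3 : t * y * t⁻¹ = y * z ^ k.val := by rw [e2, mul_assoc y, cz a3.cz]; group
  have e4 : y = y * z ^ k.val * z ^ k.val := by
    have : t * (t * y * t⁻¹) * t⁻¹ = y := by
      rw [show t * (t * y * t⁻¹) * t⁻¹ = t * t * y * (t * t)⁻¹ by group, t2]; simp
    rw [e3, ← conj_mul, e3, cjz a3.cz] at this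
    exact this.symm
  rw [mul_assoc, left_eq_mul, ← h.zz] at e4
  rw [e2, (by decide : ∀ k : F3, k + k = 0 → k = 0) k (pw_inj h.z3 h.z1 e4), pw_zero, mul_one]

theorem i2 {g : G} (gd : g * r 0 = r 0 * g) (gL : g ∉ L) :
    ∃ t b, I2 (r 0) L t b ∧ t * z = z * t ∧ t ∉ Qs z l ⊔ R := by
  have : Fact (Nat.Prime 3) := ⟨Nat.prime_three⟩
  obtain ⟨t, tL, c, c0, c1, a, t2, ty⟩ := h.t3 gd gL
  have dc : Mx.det1 ⟨1, c, 0, 1⟩ := fun i => by simp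
  have a' : Ex z l (r 0 * r 1 * r 2) t fun v => Mx.ap ⟨1, c, 0, 1⟩ (pm (Equiv.swap 1 2) v) :=
    a.congr fun v => by rw [sw, Ym_eq]
  have td : t * r 0 = r 0 * t := cm_cj.2 (h.ex_r dc a' 0)
  have tP : t ∉ Qs z l ⊔ R := fun hP => by
    obtain ⟨m, d, -, b⟩ := h.memP.1 hP
    exact absurd (pe_uniq h.toFr0 ⟨_, dc, a'.ac⟩ (π' := 1) ⟨m, d, b⟩) (by decide)
  have hp : ∀ w, Pe z l w (Equiv.swap 1 2) → ∀ g π, Pe z l g π → g * w = w * g → π ^ 3 = 1 → π = 1 :=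
    fun w p g π p' e => perm_sw π (pe_uniq h.toFr0 (pe_mul h.toFr0 p p') (e ▸ pe_mul h.toFr0 p' p))
  have b := a.mul (h.er 0)
  have by' : t * r 0 * y = y * (t * r 0) := ((show Commute y t from ty.symm).mul_right (yr h.toSt 0)).eq.symm
  have cb : Nat.card (Xw z l y (t * r 0)) = 81 := by
    rw [cardX h.toSt b by', Nat.card_eq_fintype_card, fixb c c0 c1]
  obtain ⟨s, hs⟩ := conj1 h.toSt
  refine ⟨t, r 1, ⟨h.toLD, ord2 h.toFr0, quasi h.toLD h.dcomm, td, tL, t2, fun g gd => ?_, ⟨_, fun x hx => ?_, cb, fun x hx => ?_⟩,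
    fun e => ?_, nconj h.toSt (sylX h.toSt b by' ?_ (fixc c c0 c1) (hp _ ?_)) cb, h.rL 1, isConj_iff.2 ⟨s, hs⟩,
    r10 h.toSt, n3 h.toSt⟩, a.cz, tP⟩
  · exact (em _).imp_right fun gL => h.tw' gd td gL tL
  · obtain ⟨v, e, k, m, rfl⟩ := (memX h.toSt b by').1 hx
    exact h.XL ((memX h.toSt (h.er 0) (yr h.toSt 0).symm).2 ⟨v, fixd c c0 c1 v e, k, m, rfl⟩)
  · obtain ⟨v, e, k, m, rfl⟩ := (memX h.toSt b by').1 hx
    have k1 := mc.1 ((memX h.toSt (h.er 0) (yr h.toSt 0).symm).2 ⟨v, fixd c c0 c1 v e, k, m, rfl⟩).2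
    simpa using ((show Commute _ _ from mc.1 hx.2).mul_right (show Commute _ _ from k1).inv_right).eq
  · obtain ⟨g, e⟩ := isConj_iff.1 e
    have s1 := (syl0 h.toSt).cj g
    rw [cj_centralizer_singleton, e] at s1
    obtain ⟨g', hg', e1⟩ := s1.conj (sylX h.toSt a ty t2 (fixa c c0 c1) (hp _ ⟨_, dc, a'.ac⟩))
    rw [cj_cj] at e1
    obtain ⟨k, hk, e2⟩ := h.corr (cj_cen h.toSt e1 (zX h.toSt (h.er 0)) fun x => cenX h.toSt a ty t2 (fixa c c0 c1))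
    have := h.nP e2 (mem_sup_right (h.rR 0))
    rw [show g' * g * k * r 0 * (g' * g * k)⁻¹ = g' * (g * (k * r 0 * k⁻¹) * g⁻¹) * g'⁻¹ by group,
      cm_cj.1 (h.le k hk), e, cm_cj.1 (mc.1 hg')] at this
    exact tP this
  · rw [mul_assoc, ← mul_assoc (r 0), ← td, mul_assoc, h.r2, mul_one, t2]
  · simpa using pe_mul h.toFr0 ⟨_, dc, a'.ac⟩ (π' := 1) ⟨⟨sg 0, 0, 0, sg 0⟩, fun i => by
      simpa using congrFun (sg_sq 0) i, ng_eq 0 ▸ (h.er 0).ac⟩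

end SU

end H7.F3.End
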