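import Cfsg.Agent.Lib.F3L.Def8

/-! The extraspecial group `Q₈ ∘ Q₈ ∘ Q₈` on the tensor cube: multiplication, irreducibility, Schur's lemma. -/

set_option autoImplicit false

namespace H7.F3

open Subgroup
open H87.U6 (F3 f3_cases)

namespace Gam

def sn (a : ZMod 2) : F3 := if a = 0 then 1 else -1
def c2 (x y : B2) : ZMod 2 := x.1 * y.1 + x.2 * y.2 + x.2 * y.1
def c6 (x y : W6) : ZMod 2 := c2 x.1 y.1 + c2 x.2.1 y.2.1 + c2 x.2.2 y.2.2
def e0 : V8 := (((1, 0), 0), 0)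
def gens : List W6 := [((1, 0), 0, 0), ((0, 1), 0, 0), (0, (1, 0), 0), (0, (0, 1), 0), (0, 0, (1, 0)), (0, 0, (0, 1))]

theorem sn_add : ∀ a b, sn (a + b) = sn a * sn b := by decide
theorem sn_sq : ∀ a, sn a * sn a = 1 := by decide
theorem sn_inj : ∀ a b, sn a • e0 = sn b • e0 → a = b := by decide

theorem add_smul3 {φ : V8 → V8} (h : ∀ u v, φ (u + v) = φ u + φ v) (c : F3) (v : V8) : φ (c • v) = c • φ v :=
  ZMod.map_smul (AddMonoidHom.mk' φ h) c v

theorem pa_smul (x : W6) (c : F3) (v : V8) : pa x (c • v) = c • pa x v := add_smul3 (pa_add x) c v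
theorem pa_neg (x : W6) (v : V8) : pa x (-v) = -pa x v := add_neg' (pa_add x) v
theorem pa_zero (v : V8) : pa 0 v = v := rfl

theorem z2 : ∀ a : ZMod 2, a = 0 ∨ a = 1 := by decide

section

variable {W : Type} [AddCommGroup W]

theorem mp_pp {f : W → W} (h : ∀ u v, f (u + v) = f u + f v) (y : B2) (v : W × W) : mp f (pp y v) = pp y (mp f v) := by
  unfold pp; split_ifs <;> simp only [mp, pI, pJ, h, add_neg' h, add_sub' h]

variable [Module F3 W]

theorem pp_mul (x y : B2) (v : W × W) : pp x (pp y v) = sn (c2 x y) • pp (x + y) v := by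
  obtain ⟨a, b⟩ := x
  obtain ⟨c, d⟩ := y
  rcases z2 a with rfl | rfl <;> rcases z2 b with rfl | rfl <;> rcases z2 c with rfl | rfl <;>
    rcases z2 d with rfl | rfl <;> ext <;>
    simp +decide only [pp, pI, pJ, sn, c2, Prod.mk_add_mk, if_true, if_false, Prod.smul_fst, Prod.smul_snd] <;>
    match_scalars <;> decide

theorem pp_smul (x : B2) (c : F3) (v : W × W) : pp x (c • v) = c • pp x v := by
  unfold pp; split_ifs <;> ext <;> simp only [pI, pJ, Prod.smul_fst, Prod.smul_snd, smul_add, smul_sub, smul_neg]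

theorem step {f g h : W → W} (ad : ∀ u v, f (u + v) = f u + f v) {c : F3} (e : ∀ w, f (g w) = c • h w) (x y : B2)
    (v : W × W) : pp x (mp f (pp y (mp g v))) = (sn (c2 x y) * c) • pp (x + y) (mp h v) := by
  rw [mp_pp ad, pp_mul, mul_smul, ← pp_smul _ c]
  simp only [mp, e, Prod.smul_mk]

end

theorem pa_def (x : W6) (v : V8) : pa x v = pp x.1 (mp (fun w => pp x.2.1 (mp (pp x.2.2) w)) v) := rfl

theorem pa_mul (x y : W6) (v : V8) : pa x (pa y v) = sn (c6 x y) • pa (x + y) v := by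
  rw [c6, add_assoc, sn_add, sn_add, pa_def, pa_def, pa_def, Prod.fst_add, Prod.snd_add, Prod.fst_add, Prod.snd_add]
  exact step (f := fun w => pp x.2.1 (mp (pp x.2.2) w)) (g := fun w => pp y.2.1 (mp (pp y.2.2) w))
    (h := fun w => pp (x.2.1 + y.2.1) (mp (pp (x.2.2 + y.2.2)) w)) (fun u v => by rw [mp_add (pp_add _), pp_add])
    (step (pp_add _) (pp_mul _ _) _ _) _ _ v

theorem c6_self : ∀ x, c6 x x = q6 x ∧ x + x = 0 := by decide +kernel

theorem pa_pa (x : W6) (v : V8) : pa x (pa x v) = sn (q6 x) • v := by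
  rw [pa_mul, (c6_self x).1, (c6_self x).2, pa_zero]

theorem pa_cm (x y : W6) (v : V8) : pa x (pa y v) = sn (c6 x y + c6 y x) • pa y (pa x v) := by
  rw [pa_mul, pa_mul, smul_smul, sn_add, mul_assoc, sn_sq, mul_one, add_comm]

theorem pa_surj (x : W6) (v : V8) : ∃ u, pa x u = v :=
  ⟨sn (q6 x) • pa x v, by rw [pa_smul, pa_pa, smul_smul, sn_sq, one_smul]⟩

theorem pa_inj (x : W6) : Function.Injective (pa x) := Finite.injective_iff_surjective.2 (pa_surj x)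

theorem pa_e0 : ∀ (x : W6) (a : ZMod 2), pa x e0 = sn a • e0 → x = 0 ∧ a = 0 := by decide +kernel

theorem pa_eq {x y : W6} {a : ZMod 2} (h : ∀ v, pa x v = sn a • pa y v) : x = y ∧ a = 0 := by
  have e := h (pa y e0)
  rw [pa_mul, pa_pa, smul_smul, ← sn_add] at e
  have k := (pa_e0 (x + y) (c6 x y + (a + q6 y)) (by rw [sn_add, mul_smul, ← e, smul_smul, sn_sq, one_smul])).1
  obtain rfl : x = y := by rw [← add_zero x, ← (c6_self y).2, ← add_assoc, k, zero_add]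
  refine ⟨rfl, (pa_e0 0 a (pa_inj x ?_)).2⟩
  rw [pa_zero, pa_smul, ← h]

theorem ext8 {C : Type*} [AddCommGroup C] {k k' : V8 → C} (h : ∀ u v, k (u + v) = k u + k v)
    (h' : ∀ u v, k' (u + v) = k' u + k' v) (e : bas8.Forall fun v => k v = k' v) (v : V8) : k v = k' v :=
  ext_v8 h h' (List.forall_iff_forall_mem.1 e) v

theorem b8_pa' : gens.Forall fun x => bas8.Forall fun u => bas8.Forall fun v => b8 (pa x u) (pa x v) = b8 u v := by
  decide +kernel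

theorem b8_pa {x : W6} (hx : x ∈ gens) (u v : V8) : b8 (pa x u) (pa x v) = b8 u v :=
  ext_v8 (k := fun u => b8 (pa x u) (pa x v)) (k' := fun u => b8 u v) (fun _ _ => by rw [pa_add, sy8.add_l])
    (fun _ _ => sy8.add_l _ _ _) (fun u hu => ext8 (k := fun v => b8 (pa x u) (pa x v)) (k' := fun v => b8 u v)
      (fun _ _ => by rw [pa_add, sy8.add_r]) (fun _ _ => sy8.add_r _ _ _)
      (List.forall_iff_forall_mem.1 (List.forall_iff_forall_mem.1 b8_pa' x hx) u hu) v) u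

theorem sg_iff {f g : V8 → V8} : ((∀ v, f v = g v) ∨ ∀ v, f v = -g v) ↔ ∃ a, ∀ v, f v = sn a • g v := by
  refine ⟨fun h => h.elim (fun h => ⟨0, fun v => by rw [h, sn, if_pos rfl, one_smul]⟩) fun h =>
    ⟨1, fun v => by rw [h, sn, if_neg one_ne_zero, neg_one_smul]⟩, fun ⟨a, h⟩ => ?_⟩
  by_cases e : a = 0
  · exact .inl fun v => by rw [h, sn, if_pos e, one_smul]
  · exact .inr fun v => by rw [h, sn, if_neg e, neg_one_smul]

def n3 (a b : W6) (v : V8) : V8 := pa a v + pa b v + pa a (pa b v)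
def nn (v : V8) : V8 := n3 ((1, 0), 0, 0) ((0, 1), 0, 0) (n3 (0, (1, 0), 0) (0, (0, 1), 0) (n3 (0, 0, (1, 0)) (0, 0, (0, 1)) v))

theorem n3_add (a b : W6) (u v : V8) : n3 a b (u + v) = n3 a b u + n3 a b v := by
  simp only [n3, pa_add]; abel

theorem nn_eq (v : V8) : nn v = v.2.2.2 • e0 :=
  ext8 (k := nn) (k' := fun v => v.2.2.2 • e0) (fun u v => by rw [nn, n3_add, n3_add, n3_add]; rfl)
    (fun u v => by rw [← add_smul]; rfl) (by decide +kernel) v

/-- the extraspecial group acts irreducibly -/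
theorem irr (K : AddSubgroup V8) (hK : ∀ x, ∀ v ∈ K, pa x v ∈ K) {w : V8} (hw : w ∈ K) (w0 : w ≠ 0) : e0 ∈ K := by
  obtain ⟨x, hx⟩ : ∃ x : W6, (pa x w).2.2.2 ≠ 0 := by
    by_contra k
    push Not at k
    refine w0 (Prod.ext (Prod.ext (Prod.ext ?_ ?_) (Prod.ext ?_ ?_)) (Prod.ext (Prod.ext ?_ ?_) (Prod.ext ?_ ?_)))
    exacts [k ((1, 0), (1, 0), (1, 0)), k ((1, 0), (1, 0), 0), k ((1, 0), 0, (1, 0)), k ((1, 0), 0, 0),
      k (0, (1, 0), (1, 0)), k (0, (1, 0), 0), k (0, 0, (1, 0)), k 0]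
  have n : ∀ a b, ∀ v ∈ K, n3 a b v ∈ K := fun a b v hv =>
    add_mem (add_mem (hK _ _ hv) (hK _ _ hv)) (hK _ _ (hK _ _ hv))
  have : nn (pa x w) ∈ K := n _ _ _ (n _ _ _ (n _ _ _ (hK x w hw)))
  rw [nn_eq] at this
  rcases f3_cases (pa x w).2.2.2 with e | e | e
  · exact absurd e hx
  · rwa [e, one_smul] at this
  · rwa [e, show (2 : F3) = -1 from rfl, neg_one_smul, neg_mem_iff] at this

/-- Schur's lemma -/
theorem schur {φ : V8 → V8} (ad : ∀ u v, φ (u + v) = φ u + φ v) (h : ∀ x ∈ gens, ∀ v, φ (pa x v) = pa x (φ v)) :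
    ∃ c : F3, ∀ v, φ v = c • v := by
  simp only [gens, List.forall_mem_cons, List.not_mem_nil, false_imp_iff, implies_true, and_true] at h
  obtain ⟨a1, b1, a2, b2, a3, b3⟩ := h
  have e : φ (nn (0, 0, 0, 1)) = nn (φ (0, 0, 0, 1)) := by simp only [nn, n3, ad, a1, b1, a2, b2, a3, b3]
  rw [nn_eq, nn_eq, one_smul] at e
  generalize (φ (0, 0, 0, 1)).2.2.2 = c at e
  have s : ∀ {x v}, (∀ v, φ (pa x v) = pa x (φ v)) → φ v = c • v → φ (pa x v) = c • pa x v := fun a h => by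
    rw [a, h, pa_smul]
  refine ⟨c, ext_v8 ad (fun u v => smul_add _ _ _) ?_⟩
  simp only [bas8, List.forall_mem_cons, List.not_mem_nil, false_imp_iff, implies_true, and_true]
  exact ⟨e, s a3 e, s a2 e, s a2 (s a3 e), s a1 e, s a1 (s a3 e), s a1 (s a2 e), s a1 (s a2 (s a3 e))⟩

theorem chr (a1 b1 a2 b2 a3 b3 : ZMod 2) : ∃ y : W6, c6 y ((1, 0), 0, 0) + c6 ((1, 0), 0, 0) y = a1 ∧
    c6 y ((0, 1), 0, 0) + c6 ((0, 1), 0, 0) y = b1 ∧ c6 y (0, (1, 0), 0) + c6 (0, (1, 0), 0) y = a2 ∧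
    c6 y (0, (0, 1), 0) + c6 (0, (0, 1), 0) y = b2 ∧ c6 y (0, 0, (1, 0)) + c6 (0, 0, (1, 0)) y = a3 ∧
    c6 y (0, 0, (0, 1)) + c6 (0, 0, (0, 1)) y = b3 := by
  have k : ∀ a b : ZMod 2, c2 (b, a) (1, 0) + c2 (1, 0) (b, a) = a ∧ c2 (b, a) (0, 1) + c2 (0, 1) (b, a) = b ∧
    c2 (b, a) 0 = 0 ∧ c2 0 (b, a) = 0 := by decide
  exact ⟨((b1, a1), (b2, a2), (b3, a3)), by simp only [c6, k, add_zero, zero_add, and_self]⟩

end Gam

open Gam

theorem Nm.sgn3 {φ : V8 → V8} {A : W6 → W6} (h : Nm φ A) (x : W6) : ∃ a, ∀ v, φ (pa x v) = sn a • pa (A x) (φ v) :=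
  sg_iff.1 (h.nm x)

theorem Nm.smul3 {φ : V8 → V8} {A : W6 → W6} (h : Nm φ A) (c : F3) (v : V8) : φ (c • v) = c • φ v := add_smul3 h.add c v
theorem Nm.neg3 {φ : V8 → V8} {A : W6 → W6} (h : Nm φ A) (v : V8) : φ (-v) = -φ v := add_neg' h.add v
theorem Nm.surj3 {φ : V8 → V8} {A : W6 → W6} (h : Nm φ A) (v : V8) : ∃ u, φ u = v :=
  Finite.injective_iff_surjective.1 h.inj v

theorem Nm.mul {φ ψ : V8 → V8} {A B : W6 → W6} (h : Nm φ A) (h' : Nm ψ B) :
    Nm (fun v => φ (ψ v)) fun x => A (B x) where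
  add u v := by rw [h'.add, h.add]
  inj := h.inj.comp h'.inj
  nm x := by
    obtain ⟨a, e⟩ := h'.sgn3 x
    obtain ⟨b, e'⟩ := h.sgn3 (B x)
    exact sg_iff.2 ⟨a + b, fun v => by rw [e, h.smul3, e', smul_smul, sn_add]⟩
  om x := by rw [h'.om, h.om]

theorem nm_pa (x : W6) : Nm (pa x) id :=
  ⟨pa_add x, pa_inj x, fun y => sg_iff.2 ⟨_, pa_cm x y⟩, fun _ => rfl⟩

theorem nm_neg : Nm (fun v => -v) id :=
  ⟨neg_add, neg_injective, fun x => .inl fun v => (pa_neg x v).symm, fun _ => rfl⟩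

/-- Schur's lemma for the extraspecial group -/
theorem Nm.eq_pa {φ : V8 → V8} (h : Nm φ id) : ∃ x, (∀ v, φ v = pa x v) ∨ ∀ v, φ v = -pa x v := by
  choose ε e using h.sgn3
  obtain ⟨y, a1, b1, a2, b2, a3, b3⟩ := chr (ε _) (ε _) (ε _) (ε _) (ε _) (ε _)
  have s : ∀ {x}, c6 y x + c6 x y = ε x → ∀ v, pa y (φ (pa x v)) = pa x (pa y (φ v)) := fun {x} a v => by
    rw [e, pa_smul, id, pa_cm y x, a, smul_smul, sn_sq, one_smul]
  obtain ⟨c, hc⟩ := schur (φ := fun v => pa y (φ v)) (fun u v => by rw [h.add, pa_add]) (by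
    simp only [gens, List.forall_mem_cons, List.not_mem_nil, false_imp_iff, implies_true, and_true]
    exact ⟨s a1, s b1, s a2, s b2, s a3, s b3⟩)
  have k : ∀ v, φ v = (sn (q6 y) * c) • pa y v := fun v => by
    rw [mul_smul, ← pa_smul, ← hc, pa_pa, smul_smul, sn_sq, one_smul]
  refine ⟨y, ?_⟩
  rcases f3_cases (sn (q6 y) * c) with e | e | e <;> rw [e] at k
  · exact absurd (h.inj (a₁ := e0) (a₂ := 0) (by rw [k, k, zero_smul, zero_smul])) (by decide)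
  · exact .inl fun v => by rw [k, one_smul]
  · exact .inr fun v => by rw [k, show (2 : F3) = -1 from rfl, neg_one_smul]

theorem Nm.cancel3 {φ : V8 → V8} {A : W6 → W6} (h : Nm φ A) {x y : W6} {a : ZMod 2}
    (e : ∀ v, pa x (φ v) = sn a • pa y (φ v)) : x = y ∧ a = 0 :=
  pa_eq fun v => by obtain ⟨u, rfl⟩ := h.surj3 v; exact e u

theorem Nm.A_add {φ : V8 → V8} {A : W6 → W6} (h : Nm φ A) (x y : W6) : A (x + y) = A x + A y := by
  obtain ⟨a, ea⟩ := h.sgn3 x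
  obtain ⟨b, eb⟩ := h.sgn3 y
  obtain ⟨c, ec⟩ := h.sgn3 (x + y)
  refine (h.cancel3 (a := c + c6 x y + a + b + c6 (A x) (A y)) fun v => ?_).1
  have := congrArg φ (pa_mul x y v)
  rw [h.smul3, ea, eb, ec, pa_smul, pa_mul] at this
  rw [sn_add, sn_add, sn_add, sn_add, mul_smul, mul_smul, mul_smul, mul_smul, this, smul_smul (sn (c6 x y)), sn_sq,
    one_smul, smul_smul, sn_sq, one_smul]

theorem Nm.A_q6 {φ : V8 → V8} {A : W6 → W6} (h : Nm φ A) (x : W6) : q6 (A x) = q6 x := by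
  obtain ⟨a, ea⟩ := h.sgn3 x
  obtain ⟨u, e⟩ := h.surj3 e0
  have := congrArg φ (pa_pa x u)
  rw [h.smul3, ea, ea, pa_smul, pa_pa, smul_smul, sn_sq, one_smul, e] at this
  exact sn_inj _ _ this

/-- two maps inducing the same `A` differ by an element of the extraspecial group -/
theorem Nm.div3 {φ ψ : V8 → V8} {A : W6 → W6} (h : Nm φ A) (h' : Nm ψ A) :
    ∃ x, (∀ v, φ v = ψ (pa x v)) ∨ ∀ v, φ v = ψ (-pa x v) := by
  choose s hs using h'.surj3
  obtain ⟨x, e⟩ := Nm.eq_pa (φ := fun v => s (φ v)) ⟨fun u v => h'.inj (by rw [h'.add, hs, hs, hs, h.add]),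
    fun u v e => h.inj (by rw [← hs (φ u), ← hs (φ v)]; exact congrArg ψ e), fun x => by
      obtain ⟨a, ea⟩ := h.sgn3 x
      obtain ⟨b, eb⟩ := h'.sgn3 x
      exact sg_iff.2 ⟨a + b, fun v => h'.inj (by
        rw [hs, h'.smul3, id, eb, hs, ea, smul_smul, sn_add, mul_assoc, sn_sq, mul_one])⟩, fun _ => rfl⟩
  exact ⟨x, e.imp (fun e v => by rw [← e, hs]) fun e v => by rw [← e, hs]⟩

end H7.F3
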