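import Cfsg.Agent.Lib.F3L.GamA

/-! The centralizer of `sw` in the normalizer of the extraspecial group: generators and the decomposition. -/

set_option autoImplicit false
set_option synthInstance.maxSize 2000

namespace H7.F3.Gam

open H87.U6 (F3 f3_cases)

def s6 (x : W6) : W6 := (x.2.1, x.1, x.2.2)
def e1 : W6 := ((1, 0), 0, 0)
def e3 : W6 := (0, 0, (1, 0))
def At (c : X3) (x : W6) : W6 := (om2^[(c 0).val] x.1, om2^[(c 1).val] x.2.1, om2^[(c 2).val] x.2.2)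
def lin (a b x : W6) : W6 :=
  x.1.1 • a + x.1.2 • om6 a + (x.2.1.1 • s6 a + x.2.1.2 • om6 (s6 a)) + (x.2.2.1 • b + x.2.2.2 • om6 b)
def oi (v : V8) : V6 :=
  (![v.1.1.1 + v.2.2.1, v.1.1.1 - v.1.2.1 - v.2.1.1 - v.2.2.1, v.1.1.1 + v.1.2.1 + v.2.1.1 - v.2.2.1],
    ![-v.1.1.2 - v.2.2.2, -v.1.1.2 + v.1.2.2 + v.2.1.2 + v.2.2.2, -v.1.1.2 - v.1.2.2 - v.2.1.2 + v.2.2.2])
def bas6 : List V6 := [(Pi.single 0 1, 0), (Pi.single 1 1, 0), (Pi.single 2 1, 0), (0, Pi.single 0 1),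
  (0, Pi.single 1 1), (0, Pi.single 2 1)]
/-- the identity on the `-1` eigenspace of `sw` and `m` on the fixed space -/
def bk (m : Mx) (v : V8) : V8 := sw v - v + io (m.ap (oi v))
/-- the quaternion group -/
def qm (s : ZMod 2) (w : B2) : W4 :=
  sn s • if w.1 = 0 then (if w.2 = 0 then ((1, 0), (0, 1)) else ((1, -1), (-1, -1)))
    else (if w.2 = 0 then ((0, 1), (-1, 0)) else ((-1, -1), (-1, 1)))
def cw (p : B2 × B2) : Fin 3 → B2 := ![p.1, p.2, om2 p.1 + om2 (om2 p.2)]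
def FF (s : Fin 3 → ZMod 2) (p : B2 × B2) : Mx :=
  ⟨fun i => (qm (s i) (cw p i)).1.1, fun i => (qm (s i) (cw p i)).1.2, fun i => (qm (s i) (cw p i)).2.1,
    fun i => (qm (s i) (cw p i)).2.2⟩
def u1 : V8 → V8 := bk (FF 0 ((1, 0), (0, 1)))
def u2 : V8 → V8 := bk (FF 0 ((0, 1), (1, 1)))
def A1 : W6 → W6 := lin ((1, 1), (0, 1), (1, 0)) ((1, 0), (1, 0), (1, 0))
def A2 : W6 → W6 := lin ((1, 1), (0, 1), (0, 1)) ((1, 1), (1, 1), (1, 0))

theorem ext6 {C : Type*} [AddCommGroup C] {k k' : V6 → C} (h : ∀ u v, k (u + v) = k u + k v)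
    (h' : ∀ u v, k' (u + v) = k' u + k' v) (e : bas6.Forall fun v => k v = k' v) (v : V6) : k v = k' v := by
  obtain ⟨e1, e2, e3, e4, e5, e6⟩ := e
  rw [add_v6 h, add_v6 h', e1, e2, e3, e4, e5, e6]

theorem ap_add (m : Mx) (u v : V6) : m.ap (u + v) = m.ap u + m.ap v := by
  simp only [Mx.ap, Prod.fst_add, Prod.snd_add, Prod.mk_add_mk]; congr 1 <;> ring

theorem oi_add (u v : V8) : oi (u + v) = oi u + oi v := by
  ext i <;> fin_cases i <;> simp [oi] <;> ring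

theorem oi_io (v : V6) : oi (io v) = v :=
  ext6 (k := fun v => oi (io v)) (k' := id) (fun u v => by rw [io_add, oi_add]) (fun _ _ => rfl) (by decide +kernel) v

theorem io_inj : Function.Injective io := Function.LeftInverse.injective oi_io

theorem io_oi (v : V8) : v = sw v - v + io (oi v) :=
  ext8 (k := id) (k' := fun v => sw v - v + io (oi v)) (fun _ _ => rfl)
    (fun u v => by rw [oi_add, io_add, sw_add]; abel) (by decide +kernel) v

theorem bk_add (m : Mx) (u v : V8) : bk m (u + v) = bk m u + bk m v := by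
  rw [bk, bk, bk, oi_add, ap_add, io_add, sw_add]; abel

theorem bk_io (m : Mx) (v : V6) : bk m (io v) = io (m.ap v) := by rw [bk, sw_io, sub_self, zero_add, oi_io]

theorem ind6 {P : W6 → Prop} (ad : ∀ x y, P x → P y → P (x + y)) (h : gens.Forall P) (x : W6) : P x := by
  obtain ⟨a1, b1, a2, b2, a3, b3⟩ := h
  have z : P 0 := ad _ _ a1 a1
  have k : ∀ {g}, P g → ∀ a : ZMod 2, P (a • g) := fun {g} h a => by
    rcases z2 a with rfl | rfl
    exacts [by rwa [zero_smul], by rwa [one_smul]]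
  convert ad _ _ (ad _ _ (ad _ _ (k a1 x.1.1) (k b1 x.1.2)) (ad _ _ (k a2 x.2.1.1) (k b2 x.2.1.2)))
    (ad _ _ (k a3 x.2.2.1) (k b3 x.2.2.2)) using 1
  simp

theorem nm_gen {φ : V8 → V8} {A : W6 → W6} (ad : ∀ u v, φ (u + v) = φ u + φ v) (n : ℕ)
    (per : bas8.Forall fun v => φ^[n] (φ v) = v) (aA : ∀ x y, A (x + y) = A x + A y)
    (nm : gens.Forall fun x => ∃ a, bas8.Forall fun v => φ (pa x v) = sn a • pa (A x) (φ v))
    (om : ∀ x, A (om6 x) = om6 (A x)) : Nm φ A := by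
  refine ⟨ad, Function.LeftInverse.injective (g := φ^[n]) (ext8 (k' := id) (fun u v => ?_) (fun _ _ => rfl) per),
    fun x => sg_iff.2 (ind6 (P := fun x => ∃ a, ∀ v, φ (pa x v) = sn a • pa (A x) (φ v)) ?_
      (nm.imp fun x ⟨a, h⟩ => ⟨a, ext8 (fun u v => by rw [pa_add, ad]) (fun u v => by rw [ad, pa_add, smul_add]) h⟩) x),
    om⟩
  · rw [ad]; exact iterate_map_add (AddMonoidHom.mk' φ ad) n _ _
  · rintro x y ⟨a, ea⟩ ⟨b, eb⟩
    refine ⟨c6 x y + (a + (b + c6 (A x) (A y))), fun v => ?_⟩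
    have := congrArg φ (pa_mul x y v)
    rw [add_smul3 ad, ea, eb, pa_smul, pa_mul] at this
    rw [aA, sn_add, sn_add, sn_add, mul_smul, mul_smul, mul_smul, this, smul_smul, sn_sq, one_smul]

theorem lin_add (a b x y : W6) : lin a b (x + y) = lin a b x + lin a b y := by
  simp only [lin, Prod.fst_add, Prod.snd_add, add_smul]; abel

theorem nm_tau' (c : X3) : Nm (tau c) (At c) :=
  have k : ∀ c : F3, ∀ x y : B2, om2^[c.val] (x + y) = om2^[c.val] x + om2^[c.val] y := by decide +kernel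
  have k' : ∀ c : F3, ∀ x : B2, om2^[c.val] (om2 x) = om2 (om2^[c.val] x) := by decide +kernel
  nm_gen (tau_add c) 2 (by revert c; decide +kernel) (fun x y => Prod.ext (k _ _ _) (Prod.ext (k _ _ _) (k _ _ _)))
    (by revert c; decide +kernel) fun x => Prod.ext (k' _ _) (Prod.ext (k' _ _) (k' _ _))

theorem nm_sig' : Nm sig fun x => (x.2.2, x.1, x.2.1) :=
  nm_gen sig_add 2 (by decide +kernel) (fun _ _ => rfl) (by decide +kernel) fun _ => rfl

theorem sw_pa (x : W6) (v : V8) : sw (pa x v) = pa (s6 x) (sw v) :=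
  ext8 (k := fun v => sw (pa x v)) (k' := fun v => pa (s6 x) (sw v)) (fun u v => by rw [pa_add, sw_add])
    (fun u v => by rw [sw_add, pa_add]) (by revert x; decide +kernel) v

theorem nm_sw' : Nm sw s6 := ⟨sw_add, Function.LeftInverse.injective sw_sw, fun x => .inl (sw_pa x), fun _ => rfl⟩

theorem nm_u1 : Nm u1 A1 := nm_gen (bk_add _) 3 (by decide +kernel) (lin_add _ _) (by decide +kernel) (by decide +kernel)
theorem nm_u2 : Nm u2 A2 := nm_gen (bk_add _) 3 (by decide +kernel) (lin_add _ _) (by decide +kernel) (by decide +kernel)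

theorem bk_sw (m : Mx) (v : V8) : bk m (sw v) = -(sw v - v) + io (m.ap (oi v)) := by
  rw [bk, sw_sw, neg_sub, ext8 (k := fun v => oi (sw v)) (k' := oi) (fun u v => by rw [sw_add, oi_add]) oi_add
    (by decide +kernel) v]

theorem sw_bk (m : Mx) (v : V8) : bk m (sw v) = sw (bk m v) := by
  rw [bk_sw, bk, sw_add, sw_io, add_sub' sw_add, sw_sw, neg_sub]

theorem nm_iter {φ : V8 → V8} {A : W6 → W6} (h : Nm φ A) : ∀ n : ℕ, Nm φ^[n] A^[n]
  | 0 => nm_pa 0
  | n + 1 => (nm_iter h n).mul h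

theorem nm_sn (a : ZMod 2) (x : W6) : Nm (fun v => sn a • pa x v) id := by
  rcases z2 a with rfl | rfl
  · simpa [sn] using nm_pa x
  · simp only [sn, one_ne_zero, if_false, neg_one_smul]; exact nm_neg.mul (nm_pa x)

theorem nm_uniq {φ : V8 → V8} {A B : W6 → W6} (h : Nm φ A) (h' : Nm φ B) (x : W6) : A x = B x := by
  obtain ⟨a, ea⟩ := h.sgn3 x
  obtain ⟨b, eb⟩ := h'.sgn3 x
  exact (h.cancel3 (a := a + b) fun v => by rw [sn_add, mul_smul, ← eb, ea, smul_smul, sn_sq, one_smul]).1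

theorem nm_s6 {φ : V8 → V8} {A : W6 → W6} (h : Nm φ A) (c : ∀ v, φ (sw v) = sw (φ v)) (x : W6) :
    A (s6 x) = s6 (A x) := nm_uniq (h.mul nm_sw') (funext c ▸ nm_sw'.mul h) x

/-- two elements centralizing `sw` with the same images of two vectors -/
theorem cs_div {φ ψ : V8 → V8} {A B : W6 → W6} (h : Nm φ A) (h' : Nm ψ B) (c : ∀ v, φ (sw v) = sw (φ v))
    (c' : ∀ v, ψ (sw v) = sw (ψ v)) (a : A e1 = B e1) (b : A e3 = B e3) :
    ∃ y s, s6 y = y ∧ ∀ v, φ v = ψ (sn s • pa y v) := by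
  have o : ∀ {x}, A x = B x → A (om6 x) = B (om6 x) := fun e => by rw [h.om, h'.om, e]
  have a' : A (s6 e1) = B (s6 e1) := by rw [nm_s6 h c, nm_s6 h' c', a]
  obtain rfl : A = B := funext (ind6 (fun x y e f => by rw [h.A_add, h'.A_add, e, f]) ⟨a, o a, a', o a', b, o b⟩)
  obtain ⟨y, s, e⟩ : ∃ y s, ∀ v, φ v = ψ (sn s • pa y v) := by
    obtain ⟨y, e | e⟩ := h.div3 h'
    exacts [⟨y, 0, by simpa [sn] using e⟩, ⟨y, 1, by simpa [sn] using e⟩]
  refine ⟨y, s, (pa_eq (a := s + s) fun v => h'.inj ?_).1, e⟩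
  rw [← sw_sw v, ← sw_pa, c', sn_add, mul_smul, h'.smul3, ← e, c, e, h'.smul3, add_smul3 sw_add, smul_smul, sn_sq,
    one_smul]

theorem words : ∀ a : W6, q6 a = 1 → q6 (a + s6 a) = 0 → q6 (a + om6 (s6 a)) = 0 → ∀ b : W6, s6 b = b → q6 b = 1 →
    q6 (a + b) = 0 → q6 (a + om6 b) = 0 → ∃ (m n : F3) (i : Fin 4) (j : Fin 2),
      a = At ![m, m, n] (A1^[i] (A2^[j] e1)) ∧ b = At ![m, m, n] (A1^[i] (A2^[j] e3)) := by decide +kernel

end H7.F3.Gam
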