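import Cfsg.Agent.Lib.F3L.IniA

/-! The frame of the 3-local configuration inside the centralizer. -/

set_option autoImplicit false

namespace H7.F3.Ini

open Subgroup
open H87.U6 (F3 f3_cases pw_add pw_zero pw_one pw_two pw_neg pw_mul pw_inj mem_zp cj_pw cm_cj)

variable {X : Type*} [Group X]

/-- `x` acts trivially on `K` modulo `Z` -/
def Tr (z x : X) (K : Subgroup X) : Prop := ∀ q ∈ K, x * q * x⁻¹ * q⁻¹ ∈ zpowers z
/-- `x` inverts `K` modulo `Z` -/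
def Iv (z x : X) (K : Subgroup X) : Prop := ∀ q ∈ K, x * q * x⁻¹ * q ∈ zpowers z

structure Hy (z : X) (Q P R : Subgroup X) (K : Fin 3 → Subgroup X) : Prop where
  z3 : z ^ 3 = 1
  z1 : z ≠ 1
  zc : ∀ g, g * z = z * g
  nQ : Q.Normal
  nP : P.Normal
  cQ : ∀ g, (∀ q ∈ Q, g * q = q * g) → g ∈ zpowers z
  cm : ∀ a ∈ Q, Tr z a Q
  card : Nat.card Q = 3 ^ 7
  le : ∀ i, K i ≤ Q
  zK : ∀ i, z ∈ K i
  nab : ∀ i, ∃ a ∈ K i, ∃ b ∈ K i, a * b ≠ b * a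
  cc : ∀ i j, i ≠ j → ∀ a ∈ K i, ∀ b ∈ K j, a * b = b * a
  gen : ∀ S : Subgroup X, (∀ i, K i ≤ S) → Q ≤ S
  nrm : ∀ x ∈ P, ∀ i, ∀ q ∈ K i, x * q * x⁻¹ ∈ K i
  e4 : ∀ x ∈ P, ∀ i, Tr z (x ^ 4) (K i)
  inv : ∀ x ∈ P, ∀ i, Tr z (x ^ 2) (K i) → Tr z x (K i) ∨ Iv z x (K i)
  cen : ∀ i, ∃ x ∈ P, Iv z x (K i) ∧ ∀ j, j ≠ i → Tr z x (K j)
  RP : R ≤ P
  cR : Nat.card R = 128
  QR : ∀ x ∈ P, ∃ ρ ∈ R, ∃ q ∈ Q, x = ρ * q
  max : ∀ N : Subgroup X, N.Normal → (∀ g ∈ N, g ^ 4 ∈ Q) → N ≤ P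

namespace Hy

variable {z : X} {Q P R : Subgroup X} {K : Fin 3 → Subgroup X} (h : Hy z Q P R K)
include h

theorem nZ : (zpowers z).Normal := ⟨fun n hn g => by
  obtain ⟨k, rfl⟩ := (mem_zp h.z3).1 hn
  rw [cjz (h.zc g)]; exact hn⟩

theorem tr_iff {x : X} {S : Subgroup X} : haveI := h.nZ
    Tr z x S ↔ ∀ q ∈ S, (x : X ⧸ zpowers z) * q * (x : X ⧸ zpowers z)⁻¹ = q :=
  forall₂_congr fun q _ => by
    haveI := h.nZ
    rw [← QuotientGroup.eq_one_iff, ← mul_inv_eq_one (b := (q : X ⧸ zpowers z))]; rfl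

theorem iv_iff {x : X} {S : Subgroup X} : haveI := h.nZ
    Iv z x S ↔ ∀ q ∈ S, (x : X ⧸ zpowers z) * q * (x : X ⧸ zpowers z)⁻¹ = (q : X ⧸ zpowers z)⁻¹ :=
  forall₂_congr fun q _ => by
    haveI := h.nZ
    rw [← QuotientGroup.eq_one_iff, ← mul_eq_one_iff_eq_inv]; rfl

theorem trQ {x : X} (e : ∀ i, Tr z x (K i)) : Tr z x Q := by
  haveI := h.nZ
  refine h.tr_iff.2 fun q hq => cm_cj.1 (mem_centralizer_singleton_iff.1
    (h.gen ((centralizer {(x : X ⧸ zpowers z)}).comap (QuotientGroup.mk' _)) (fun i q hq => ?_) hq)).symm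
  exact mem_centralizer_singleton_iff.2 (cm_cj.2 (h.tr_iff.1 (e i) q hq)).symm

theorem triv {ρ : X} (hρ : ρ ∈ R) (e : ∀ i, Tr z ρ (K i)) : ρ = 1 := by
  obtain ⟨k, e3⟩ := (mem_zp h.z3).1 (h.cQ _ fun q hq => cube h.z3 h.zc (h.trQ e q hq))
  have h1 : ρ ^ 128 = 1 := by
    have := pow_card_eq_one' (x := (⟨ρ, hρ⟩ : R))
    rw [h.cR] at this
    exact congrArg Subtype.val this
  have h2 : ρ ^ 9 = 1 := by
    rw [show 9 = 3 * 3 from rfl, pow_mul, e3, ← pow_mul, mul_comm, pow_mul, h.z3, one_pow]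
  simpa using pow_gcd_eq_one.2 ⟨h1, h2⟩

/-- `r` acts on every factor as a scalar -/
theorem comm_r {ρ r : X} (hρ : ρ ∈ R) (hr : r ∈ R) (e : ∀ i, Tr z r (K i) ∨ Iv z r (K i)) : ρ * r = r * ρ := by
  haveI := h.nZ
  rw [← mul_inv_eq_one, mul_inv_rev, ← mul_assoc]
  refine h.triv (mul_mem (mul_mem (mul_mem hρ hr) (inv_mem hρ)) (inv_mem hr)) fun i => h.tr_iff.2 fun q hq => ?_
  have n := fun x hx => h.nrm x (h.RP hx) i
  have m := n _ (inv_mem hρ) _ (n _ (inv_mem hr) q hq)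
  simp only [QuotientGroup.mk_mul, QuotientGroup.mk_inv]
  rcases e i with e | e
  · have a := h.tr_iff.1 e _ m
    have b := h.tr_iff.1 e _ (n _ (inv_mem hr) q hq)
    simp only [QuotientGroup.mk_mul, QuotientGroup.mk_inv, inv_inv] at a b
    calc _ = (ρ : X ⧸ zpowers z) * (r * ((ρ : X ⧸ zpowers z)⁻¹ * ((r : X ⧸ zpowers z)⁻¹ * q * r) * ρ) *
          (r : X ⧸ zpowers z)⁻¹) * (ρ : X ⧸ zpowers z)⁻¹ := by group
      _ = _ := by rw [a, ← b]; group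
  · have a := h.iv_iff.1 e _ m
    have b := h.iv_iff.1 e _ (n _ (inv_mem hr) q hq)
    simp only [QuotientGroup.mk_mul, QuotientGroup.mk_inv, inv_inv] at a b
    calc _ = (ρ : X ⧸ zpowers z) * (r * ((ρ : X ⧸ zpowers z)⁻¹ * ((r : X ⧸ zpowers z)⁻¹ * q * r) * ρ) *
          (r : X ⧸ zpowers z)⁻¹) * (ρ : X ⧸ zpowers z)⁻¹ := by group
      _ = ((r : X ⧸ zpowers z)⁻¹ * q * r)⁻¹ := by rw [a]; group
      _ = _ := by rw [← b]; group

theorem exists_r (i : Fin 3) : ∃ r ∈ R, r * r = 1 ∧ Iv z r (K i) ∧ ∀ j, j ≠ i → Tr z r (K j) := by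
  haveI := h.nZ
  obtain ⟨x, hx, a, b⟩ := h.cen i
  obtain ⟨r, hr, q, hq, rfl⟩ := h.QR x hx
  have k : ∀ j, ∀ y ∈ K j, ((r * q : X) : X ⧸ zpowers z) * y * ((r * q : X) : X ⧸ zpowers z)⁻¹ =
      r * y * (r : X ⧸ zpowers z)⁻¹ := fun j y hy => by
    conv_rhs => rw [← h.tr_iff.1 (h.cm q hq) y (h.le j hy)]
    simp only [QuotientGroup.mk_mul]; group
  have a' : Iv z r (K i) := h.iv_iff.2 fun y hy => (k i y hy).symm.trans (h.iv_iff.1 a y hy)
  have b' : ∀ j, j ≠ i → Tr z r (K j) := fun j hj => h.tr_iff.2 fun y hy =>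
    (k j y hy).symm.trans (h.tr_iff.1 (b j hj) y hy)
  refine ⟨r, hr, h.triv (mul_mem hr hr) fun j => h.tr_iff.2 fun y hy => ?_, a', b'⟩
  have : ((r * r : X) : X ⧸ zpowers z) * y * ((r * r : X) : X ⧸ zpowers z)⁻¹ =
      r * (r * y * (r : X ⧸ zpowers z)⁻¹) * (r : X ⧸ zpowers z)⁻¹ := by simp only [QuotientGroup.mk_mul]; group
  rw [this]
  by_cases hj : j = i
  · subst hj
    rw [h.iv_iff.1 a' y hy, ← QuotientGroup.mk_inv, h.iv_iff.1 a' _ (inv_mem hy), QuotientGroup.mk_inv, inv_inv]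
  · rw [h.tr_iff.1 (b' j hj) y hy, h.tr_iff.1 (b' j hj) y hy]

theorem exists_ab {r : X} {i : Fin 3} (e : Iv z r (K i)) : ∃ a ∈ K i, ∃ b ∈ K i, a ^ 3 = 1 ∧ b ^ 3 = 1 ∧
    r * a * r⁻¹ = a⁻¹ ∧ r * b * r⁻¹ = b⁻¹ ∧ b * a = a * b * z := by
  have c3 : ∀ a ∈ K i, r * a * r⁻¹ = a⁻¹ → a ^ 3 = 1 := fun a ha ra => by
    obtain ⟨k, e3⟩ := (mem_zp h.z3).1 (h.cQ _ fun q hq => cube h.z3 h.zc (h.cm a (h.le i ha) q hq))
    have := cj_pw ra 3
    rw [inv_pow, e3, cjz (h.zc r), eq_inv_iff_mul_eq_one, ← pw_add h.z3] at this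
    rw [e3, (by decide : ∀ k : F3, k + k = 0 → k = 0) k (pw_inj h.z3 h.z1 this), pw_zero]
  obtain ⟨a, ha, b, hb, n⟩ := h.nab i
  obtain ⟨k, ra⟩ := inv_adj h.z3 h.zc (e a ha)
  obtain ⟨m, rb⟩ := inv_adj h.z3 h.zc (e b hb)
  have ha' := mul_mem ha (pow_mem (h.zK i) k)
  have hb' := mul_mem hb (pow_mem (h.zK i) m)
  have n' : a * z ^ k * (b * z ^ m) ≠ b * z ^ m * (a * z ^ k) := fun e => n <| by
    have f : ∀ (x y : X) (k m : ℕ), x * z ^ k * (y * z ^ m) = x * y * z ^ (k + m) := fun x y k m => by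
      rw [pow_add, mul_assoc x, ← mul_assoc (z ^ k), ← cz (h.zc y)]; simp only [mul_assoc]
    rw [f, f, add_comm m] at e
    exact mul_right_cancel e
  generalize a * z ^ k = a at *
  generalize b * z ^ m = b at *
  obtain ⟨c, ec⟩ := (mem_zp h.z3).1 (h.cm b (h.le i hb') a (h.le i ha'))
  have ec' : b * a = a * b * z ^ c.val := by rw [cz (h.zc _), ← ec]; group
  rcases f3_cases c with rfl | rfl | rfl
  · exact absurd (by rw [ec', pw_zero, mul_one]) n'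
  · exact ⟨a, ha', b, hb', c3 a ha' ra, c3 b hb' rb, ra, rb, by rw [ec', pw_one]⟩
  · exact ⟨b, hb', a, ha', c3 b hb' rb, c3 a ha' ra, rb, ra, by rw [ec', pw_two h.z3]; simp⟩

theorem exists_a0 : ∃ l : V6 → X, ∃ r : Fin 3 → X, A0 b6 z l (r 0 * r 1 * r 2) ∧ Qs z l = Q ∧
    ∀ i, r i ∈ R ∧ r i * r i = 1 ∧ (∀ j, Tr z (r i) (K j) ∨ Iv z (r i) (K j)) ∧
      (∀ v, r i * l v * (r i)⁻¹ = l (ng i v)) ∧ ∀ v, ng i v = -v → l v ∈ K i := by
  choose r rR r2 ri rt using h.exists_r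
  choose a ha b hb a3 b3 ra rb ab using fun i => h.exists_ab (ri i)
  have sc : ∀ i j, Tr z (r i) (K j) ∨ Iv z (r i) (K j) := fun i j =>
    if e : j = i then Or.inr (e ▸ ri i) else Or.inl (rt i j e)
  have rc : ∀ i j, r i * r j = r j * r i := fun i j => h.comm_r (rR i) (rR j) (sc j)
  let m : Fin 3 → V6 → X := fun i v => hm z (a i) (b i) (v.1 i) (v.2 i)
  have mK : ∀ i v, m i v ∈ K i := fun i v =>
    mul_mem (mul_mem (pow_mem (ha i) _) (pow_mem (hb i) _)) (pow_mem (h.zK i) _)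
  have m0 : ∀ i v, v.1 i = 0 → v.2 i = 0 → m i v = 1 := fun i v e1 e2 => by simp [m, hm, e1, e2]
  let l : V6 → X := fun v => m 0 v * m 1 v * m 2 v
  have lQ' : ∀ v, l v ∈ Q := fun v => mul_mem (mul_mem (h.le _ (mK _ _)) (h.le _ (mK _ _))) (h.le _ (mK _ _))
  have rm : ∀ i j v, r i * m j v * (r i)⁻¹ = m j (ng i v) := fun i j v => by
    by_cases e : j = i
    · subst e
      simpa [m, ng, sg] using hm_inv h.zc (a3 j) (b3 j) (ra j) (rb j) (v.1 j) (v.2 j)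
    · rw [cm_cj.1 (inv_fix h.z3 h.zc (r2 i) (rt i j e _ (mK j v)))]
      simp [m, ng, sg, e]
  have rl : ∀ i v, r i * l v * (r i)⁻¹ = l (ng i v) := fun i v => by
    simp only [l, ← rm]; group
  have lm : ∀ u v, l u * l v = l (u + v) * z ^ (b6 u v).val := fun u v => by
    have e : ∀ i, m i u * m i v = m i (u + v) * z ^ (u.1 i * v.2 i - u.2 i * v.1 i).val := fun i =>
      hm_mul h.z3 h.zc (a3 i) (b3 i) (ab i) _ _ _ _
    calc l u * l v = m 0 u * (m 1 u * (m 2 u * m 0 v)) * m 1 v * m 2 v := by simp only [l, mul_assoc]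
      _ = m 0 u * m 0 v * (m 1 u * (m 2 u * m 1 v) * m 2 v) := by
        rw [h.cc 2 0 (by decide) _ (mK _ _) _ (mK _ _), ← mul_assoc (m 1 u),
          h.cc 1 0 (by decide) _ (mK _ _) _ (mK _ _)]
        simp only [mul_assoc]
      _ = m 0 u * m 0 v * (m 1 u * m 1 v * (m 2 u * m 2 v)) := by
        rw [h.cc 2 1 (by decide) _ (mK _ _) _ (mK _ _)]; simp only [mul_assoc]
      _ = _ := by
        rw [e, e, e, b6_eq, pw_add h.z3, pw_add h.z3]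
        simp only [l, mul_assoc]
        rw [← mul_assoc (z ^ _) (m 1 _), ← cz (h.zc _), ← mul_assoc (z ^ _) (m 2 _), ← cz (h.zc _)]
        simp only [mul_assoc]
        rw [← mul_assoc (z ^ _) (m 2 _), ← cz (h.zc _)]
        simp only [mul_assoc]
  have li : ∀ v, l v ∈ zpowers z → v = 0 := fun v hv => sy6.nd v fun u => by
    obtain ⟨k, e⟩ := (mem_zp h.z3).1 hv
    have e1 : l v * l u = l u * l v := by rw [e, cz (h.zc _)]
    rw [lm, lm, add_comm, mul_right_inj, sy6.skew u] at e1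
    exact (by decide : ∀ k : F3, k = -k → k = 0) _ (H87.U6.IB.pw_eq h.z3 h.z1 e1)
  have l0 : l 0 = 1 := by simp [l, m0]
  have sur : ∀ q ∈ Q, ∃ w, ∃ k : F3, q = l w * z ^ k.val := fun q hq => by
    haveI : Finite Q := Nat.finite_of_card_ne_zero (by rw [h.card]; norm_num)
    let f : V6 × F3 → Q := fun x => ⟨l x.1 * z ^ x.2.val, mul_mem (lQ' _) (pow_mem (h.le 0 (h.zK 0)) _)⟩
    have inj : Function.Injective f := by
      rintro ⟨u, k⟩ ⟨v, n⟩ e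
      have e : l u * z ^ k.val = l v * z ^ n.val := congrArg Subtype.val e
      obtain rfl : u = v := by
        have e1 : l (-v) * l u * z ^ k.val = l (-v) * l v * z ^ n.val := by rw [mul_assoc, e, mul_assoc (l (-v))]
        rw [lm, lm, neg_add_cancel, l0, one_mul, mul_assoc, ← eq_mul_inv_iff_mul_eq] at e1
        have p := fun n : ℕ => pow_mem (mem_zpowers z) n
        exact (neg_add_eq_zero.1 (li _ (e1 ▸ mul_mem (mul_mem (p _) (p _)) (inv_mem (mul_mem (p _) (p _)))))).symm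
      rw [H87.U6.IB.pw_eq h.z3 h.z1 (mul_left_cancel e)]
    obtain ⟨x, e⟩ := (inj.bijective_of_nat_card_le (by rw [h.card, Nat.card_prod, card_V6]; simp)).2 ⟨q, hq⟩
    exact ⟨x.1, x.2, (congrArg Subtype.val e).symm⟩
  refine ⟨l, r, ⟨sy6, h.z3, h.z1, fun v => h.zc _, lm, li, fun g _ v => sur _ (h.nQ.1 _ (lQ' v) g),
    fun g _ e => h.cQ g fun q hq => ?_, ?_, h.zc _, fun v => ?_⟩, le_antisymm ((closure_le _).2 ?_) fun q hq => ?_,
    fun i => ⟨rR i, r2 i, sc i, rl i, fun v e => ?_⟩⟩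
  · obtain ⟨w, k, rfl⟩ := sur q hq
    rw [← mul_assoc, e, mul_assoc, cz (h.zc g), mul_assoc (l w)]
  · calc _ = r 0 * (r 1 * (r 2 * r 0)) * r 1 * r 2 := by simp only [mul_assoc]
      _ = r 0 * r 0 * (r 1 * (r 2 * r 1) * r 2) := by
        rw [rc 2 0, ← mul_assoc (r 1), rc 1 0]; simp only [mul_assoc]
      _ = 1 := by rw [rc 2 1, ← mul_assoc (r 1), r2, r2, one_mul, one_mul, r2]
  · calc _ = r 0 * (r 1 * (r 2 * l v * (r 2)⁻¹) * (r 1)⁻¹) * (r 0)⁻¹ := by group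
      _ = _ := by
        rw [rl, rl, rl]
        congr 1
        ext i <;> fin_cases i <;> simp [ng, sg]
  · rintro _ (rfl | ⟨v, rfl⟩)
    exacts [h.le 0 (h.zK 0), lQ' v]
  · obtain ⟨w, k, rfl⟩ := sur q hq
    exact qQ w k
  · have : ∀ j, m j v ∈ K i := fun j => if ej : j = i then ej ▸ mK j v else by
      have e1 := congrFun (congrArg Prod.fst e) j
      have e2 := congrFun (congrArg Prod.snd e) j
      simp only [ng, sg, Pi.mul_apply, if_neg ej, one_mul, Prod.fst_neg, Prod.snd_neg, Pi.neg_apply] at e1 e2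
      have d := (by decide : ∀ k : F3, k = -k → k = 0)
      rw [m0 j v (d _ e1) (d _ e2)]
      exact one_mem _
    exact mul_mem (mul_mem (this 0) (this 1)) (this 2)

theorem exists_fr0 : ∃ l r, Fr0 z l r R ∧ Qs z l = Q := by
  obtain ⟨l, r, A, eQ, hr⟩ := h.exists_a0
  have rc : ∀ ρ ∈ R, ∀ j, ρ * r j = r j * ρ := fun ρ hρ j => h.comm_r hρ (hr j).1 (hr j).2.2.1
  have rt : ∀ ρ ∈ R, ρ * (r 0 * r 1 * r 2) = r 0 * r 1 * r 2 * ρ := fun ρ hρ =>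
    ((Commute.mul_right (rc ρ hρ 0) (rc ρ hρ 1)).mul_right (rc ρ hρ 2)).eq
  have er : ∀ i, Ex z l (r 0 * r 1 * r 2) (r i) (ng i) := fun i => ⟨h.zc _, rt _ (hr i).1, (hr i).2.2.2.1⟩
  have mon : ∀ g, ∃ π, ∃ m : Mx, m.det1 ∧ Ac z l g fun v => m.ap (pm π v) := fun g => by
    obtain ⟨φ, a⟩ := A.exists_ac (h.zc g)
    have key : ∀ i, ∃ ε : X3, ∀ v, φ (ng i v) = (ε * (φ v).1, ε * (φ v).2) := fun i => by
      obtain ⟨ψ, b⟩ := A.exists_ac (h.zc (g * r i * g⁻¹))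
      have e : ∀ v, ψ (φ v) = φ (ng i v) :=
        A.ac_uniq (by simpa using A.ac_mul b a) (A.ac_mul a (er i).ac)
      have s : ∀ j, ∃ c : F3, ∀ v, ng j v = -v → ψ v = c • v := fun j => by
        rcases h.inv _ (h.nP.1 _ (h.RP (hr i).1) g) j (by
          rw [conj_pow, pow_two, (hr i).2.1]; intro q _; simp) with c | c
        · refine ⟨1, fun v hv => ?_⟩
          obtain ⟨k, e⟩ := b.2 v
          have := c _ ((hr j).2.2.2.2 v hv)
          rw [e, ← q0 z l v, A.qinv, A.qmul] at this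
          rw [one_smul, ← sub_eq_zero, sub_eq_add_neg, A.q_zp this]
        · refine ⟨-1, fun v hv => ?_⟩
          obtain ⟨k, e⟩ := b.2 v
          have := c _ ((hr j).2.2.2.2 v hv)
          rw [e, ← q0 z l v, A.qmul] at this
          rw [neg_one_smul, eq_neg_iff_add_eq_zero, A.q_zp this]
      choose ε hε using s
      exact ⟨ε, fun v => by rw [← e, diag (A.ac_add b) hε]⟩
    choose ε hε using key
    obtain ⟨π, hπ⟩ := perm hε (add_neg' (A.ac_add a)) fun v e => A.ac_inj a (e.trans (add_zero' (A.ac_add a)).symm)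
    obtain ⟨m, d, e⟩ := mono (A.ac_add a) (A.ac_be a) π hπ
    exact ⟨π, m, d, a.congr e⟩
  refine ⟨l, r, ⟨A, fun i => (hr i).2.1, fun i => (hr i).1, er, fun g _ => mon g, h.cR, fun ρ hρ => ?_,
    fun g m d q a => ?_⟩, eQ⟩
  · obtain ⟨φ, a⟩ := A.exists_ac (h.zc ρ)
    obtain ⟨m, d, e⟩ := mono (A.ac_add a) (A.ac_be a) 1 fun i j ij v hv => by
      have e := A.ac_uniq (rc ρ hρ j ▸ A.ac_mul a (er j).ac) (A.ac_mul (er j).ac a) v
      rw [ng_fix (j := j) hv (Ne.symm ij)] at e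
      have d := (by decide : ∀ k : F3, k = -1 * k → k = 0)
      exact ⟨d _ (by simpa [ng, sg] using congrFun (congrArg Prod.fst e) j),
        d _ (by simpa [ng, sg] using congrFun (congrArg Prod.snd e) j)⟩
    have b : Ac z l ρ m.ap := a.congr e
    exact ⟨m, d, q8_four d (A.ac_uniq (A.ac_pow b 4) (h.triv (pow_mem hρ 4) (h.e4 ρ (h.RP hρ)) ▸ A.ac_one)),
      A.ex_of_ac b (rt ρ hρ)⟩
  · let N : Subgroup X :=
      { carrier := {g | ∃ m : Mx, m.det1 ∧ m.q8 ∧ Ac z l g m.ap}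
        one_mem' := ⟨⟨1, 0, 0, 1⟩, fun i => by simp, fun i => by simp, A.ac_one.congr fun v => by simp [Mx.ap]⟩
        mul_mem' := by
          rintro _ _ ⟨m, d, q, a⟩ ⟨n, d', q', b⟩
          exact ⟨_, d.mul d', q.mul q' d d', (A.ac_mul a b).congr fun v => (Mx.ap_mul m n v).symm⟩
        inv_mem' := by
          rintro _ ⟨m, d, q, a⟩
          exact ⟨_, d.adj, q.adj, A.ac_inv a d.ap_adj⟩ }
    have nN : N.Normal := ⟨fun x ⟨n, d', q, b⟩ g => by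
      obtain ⟨π, m, d, a⟩ := mon g
      refine ⟨_, (d.mul (d'.pr π)).mul d.adj, (q.pr π).conj d (d'.pr π),
        (A.ac_mul (A.ac_mul a b) (A.ac_inv (φ' := fun v => pm π⁻¹ (m.adj.ap v)) a fun v => ?_)).congr fun v => ?_⟩
      · rw [pm_pm, inv_mul_cancel, pm_one, d.ap_adj]
      · rw [Mx.pm_ap, pm_pm, inv_mul_cancel, pm_one, Mx.ap_mul, Mx.ap_mul]⟩
    obtain ⟨ρ, hρ, n, hn, rfl⟩ := h.QR g (h.max N nN (fun x ⟨n, d', q, b⟩ =>
      eQ ▸ A.memQ_of_ac ((A.ac_pow b 4).congr (q.four d'))) ⟨m, d, q, a⟩)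
    have b := A.ac_mul a (A.ac_Q (inv_mem (eQ ▸ hn)))
    rw [mul_inv_cancel_right] at b
    exact ⟨ρ, hρ, b⟩

end Hy

end H7.F3.Ini
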