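import Cfsg.Agent.Lib.F3L.EndA

/-! Construction of frames from the action on the three planes. -/

set_option autoImplicit false
set_option linter.unusedSectionVars false

namespace H7.F3.K8

open Subgroup H87.Mc Cfsg
open H87.U6 (F3 f3_cases pw_add pw_zero pw_one pw_two pw_neg pw_mul pw_inj mem_zp cj_pw cm_cj)

variable {G : Type*} [Group G]

/-- a central extension of a group of exponent four by a group of order three splits -/
theorem four_mul [Finite G] {E : Subgroup G} {z : G} (z3 : z ^ 3 = 1) (c : ∀ x ∈ E, x * z = z * x)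
    (h4 : ∀ x ∈ E, x ^ 4 ∈ zpowers z) {x y : G} (hx : x ∈ E) (hy : y ∈ E) (x4 : x ^ 4 = 1) (y4 : y ^ 4 = 1) :
    (x * y) ^ 4 = 1 := by
  have p : IsPGroup 2 (E ⧸ center E) := fun q => by
    obtain ⟨g, rfl⟩ := QuotientGroup.mk_surjective q
    refine ⟨2, ?_⟩
    rw [← QuotientGroup.mk_pow, QuotientGroup.eq_one_iff, mem_center_iff]
    intro g'
    obtain ⟨k, e⟩ := h4 g g.2
    exact Subtype.ext (show (g' : G) * (g : G) ^ 4 = (g : G) ^ 4 * g' from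
      e ▸ ((show Commute (g' : G) z from c _ g'.2).zpow_right k).eq)
  obtain ⟨j, hj⟩ := p.exists_card_eq
  have e : MonoidHom.transferCenterPow E ((⟨x, hx⟩ * ⟨y, hy⟩) ^ 4) = 1 := by
    rw [map_pow, map_mul, Commute.mul_pow (Subtype.ext ((mem_center_iff.1 (Subtype.prop _)) _)), ← map_pow, ← map_pow, show (⟨x, hx⟩ : E) ^ 4 = 1 from Subtype.ext x4,
      show (⟨y, hy⟩ : E) ^ 4 = 1 from Subtype.ext y4, map_one, mul_one]
  have e2 := congrArg (fun u : center E => ((u : E) : G)) e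
  simp only [MonoidHom.transferCenterPow_apply, index_eq_card, hj] at e2
  have e3 : ((x * y) ^ 4) ^ 3 = 1 := by
    obtain ⟨k, e⟩ := (mem_zp z3).1 (h4 _ (mul_mem hx hy))
    rw [e, ← pow_mul, mul_comm, pow_mul, z3, one_pow]
  exact (pow_eq_one_iff_of_coprime ((Nat.coprime_primes Nat.prime_two Nat.prime_three).2 (by decide)
    |>.pow_left j)).1 ⟨e2, e3⟩

variable {z t : G} {l : V6 → G} {r : Fin 3 → G} {R : Subgroup G}

theorem ng3 (v : V6) : ng 0 (ng 1 (ng 2 v)) = -v := by ext i <;> fin_cases i <;> simp [ng, sg]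
theorem ng_comm (i j : Fin 3) (v : V6) : ng i (ng j v) = ng j (ng i v) := by simp only [ng]; congr 1 <;> ring

theorem prod_eq (h : A0 b6 z l t) (r2 : ∀ i, r i * r i = 1) (er : ∀ i, Ex z l t (r i) (ng i)) :
    r 0 * r 1 * r 2 = t := by
  have r4 : ∀ i, r i ^ 4 = 1 := fun i => by rw [show 4 = 2 * 2 from rfl, pow_mul, pow_two (r i), r2, one_pow]
  have c : ∀ i j, Commute (r i) (r j) := fun i j => cm_cj.2 (h.ex_eq4 (((er i).mul (er j)).mul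
    ((er i).inv (ng_ng i))) (er j) (fun v => by rw [ng_comm, ng_ng]) (by rw [conj_pow, r4]; simp) (r4 j))
  refine h.ex_eq4 (((er 0).mul (er 1)).mul (er 2)) h.ex_t ng3 ?_ ?_
  · rw [((c 0 2).mul_left (c 1 2)).mul_pow, (c 0 1).mul_pow, r4, r4, r4, mul_one, mul_one]
  · rw [show 4 = 2 * 2 from rfl, pow_mul, pow_two t, h.t2, one_pow]

theorem exists_fr0 [Finite G] (h : A0 b6 z l t) (r2 : ∀ i, r i * r i = 1) (er : ∀ i, Ex z l t (r i) (ng i))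
    (mon : ∀ g, g * z = z * g → ∃ π, ∃ m : Mx, m.det1 ∧ Ac z l g fun v => m.ap (pm π v))
    (cd : Nat.card {m : Mx | m.det1 ∧ m.q8 ∧ ∃ g, Ac z l g m.ap} = 128) : ∃ R, Fr0 z l r R := by
  obtain rfl := prod_eq h r2 er
  let E : Subgroup G :=
    { carrier := {g | ∃ m : Mx, m.det1 ∧ m.q8 ∧ Ex z l (r 0 * r 1 * r 2) g m.ap}
      one_mem' := ⟨⟨1, 0, 0, 1⟩, fun i => by simp, fun i => by simp, Ex.one.congr fun v => (End.one_ap v).symm⟩
      mul_mem' := fun ⟨m, d, q, a⟩ ⟨n, d', q', b⟩ =>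
        ⟨m.mul n, d.mul d', q.mul q' d d', (a.mul b).congr fun v => (Mx.ap_mul ..).symm⟩
      inv_mem' := fun ⟨m, d, q, a⟩ => ⟨m.adj, d.adj, q.adj, a.inv d.ap_adj⟩ }
  have h4 : ∀ x ∈ E, x ^ 4 ∈ zpowers z := fun x ⟨m, d, q, a⟩ => by
    obtain ⟨k, e⟩ := h.ex_eq Ex.one (a.pow 4) fun v => (q.four d v).symm
    rw [e, one_mul]
    exact pow_mem (mem_zpowers z) _
  let R : Subgroup G :=
    { carrier := {g | g ∈ E ∧ g ^ 4 = 1}
      one_mem' := ⟨one_mem E, one_pow 4⟩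
      mul_mem' := fun a b => ⟨mul_mem a.1 b.1, four_mul (E := E) h.z3 (fun x ⟨_, _, _, a⟩ => a.cz) h4 a.1 b.1 a.2 b.2⟩
      inv_mem' := fun a => ⟨inv_mem a.1, by rw [inv_pow, a.2, inv_one]⟩ }
  have mx : ∀ g (m : Mx), m.det1 → m.q8 → Ac z l g m.ap → ∃ ρ ∈ R, Ex z l (r 0 * r 1 * r 2) ρ m.ap :=
    fun g m d q a => by
    obtain ⟨n, -, b⟩ := h.exists_ex a
    have hE : n * g ∈ E := ⟨m, d, q, b⟩
    obtain ⟨k, e⟩ := (mem_zp h.z3).1 (h4 _ hE)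
    refine ⟨(n * g) ^ 9, ⟨pow_mem hE 9, ?_⟩, (b.pow 9).congr fun v => ?_⟩
    · rw [← pow_mul, mul_comm 9, pow_mul, e, ← pow_mul, show k.val * 9 = 3 * (k.val * 3) by ring, pow_mul, h.z3,
        one_pow]
    · exact (q.four d _).trans (q.four d _)
  refine ⟨R, h, r2, fun i => ⟨⟨⟨sg i, 0, 0, sg i⟩, fun j => by simpa using congrFun (sg_sq i) j, fun j => by simp,
    ng_eq i ▸ er i⟩, by rw [show 4 = 2 * 2 from rfl, pow_mul, pow_two (r i), r2, one_pow]⟩, er, mon, ?_,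
    fun ρ hρ => hρ.1, fun g m d q a => (mx g m d q a).imp fun _ b => ⟨b.1, b.2.ac⟩⟩
  choose M hd hq hM using fun ρ : R => ρ.2.1
  rw [← cd]
  refine Nat.card_eq_of_bijective (fun ρ => ⟨M ρ, hd ρ, hq ρ, ρ, (hM ρ).ac⟩) ⟨fun ρ ρ' e => ?_, ?_⟩
  · exact Subtype.ext (h.ex_eq4 (hM ρ) (hM ρ') (fun v => by rw [Subtype.mk.inj e]) ρ.2.2 ρ'.2.2)
  · rintro ⟨m, d, q, g, a⟩
    obtain ⟨ρ, hρ, b⟩ := mx g m d q a
    exact ⟨⟨ρ, hρ⟩, Subtype.ext (Mx.eq_of_ap (h.ac_uniq (hM ⟨ρ, hρ⟩).ac b.ac))⟩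

theorem o3 (h : Fr0 z l r R) {i j : G} (hi : Ac z l i (Mx.ap ⟨0, 1, -1, 0⟩)) (hj : Ac z l j (Mx.ap ⟨1, -1, -1, -1⟩)) :
    O3 z l := fun N p c n x hx => by
  have p' : ∀ x ∈ N, ∃ k, x ^ 3 ^ k = 1 := fun x hx => (p ⟨x, hx⟩).imp fun _ e => congrArg Subtype.val e
  obtain ⟨π, m, d, a⟩ := h.mon x (c x hx)
  have cm : ∀ {ρ : G} {n : Mx}, n.det1 → n.q8 → Ac z l ρ n.ap → ∀ v, m.ap (pm π (n.ap v)) = n.ap (m.ap (pm π v)) :=
    fun {ρ m'} d' q' b => by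
    have hρ := h.memP.2 ⟨m', d', q', b⟩
    have h1 : x * ρ * x⁻¹ * ρ⁻¹ ∈ N := by
      simpa only [mul_assoc] using mul_mem hx (n ρ b.1 _ (inv_mem hx))
    obtain ⟨k, e⟩ := p' _ h1
    have := h.ac_mul (h.ac_Q (End.P3 h (mul_mem (h.nP (c x hx) hρ) (inv_mem hρ)) e)) (h.ac_mul b a)
    rw [show x * ρ * x⁻¹ * ρ⁻¹ * (ρ * x) = x * ρ by group] at this
    have k := h.ac_mul a b
    exact h.ac_uniq k this
  obtain rfl : π = 1 := Equiv.ext fun k => End.pe_fix h (g := x) d fun v => by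
    rw [ng_eq]
    exact cm (fun j => by simpa using congrFun (sg_sq k) j) (fun j => by simp) (ng_eq k ▸ (h.er k).ac) v
  have e1 := Mx.eq_of_ap (m := m.mul ⟨0, 1, -1, 0⟩) (n := Mx.mul ⟨0, 1, -1, 0⟩ m) fun v => by
    rw [Mx.ap_mul, Mx.ap_mul]; exact cm (fun j => by simp) (fun j => by simp) hi v
  have e2 := Mx.eq_of_ap (m := m.mul ⟨1, -1, -1, -1⟩) (n := Mx.mul ⟨1, -1, -1, -1⟩ m) fun v => by
    rw [Mx.ap_mul, Mx.ap_mul]; exact cm (fun j => (by decide : (1 : F3) * -1 - -1 * -1 = 1)) (fun j => by simp) hj v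
  obtain ⟨k, e⟩ := p' x hx
  refine End.P3 h (h.memP.2 ⟨m, d, fun s => Or.inr ?_, a⟩) e
  exact (by decide +kernel : ∀ a b c d : F3, a * 0 + b * -1 = 0 * a + 1 * c → a * 1 + b * 0 = 0 * b + 1 * d →
    a * -1 + b * -1 = 1 * b + -1 * d → b = 0 ∧ c = 0) _ _ _ _ (congrFun (congrArg Mx.a e1) s)
    (congrFun (congrArg Mx.b e1) s) (congrFun (congrArg Mx.b e2) s)

/-- an involution inducing a permutation of order dividing three lies in `Q R` -/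
theorem inv_mem_P (h : Fr0 z l r R) {g : G} (g2 : g * g = 1) {π : Equiv.Perm (Fin 3)} {m : Mx} (d : m.det1)
    (e : π ^ 3 = 1) (a : Ac z l g fun v => m.ap (pm π v)) : g ∈ Qs z l ⊔ R := by
  have := End.pe_uniq h (End.pe_mul h ⟨m, d, a⟩ ⟨m, d, a⟩) (g2 ▸ End.pe_one h)
  obtain rfl : π = 1 := by rwa [pow_succ, pow_two, this, one_mul] at e
  have e1 := Mx.eq_of_ap (m := m.mul m) (n := ⟨1, 0, 0, 1⟩) fun v => by
    rw [Mx.ap_mul, End.one_ap]; exact h.ac_uniq (h.ac_mul a a) (g2 ▸ h.ac_one) v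
  refine h.memP.2 ⟨m, d, fun s => ?_, a⟩
  exact (by decide +kernel : ∀ a b c d : F3, a * b + b * d = 0 → c * a + d * c = 0 → a + d = 0 ∨ b = 0 ∧ c = 0)
    _ _ _ _ (congrFun (congrArg Mx.b e1) s) (congrFun (congrArg Mx.c e1) s)

end H7.F3.K8
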