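import Cfsg.Agent.Lib.F3L.On8B
import Cfsg.Agent.Lib.F3L.Ba8

/-! `Z` is not weakly closed in `Q = 3 ^ (1 + 8)`. -/

set_option autoImplicit false
set_option linter.unusedSectionVars false

namespace H7.F3

open Subgroup Cfsg
open H87.U6 (F3 f3_cases pw_zero pw_one pw_two mem_zp cm_cj)

variable {G : Type*} [Group G] [Finite G]

namespace On8

/-- two commuting conjugates, each weakly closed in its own `Q` -/
structure Pr (z : G) (l : V8 → G) (t y : G) (l' : V8 → G) (t' : G) : Prop where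
  F : F8 z l t
  F' : F8 y l' t'
  c : y * z = z * y
  yN : y ∉ Qs z l
  zN : z ∉ Qs y l'
  w : ∀ g, g * z * g⁻¹ ∈ Qs z l → g * z * g⁻¹ ∈ zpowers z
  w' : ∀ g, g * y * g⁻¹ ∈ Qs y l' → g * y * g⁻¹ ∈ zpowers y

variable {z y t t' : G} {l l' : V8 → G}

theorem Pr.symm (P : Pr z l t y l' t') : Pr y l' t' z l t := ⟨P.F', P.F, P.c.symm, P.zN, P.yN, P.w', P.w⟩

theorem Pr.reframe (P : Pr z l t y l' t') {l2 : V8 → G} {t2 : G} (F : F8 z l2 t2) (e : Qs z l2 = Qs z l) :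
    Pr z l2 t2 y l' t' := ⟨F, P.F', P.c, e ▸ P.yN, P.zN, e ▸ P.w, P.w'⟩

theorem cD {x : G} (h : x ∈ centralizer {y} ⊓ Qs z l) : x * y = y * x := mem_centralizer_singleton_iff.1 h.1

theorem mkPr (F : F8 z l t) (w : ∀ g, g * z * g⁻¹ ∈ Qs z l → g * z * g⁻¹ ∈ zpowers z) {g : G}
    (hy : g * z * g⁻¹ = y) (c : y * z = z * y) (yQ : y ∉ Qs z l) : ∃ l' t', Pr z l t y l' t' := by
  have F0 := F.map (MulAut.conj g)
  have w0 : ∀ k, k * y * k⁻¹ ∈ Qs y (fun v => MulAut.conj g (l v)) → k * y * k⁻¹ ∈ zpowers y := fun k hk => by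
    have e : k * y * k⁻¹ = MulAut.conj g (g⁻¹ * k * g * z * (g⁻¹ * k * g)⁻¹) := by
      rw [← hy, MulAut.conj_apply]; group
    rw [e] at hk ⊢
    obtain ⟨n, hn⟩ := mem_zpowers_iff.1
      (w (g⁻¹ * k * g) ((mem_Qs_map (MulAut.conj g)).1 (by rwa [MulAut.conj_apply g z, hy])))
    exact mem_zpowers_iff.2 ⟨n, by rw [← hn, map_zpow, MulAut.conj_apply, hy]⟩
  rw [MulAut.conj_apply g z, hy] at F0
  refine ⟨_, _, F, F0, c, yQ, fun hz => yQ ?_, w, w0⟩
  have e : g⁻¹ * y * g⁻¹⁻¹ = z := by rw [← hy]; group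
  obtain ⟨k, hk⟩ := (mem_zp F0.z3).1 (e ▸ w0 g⁻¹ (by rwa [e]))
  rcases f3_cases k with rfl | rfl | rfl
  · exact absurd (hk.trans (pw_zero y)) F.z1
  · exact (hk.trans (pw_one y)) ▸ zQ
  · rw [pw_two F0.z3] at hk
    exact inv_mem_iff.1 (hk ▸ zQ)

section Act

variable (h : A0 b8 z l t) {φ : V8 → V8} {κ : V8 → F3}
  (act : ∀ v m, y * qq z l v m * y⁻¹ = qq z l (φ v) (κ v + m))
include h act

theorem fix_iff {v : V8} {m : F3} : qq z l v m * y = y * qq z l v m ↔ φ v = v ∧ κ v = 0 := by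
  rw [eq_comm, cm_cj, act]
  exact ⟨fun e => ⟨(h.q_inj e).1, add_eq_right.1 (h.q_inj e).2⟩, fun e => by rw [e.1, e.2, zero_add]⟩

theorem cm_eq (v : V8) (m : F3) :
    y * qq z l v m * y⁻¹ * (qq z l v m)⁻¹ = qq z l (φ v - v) (κ v - b8 (φ v) v) := by
  rw [act, h.qinv, h.qmul, h.neg_r, ← sub_eq_add_neg]
  congr 1; ring

end Act

theorem Pr.e0 (P : Pr z l t y l' t') {k : F3} (h : qq z l 0 k ∈ Qs y l') : k = 0 :=
  P.F.bar_uniq P.zN h (P.F.q00 ▸ one_mem _)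

theorem Pr.lb (P : Pr z l t y l' t') {φ : V8 → V8} (a : Ac z l y φ) :
    ∃ κ, (∀ v m, y * qq z l v m * y⁻¹ = qq z l (φ v) (κ v + m)) ∧
      LB b8 φ κ (fun u k => qq z l u k ∈ Qs y l') (P.F.bar (centralizer {y})) (P.F.bar (Qs y l')) := by
  have h := P.F.toA0
  obtain ⟨κ, ka, act⟩ := h.ac_kap a
  have QC : Qs y l' ≤ centralizer {y} := fun x hx => mem_centralizer_singleton_iff.2 (P.F'.QH hx)
  have ort : ∀ {u v}, u ∈ h.bar (Qs y l') → v ∈ h.bar (centralizer {y}) → b8 u v = 0 := by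
    rintro u v ⟨k, hu⟩ ⟨m, hv⟩
    have := mul_mem (P.F'.nQ' (mem_centralizer_singleton_iff.1 hv) hu) (inv_mem hu)
    rw [h.qcj, h.qinv, h.qmul, add_neg_cancel, h.neg_r, h.alt] at this
    linear_combination P.e0 this + h.skew u v
  refine ⟨κ, act, sy8, h.ac_add a, ka, h.ac_be a, fun v => ?_, fun {u a v b} hu hv => ?_, h.q00 ▸ one_mem _,
    fun {v} => ⟨fun ⟨k, hk⟩ => (fix_iff h act).1 (mem_centralizer_singleton_iff.1 hk),
      fun hv => ⟨0, mem_centralizer_singleton_iff.2 ((fix_iff h act).2 hv)⟩⟩, Iff.rfl,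
    fun v ⟨k, hk⟩ => ⟨k, QC hk⟩, fun v hv => ?_, ort, ?_⟩
  · exact h.ac_uniq (h.ac_pow a 3) (P.F'.z3 ▸ h.ac_one) v
  · have := mul_mem hu hv
    rwa [h.qmul, ort ⟨a, hu⟩ ⟨b, QC hv⟩, zero_add] at this
  · rw [← cm_eq h act v 0] at hv
    have h1 : qq z l v 0 * y * (qq z l v 0)⁻¹ ∈ Qs y l' := by
      have := mul_mem (inv_mem hv) (zQ (z := y) (l := l'))
      rwa [show (y * qq z l v 0 * y⁻¹ * (qq z l v 0)⁻¹)⁻¹ * y = qq z l v 0 * y * (qq z l v 0)⁻¹ by group] at this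
    have h2 : qq z l v 0 * y * (qq z l v 0)⁻¹ * y⁻¹ ∈ Qs z l := by
      have := mul_mem (qQ v 0) (h.nQ' P.c (inv_mem (qQ v 0)))
      rwa [← mul_assoc, ← mul_assoc] at this
    obtain ⟨k, hk⟩ := (mem_zp P.F'.z3).1 (P.w' _ h1)
    rcases f3_cases k with rfl | rfl | rfl
    · exact absurd (by simpa using hk) P.F'.z1
    · exact ((fix_iff h act).1 (cm_cj.2 (hk.trans (pw_one y)))).1
    · rw [hk, pw_two P.F'.z3, ← mul_inv_rev, inv_mem_iff, ← pow_two, ← show (2 : F3).val = 2 from rfl,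
        pw_two P.F'.z3, inv_mem_iff] at h2
      exact absurd h2 P.yN
  · have k := P.F'.idx27 (T := centralizer {y} ⊓ Qs z l) (fun x hx => h.Q3 hx.2) fun _ => cD
    rw [inf_right_comm, inf_eq_right.2 QC, h.card_bar (mem_centralizer_singleton_iff.2 P.c.symm),
      h.card_bar' P.zN] at k
    show Nat.card (h.bar _) ≤ 9 * Nat.card (h.bar _)
    omega

/-- `C_Q(y)` is abelian and induces a group of order `27` on `Q'` -/
theorem Pr.pass1 (P : Pr z l t y l' t') :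
    (∀ a ∈ centralizer {y} ⊓ Qs z l, ∀ b ∈ centralizer {y} ⊓ Qs z l, a * b = b * a) ∧
      27 * Nat.card (centralizer {y} ⊓ Qs z l ⊓ Qs y l' : Subgroup G) ≤
        Nat.card (centralizer {y} ⊓ Qs z l : Subgroup G) := by
  obtain ⟨l2, t2, F, e, hT⟩ := P.F.adapt (T := zpowers y) (P.F'.pgQ.to_le ZQ) (by
    rintro _ ⟨n, rfl⟩; exact (show Commute y z from P.c).zpow_left n)
  obtain ⟨c, m, hm, a⟩ := hT y (mem_zpowers y)
  have P2 := P.reframe F e
  obtain ⟨κ, act, L⟩ := P2.lb a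
  obtain ⟨h1, h2⟩ := L.pass1 (tt_std hm L.p3 fun k => P2.yN (F.memQ_of_ac (a.congr k)))
  have QC : Qs y l' ≤ centralizer {y} := fun x hx => mem_centralizer_singleton_iff.2 (P.F'.QH hx)
  rw [← e, inf_right_comm, inf_eq_right.2 QC, F.card_bar (mem_centralizer_singleton_iff.2 P.c.symm),
    F.card_bar' P.zN]
  refine ⟨fun a ha b hb => ?_, by omega⟩
  obtain ⟨u, i, rfl⟩ := F.memQ.1 ha.2
  obtain ⟨v, j, rfl⟩ := F.memQ.1 hb.2
  exact (F.qcm i j).2 (h1 u ⟨i, ha.1⟩ v ⟨j, hb.1⟩)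

theorem Pr.false (P0 : Pr z l t y l' t') : False := by
  obtain ⟨ab, big⟩ := P0.symm.pass1
  obtain ⟨l, t, F, e, hT, hT'⟩ := P0.F.torus (T := centralizer {z} ⊓ Qs y l') (fun x hx => P0.F'.Q3 hx.2)
    (fun _ => cD) (fun a ha b hb => by rw [ab a ha b hb]; simp) big
  have P := P0.reframe F e
  have h := F.toA0
  obtain ⟨c, a⟩ := hT y ⟨mem_centralizer_singleton_iff.2 P.c, zQ⟩
  have c0 : c ≠ 0 := by rintro rfl; exact P.yN (h.memQ_of_ac (a.congr tau_zero))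
  obtain ⟨κ, act, L⟩ := P.lb a
  have T := tt_tau c0
  have sc : ∀ A : AddSubgroup V8, (∀ v ∈ A, ∀ d, tau d v = v) → Nat.card A ≤ 3 := fun A hA => by
    simpa using card_le_to soc fun v hv => (tau_fix (hA v hv)).imp fun _ => Eq.symm
  have fx : ∀ {x d v k}, Ac z l x (tau d) → x * qq z l v k = qq z l v k * x → tau d v = v := fun {x d v k} b e => by
    obtain ⟨j, e'⟩ := h.ac_q' b v
    exact (h.q_inj ((e' k).symm.trans (cm_cj.1 e))).1
  have Ef : ∀ v ∈ h.bar (Qs y l'), ∀ d, tau d v = v := fun v ⟨k, hk⟩ d =>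
    let ⟨x, hx, b⟩ := hT' d
    fx b (ab x hx _ ⟨mem_centralizer_singleton_iff.2 (h.qH v k), hk⟩)
  have E3 := sc _ Ef
  have i9 := L.i9
  by_cases hk : ∀ v, tau c v = v → κ v = 0
  · rcases T with ⟨-, f⟩ | ⟨⟨g, gi, hg⟩, -⟩
    · have := L.fxB f hk
      have c4 : Nat.card W4 = 81 := by simp
      omega
    have key : ∀ q, I2 (tau c) q → ∀ d, tau d q = q := fun q hq d => by
      obtain ⟨x, hx, b⟩ := hT' d
      obtain ⟨v0, e0⟩ := hq
      obtain ⟨v, hv⟩ : ∃ v, tau c v - v = q := ⟨_, (L.nn v0).trans e0⟩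
      have cm : ∀ v, tau c (tau d v) = tau d (tau c v) := fun v => by rw [tau_tau, tau_tau, add_comm]
      have i1 : I2 (tau c) (tau c v - v) := hv ▸ ⟨v0, e0⟩
      have e7 : tau c (tau d v) - tau d v = tau d q := by rw [cm, ← hv, add_sub' (tau_add d)]
      have i2 : I2 (tau c) (tau c (tau d v) - tau d v) :=
        ⟨tau d v0, by rw [e7, ← e0, tau_add, tau_add, cm, cm]⟩
      have xy : Commute x y := P.F'.QH hx.2
      have e1 := cm_eq h act v 0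
      have my : Commute (qq z l (tau c v - v) (κ v - b8 (tau c v) v)) y :=
        (fix_iff h act).2 ⟨L.I2_fix i1, hk _ (L.I2_fix i1)⟩
      obtain ⟨k, e2⟩ := h.ac_q' b v
      have e3 : x * qq z l (tau c v - v) (κ v - b8 (tau c v) v) * x⁻¹ =
          qq z l (tau c (tau d v) - tau d v) (κ (tau d v) - b8 (tau c (tau d v)) (tau d v)) := by
        rw [← cm_eq h act (tau d v) (k + 0), ← e2, ← e1]
        calc _ = x * y * x⁻¹ * (x * qq z l v 0 * x⁻¹) * (x * y * x⁻¹)⁻¹ * (x * qq z l v 0 * x⁻¹)⁻¹ := by group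
          _ = _ := by rw [cm_cj.1 xy]
      have m1 := mul_mem hx.2 (P.F'.nQ' my (inv_mem hx.2))
      rw [← mul_assoc, ← mul_assoc, e3, h.qinv, h.qmul, h.neg_r, L.be_fix (L.I2_fix i1), neg_zero, zero_add,
        ← sub_eq_add_neg, ← sub_eq_add_neg] at m1
      rw [← e7, L.L3 i2 i1 m1, hv]
    choose s hs using fun x => tau_fix (key _ (hg x))
    have := Nat.card_le_card_of_injective s fun x x' e => gi (by rw [hs, hs, e])
    simp at this
  · push Not at hk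
    obtain ⟨p, hp, kp⟩ := hk
    have E0 : ∀ v ∈ h.bar (Qs y l'), v = 0 := fun v hv => by
      obtain ⟨s, rfl⟩ := tau_fix (Ef v hv)
      obtain ⟨i, j, k, e⟩ := soc_im c c0 s
      exact L.L1 hp kp hv e
    have D3 := sc (h.bar (centralizer {y})) fun v ⟨k, hk⟩ d => by
      obtain ⟨x, hx, b⟩ := hT' d
      have m1 := mul_mem hx.2 (P.F'.nQ' (mem_centralizer_singleton_iff.1 hk) (inv_mem hx.2))
      obtain ⟨j, e'⟩ := h.ac_q' b v
      rw [← mul_assoc, ← mul_assoc, e', h.qinv, h.qmul] at m1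
      exact add_neg_eq_zero.1 (E0 _ ⟨_, m1⟩)
    have := (L.pass1 T).2
    have : 0 < Nat.card (h.bar (Qs y l')) := Nat.card_pos
    change 9 * Nat.card (h.bar _) ≤ Nat.card (h.bar _) at *
    omega

end On8

theorem F8.one {z t : G} {l : V8 → G} (h : F8 z l t) (nw : NW z) :
    ∃ g, g * z * g⁻¹ ∈ Qs z l ∧ g * z * g⁻¹ ∉ zpowers z := by
  by_contra hn
  have w : ∀ g, g * z * g⁻¹ ∈ Qs z l → g * z * g⁻¹ ∈ zpowers z := fun g hg => by_contra fun k => hn ⟨g, hg, k⟩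
  obtain ⟨g, c, hg⟩ := nw
  obtain ⟨l', t', P⟩ := On8.mkPr h w rfl c fun k => hg (w g k)
  exact P.false

end H7.F3
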