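import Cfsg.Agent.Lib.F3L.Def8

/-! The linear algebra of a pair of commuting conjugates `z`, `y` with `y ∉ Q = 3 ^ (1 + 8)`. -/

set_option autoImplicit false
set_option linter.unusedSectionVars false

namespace H7.F3.On8

open H87.U6 (F3 f3_cases)

variable {V : Type*} [AddCommGroup V]

/-- the image of `(φ - 1) ^ 2` -/
def I2 (φ : V → V) (w : V) : Prop := ∃ v, φ (φ v) + φ v + v = w

/-- the fixed space of `φ` has at least `card α` elements -/
def Fx (α : Type) (φ : V → V) : Prop := ∃ f : α → V, Function.Injective f ∧ ∀ x, φ (f x) = f x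

/-- the three types of elements of order three -/
def TT (be : V → V → F3) (φ : V → V) : Prop :=
  ((∀ w, φ w = w → ∃ v, φ v - v = w) ∧ Fx W4 φ) ∨
    (∃ g : W2 → V, Function.Injective g ∧ ∀ x, I2 φ (g x)) ∧
    ((Fx W4 φ ∧ ∃ p q, φ p = p ∧ φ q = q ∧ be p q ≠ 0 ∧ ∀ w, φ w = w → be w p = 0 → be w q = 0 → I2 φ w) ∨
      (Fx X3 φ ∧ (∀ w, φ w = w → ∃ v, φ v - v = w) ∧
        ∀ u v, φ u = u → φ v = v → I2 φ u ∨ I2 φ v ∨ I2 φ (u + v) ∨ I2 φ (u - v)))

theorem TT.conj [Finite V] {be : V → V → F3} (h : Sy be) {φ ψ P : V → V} {ε : F3} (hε : ε ≠ 0)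
    (pa : ∀ u v, P (u + v) = P u + P v) (pb : ∀ u v, be (P u) (P v) = ε * be u v)
    (c : ∀ v, ψ (P v) = P (φ v)) (T : TT be φ) : TT be ψ := by
  have ps := add_sub' pa
  have inj : Function.Injective P := fun u v e => sub_eq_zero.1 (h.nd _ fun w => by
    have := pb (u - v) w
    rw [ps, e, sub_self, h.zero_l] at this
    exact (mul_eq_zero.1 this.symm).resolve_left hε)
  have sj := Finite.injective_iff_surjective.1 inj
  have fx : ∀ {w}, ψ (P w) = P w ↔ φ w = w := fun {w} => by rw [c, inj.eq_iff]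
  have i2 : ∀ {w}, I2 φ w → I2 ψ (P w) := by
    rintro _ ⟨v, rfl⟩
    exact ⟨P v, by rw [c, c, pa, pa]⟩
  have i1 : (∀ w, φ w = w → ∃ v, φ v - v = w) → ∀ w, ψ w = w → ∃ v, ψ v - v = w := fun a w hw => by
    obtain ⟨w, rfl⟩ := sj w
    obtain ⟨v, rfl⟩ := a w (fx.1 hw)
    exact ⟨P v, by rw [c, ps]⟩
  have f : ∀ {α}, Fx α φ → Fx α ψ := fun ⟨f, a, b⟩ => ⟨P ∘ f, inj.comp a, fun x => fx.2 (b x)⟩
  refine T.imp (And.imp i1 f) (And.imp (fun ⟨g, a, b⟩ => ⟨P ∘ g, inj.comp a, fun x => i2 (b x)⟩)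
    (Or.imp (And.imp f ?_) (And.imp f (And.imp i1 fun a u v hu hv => ?_))))
  · rintro ⟨p, q, hp, hq, pq, a⟩
    refine ⟨P p, P q, fx.2 hp, fx.2 hq, by rw [pb]; exact mul_ne_zero hε pq, fun w hw h1 h2 => ?_⟩
    obtain ⟨w, rfl⟩ := sj w
    rw [pb, mul_eq_zero] at h1 h2
    exact i2 (a w (fx.1 hw) (h1.resolve_left hε) (h2.resolve_left hε))
  · obtain ⟨u, rfl⟩ := sj u
    obtain ⟨v, rfl⟩ := sj v
    rw [← pa, ← ps]
    exact (a u v (fx.1 hu) (fx.1 hv)).imp i2 (Or.imp i2 (Or.imp i2 i2))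

theorem card_le_of {α : Type*} [Finite V] {A : AddSubgroup V} {f : α → V} (hf : Function.Injective f)
    (h : ∀ x, f x ∈ A) : Nat.card α ≤ Nat.card A :=
  Nat.card_le_card_of_injective (fun x => (⟨f x, h x⟩ : A)) fun _ _ e => hf (congrArg Subtype.val e)

theorem card_le_to {α : Type*} [Finite α] {A : AddSubgroup V} (f : α → V) (h : ∀ v ∈ A, ∃ x, f x = v) :
    Nat.card A ≤ Nat.card α := by
  choose g hg using fun v : A => h v v.2
  exact Nat.card_le_card_of_injective g fun u v e => Subtype.ext (by rw [← hg u, e, hg])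

theorem card_le3 {A : AddSubgroup V} (h : ∀ u ∈ A, ∀ v ∈ A, u = 0 ∨ v = 0 ∨ u + v = 0 ∨ u - v = 0) :
    Nat.card A ≤ 3 := by
  obtain ⟨u, hu⟩ : ∃ u, ∀ v ∈ A, v = 0 ∨ u + v = 0 ∨ u - v = 0 := by
    by_cases e : ∃ u ∈ A, u ≠ 0
    · obtain ⟨u, hu, e⟩ := e
      exact ⟨u, fun v hv => (h u hu v hv).resolve_left e⟩
    · exact ⟨0, fun v hv => Or.inl (by_contra fun k => e ⟨v, hv, k⟩)⟩
  simpa using card_le_to (A := A) ![0, -u, u] fun v hv => by
    rcases hu v hv with e | e | e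
    exacts [⟨0, e.symm⟩, ⟨1, neg_eq_of_add_eq_zero_right e⟩, ⟨2, sub_eq_zero.1 e⟩]

theorem cw3 : ∀ f1 f2 g1 g2 b1 : F3, (∃ x y : F3, ¬ (x = 0 ∧ y = 0) ∧
    x * f1 + x * (x - 1) * g1 + (y * f2 + y * (y - 1) * g2) - x * y * b1 = 0) ∨
    ∀ f3 g3 b2 b3 : F3, ∃ x y z : F3, z ≠ 0 ∧
    x * f1 + x * (x - 1) * g1 + (y * f2 + y * (y - 1) * g2) - x * y * b1 + (z * f3 + z * (z - 1) * g3) -
      (x * z * b2 + y * z * b3) = 0 := by decide +kernel

theorem cw' (f1 f2 f3 g1 g2 g3 b1 b2 b3 : F3) : ∃ x y z : F3, ¬ (x = 0 ∧ y = 0 ∧ z = 0) ∧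
    x * f1 + x * (x - 1) * g1 + (y * f2 + y * (y - 1) * g2) - x * y * b1 + (z * f3 + z * (z - 1) * g3) -
      (x * z * b2 + y * z * b3) = 0 := by
  rcases cw3 f1 f2 g1 g2 b1 with ⟨x, y, a, b⟩ | a
  · exact ⟨x, y, 0, fun k => a ⟨k.1, k.2.1⟩, by linear_combination b⟩
  · obtain ⟨x, y, z, a, b⟩ := a f3 g3 b2 b3
    exact ⟨x, y, z, fun k => a k.2.2, b⟩

/-- `φ`, `κ`: the action of `y` on `Q`; `e`: the graph of `Q ∩ Q'`. -/
structure LB (be : V → V → F3) (φ : V → V) (κ : V → F3) (e : V → F3 → Prop) (D E : AddSubgroup V) : Prop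
    extends Sy be where
  pa : ∀ u v, φ (u + v) = φ u + φ v
  ka : ∀ u v, κ (u + v) = κ u + κ v
  pb : ∀ u v, be (φ u) (φ v) = be u v
  p3 : ∀ v, φ (φ (φ v)) = v
  ea : ∀ {u a v b}, e u a → e v b → e (u + v) (a + b)
  e0 : e 0 0
  mD : ∀ {v}, v ∈ D ↔ φ v = v ∧ κ v = 0
  mE : ∀ {v}, v ∈ E ↔ ∃ k, e v k
  ED : E ≤ D
  st : ∀ v, e (φ v - v) (κ v - be (φ v) v) → φ v = v
  ort : ∀ {u v}, u ∈ E → v ∈ D → be u v = 0
  i9 : Nat.card D ≤ 9 * Nat.card E

namespace LB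

variable {be : V → V → F3} {φ : V → V} {κ : V → F3} {e : V → F3 → Prop} {D E : AddSubgroup V}
  (h : LB be φ κ e D E)
include h

theorem ps (u v : V) : φ (u - v) = φ u - φ v := add_sub' h.pa u v
theorem pn (k : ℕ) (v : V) : φ (k • v) = k • φ v := map_nsmul (AddMonoidHom.mk' φ h.pa) k v
theorem bl (k : F3) (u v : V) : be (k.val • u) v = k * be u v := by
  have := map_nsmul (AddMonoidHom.mk' (be · v) fun a b => h.add_l a b v) k.val u
  simpa using this
theorem br (k : F3) (u v : V) : be u (k.val • v) = k * be u v := by rw [h.skew, h.bl, h.skew u]; ring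
theorem Efix {u : V} (hu : u ∈ E) : φ u = u := (h.mD.1 (h.ED hu)).1

theorem be_fix {a : V} (ha : φ a = a) (v : V) : be (φ v - v) a = 0 := by
  rw [h.sub_l, ← h.pb v a, ha, sub_self]

theorem n_add (u v : V) : φ (u + v) - (u + v) = φ u - u + (φ v - v) := by rw [h.pa]; abel
theorem n_sub (u v : V) : φ (u - v) - (u - v) = φ u - u - (φ v - v) := by rw [h.ps]; abel
theorem n_smul (k : ℕ) (v : V) : φ (k • v) - k • v = k • (φ v - v) := by rw [h.pn, smul_sub]

theorem gam_add (u v : V) : κ (u + v) - be (φ (u + v)) (u + v) =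
    κ u - be (φ u) u + (κ v - be (φ v) v) - (be (φ u - u) v + be (φ v - v) u) := by
  rw [h.ka, h.pa, h.add_l, h.add_r, h.add_r, h.sub_l, h.sub_l]
  linear_combination -h.skew u v

theorem L0 {a : V} (ha : φ a = a) (hk : κ a ≠ 0) (v : V) (k : F3) :
    ∃ w, φ w - w = φ v - v ∧ κ w - be (φ w) w = k := by
  have step : ∀ v, φ (v + a) - (v + a) = φ v - v ∧
      κ (v + a) - be (φ (v + a)) (v + a) = κ v - be (φ v) v + κ a := fun v =>
    ⟨by rw [h.n_add, ha, sub_self, add_zero], by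
      rw [h.gam_add, h.be_fix ha v, ha, sub_self, h.zero_l, h.alt]; ring⟩
  rcases (by decide : ∀ g c k : F3, c ≠ 0 → g = k ∨ g + c = k ∨ g + c + c = k)
    (κ v - be (φ v) v) _ k hk with e | e | e
  · exact ⟨v, rfl, e⟩
  · exact ⟨v + a, (step v).1, (step v).2.trans e⟩
  · exact ⟨v + a + a, (step _).1.trans (step v).1, by rw [(step _).2, (step v).2, e]⟩

theorem L1 {a : V} (ha : φ a = a) (hk : κ a ≠ 0) {u v : V} (hu : u ∈ E) (hv : φ v - v = u) : u = 0 := by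
  obtain ⟨k, hu⟩ := h.mE.1 hu
  obtain ⟨w, e1, rfl⟩ := h.L0 ha hk v k
  rw [← hv, ← e1] at hu ⊢
  exact sub_eq_zero.2 (h.st w hu)

theorem nn (v : V) : φ (φ v - v) - (φ v - v) = φ (φ v) + φ v + v := by
  rw [h.ps, ← sub_eq_zero, ← neg_eq_zero, ← h.tri (φ v)]; abel

theorem I2_fix {w : V} (hw : I2 φ w) : φ w = w := by
  obtain ⟨v, rfl⟩ := hw
  rw [h.pa, h.pa, h.p3]; abel

theorem I2_sub {u v : V} (hu : I2 φ u) (hv : I2 φ v) : I2 φ (u - v) := by
  obtain ⟨u, rfl⟩ := hu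
  obtain ⟨v, rfl⟩ := hv
  exact ⟨u - v, by rw [h.ps, h.ps]; abel⟩

theorem B2 {u w : V} (hw : I2 φ w) (hu : φ (φ u - u) = φ u - u) : be w u = 0 := by
  obtain ⟨v, rfl⟩ := hw
  have e0 : φ (φ u) + φ u + u = 0 := by rw [← h.nn, hu, sub_self]
  have e1 : be (φ (φ v)) u = be v (φ u) := by rw [← h.pb, h.p3]
  have e2 : be (φ v) u = be v (φ (φ u)) := by rw [← h.pb, ← h.pb, h.p3]
  rw [h.add_l, h.add_l, e1, e2, ← h.add_r, ← h.add_r, add_comm (φ u), e0, h.zero_r]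

theorem B1 {u w : V} (hw : I2 φ w) (hu : φ u = u) : be w u = 0 := h.B2 hw (by rw [hu, sub_self, add_zero' h.pa])

theorem F_add {u v : V} {x y : F3} (a : e (φ u - u) (κ u - be (φ u) u - x))
    (b : e (φ v - v) (κ v - be (φ v) v - y)) : e (φ (u + v) - (u + v))
      (κ (u + v) - be (φ (u + v)) (u + v) - (x + y - (be (φ u - u) v + be (φ v - v) u))) := by
  rw [h.n_add, h.gam_add, sub_sub_sub_cancel_right, add_sub_add_comm]
  exact h.ea a b

theorem F_ex {u : V} (hu : φ u - u ∈ E) : ∃ x, e (φ u - u) (κ u - be (φ u) u - x) :=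
  let ⟨k, hk⟩ := h.mE.1 hu; ⟨_, by rwa [sub_sub_cancel]⟩

theorem F_zero {u : V} {x : F3} (a : e (φ u - u) (κ u - be (φ u) u - x)) (hx : x = 0) : φ u - u = 0 :=
  sub_eq_zero.2 (h.st u (by rwa [hx, sub_zero] at a))

theorem F_smul {u : V} {x : F3} (a : e (φ u - u) (κ u - be (φ u) u - x)) : ∃ g, ∀ k : F3,
    e (φ (k.val • u) - k.val • u) (κ (k.val • u) - be (φ (k.val • u)) (k.val • u) - (k * x + k * (k - 1) * g)) := by
  refine ⟨-be (φ u - u) u, fun k => ?_⟩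
  rcases f3_cases k with rfl | rfl | rfl
  · have : κ 0 = 0 := by simpa using h.ka 0 0
    simpa [add_zero' h.pa, h.alt, this] using h.e0
  · simpa [show (1 : F3).val = 1 from rfl] using a
  · rw [show (2 : F3).val = 2 from rfl, two_nsmul]
    convert h.F_add a a using 2
    ring

/-- a radical vector -/
theorem rad {w u v : V} (hw : w ∈ E) (i : I2 φ w) (w0 : w ≠ 0) (hu : u ∈ E) (hv : φ v - v = u) :
    u = 0 ∨ u + w = 0 ∨ u - w = 0 := by
  obtain ⟨a0, ea⟩ := i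
  rw [← h.nn] at ea
  obtain ⟨a, ha⟩ : ∃ a, φ a0 - a0 = a := ⟨_, rfl⟩
  rw [ha] at ea
  subst hv ea
  have step : ∀ {v x y}, e (φ v - v) (κ v - be (φ v) v - x) → e (φ a - a) (κ a - be (φ a) a - y) →
      e (φ (v + a) - (v + a)) (κ (v + a) - be (φ (v + a)) (v + a) - (x + y)) := fun {v x y} b c => by
    have f := h.Efix (h.mE.2 ⟨_, b⟩)
    have := h.F_add b c
    rwa [h.B2 (w := φ a - a) ⟨a0, by rw [← h.nn, ha]⟩ f, h.skew _ a, ← ha, h.be_fix f, ha, neg_zero, add_zero,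
      sub_zero] at this
  obtain ⟨x, b⟩ := h.F_ex hu
  obtain ⟨y, c⟩ := h.F_ex hw
  rcases (by decide : ∀ g c : F3, c ≠ 0 → g = 0 ∨ g + c = 0 ∨ g + c + c = 0) x y
    (fun k => w0 (h.F_zero c k)) with k | k | k
  · exact Or.inl (h.F_zero b k)
  · exact Or.inr (Or.inl (h.n_add v a ▸ h.F_zero (step b c) k))
  · have := h.F_zero (step (step b c) c) k
    rw [h.n_add, h.n_add, add_assoc, h.two, ← sub_eq_add_neg] at this
    exact Or.inr (Or.inr this)

theorem L3 {u v : V} (hu : I2 φ (φ u - u)) (hv : I2 φ (φ v - v))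
    (a : e (φ u - u - (φ v - v)) (κ u - be (φ u) u - (κ v - be (φ v) v))) : φ u - u = φ v - v := by
  have hw : I2 φ (φ (u - v) - (u - v)) := h.n_sub u v ▸ h.I2_sub hu hv
  have k := h.gam_add (u - v) v
  rw [sub_add_cancel, h.B2 hw (h.I2_fix hv), h.B2 hv (h.I2_fix hw), add_zero, sub_zero] at k
  rw [← sub_eq_zero, ← h.n_sub, sub_eq_zero]
  exact h.st _ (by rwa [k, add_sub_cancel_right, ← h.n_sub] at a)

theorem mem_smul {u v : V} {k : F3} (hk : k ≠ 0) (a : u + k.val • v = 0) : v = (-k).val • u := by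
  rcases f3_cases k with rfl | rfl | rfl
  · exact absurd rfl hk
  · rw [show (1 : F3).val = 1 from rfl, one_nsmul] at a
    rw [show (-1 : F3).val = 2 from rfl, two_nsmul, h.two, eq_neg_of_add_eq_zero_right a]
  · rw [show (2 : F3).val = 2 from rfl, two_nsmul, h.two, add_neg_eq_zero] at a
    rw [show (-2 : F3).val = 1 from rfl, one_nsmul, a]

theorem smul_smul' (k x : F3) (u : V) : k.val • x.val • u = (k * x).val • u := by
  have t : 3 • u = 0 := by rw [← h.tri u]; abel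
  rw [smul_smul, ZMod.val_mul, ← Nat.div_add_mod (k.val * x.val) 3, add_nsmul, mul_nsmul, t, smul_zero, zero_add,
    Nat.mul_add_mod, Nat.mod_mod]

/-- a quadratic function of three variables has a non-trivial zero -/
theorem cw (hI : ∀ u ∈ E, ∃ v, φ v - v = u) : Nat.card E ≤ 9 := by
  by_contra hc
  have ex : ∀ u v : V, ∃ w ∈ E, ∀ x y : F3, x.val • u + y.val • v ≠ w := fun u v => by
    by_contra hn
    push Not at hn
    exact hc (by simpa using card_le_to (A := E) (fun p : W2 => p.1.val • u + p.2.val • v) fun w hw =>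
      let ⟨x, y, e⟩ := hn w hw; ⟨(x, y), e⟩)
  obtain ⟨u1, h1, n1⟩ := ex 0 0
  obtain ⟨u2, h2, n2⟩ := ex u1 0
  obtain ⟨u3, h3, n3⟩ := ex u1 u2
  obtain ⟨v1, rfl⟩ := hI u1 h1
  obtain ⟨v2, rfl⟩ := hI u2 h2
  obtain ⟨v3, rfl⟩ := hI u3 h3
  obtain ⟨f1, a1⟩ := h.F_ex h1
  obtain ⟨f2, a2⟩ := h.F_ex h2
  obtain ⟨f3, a3⟩ := h.F_ex h3
  obtain ⟨g1, a1⟩ := h.F_smul a1
  obtain ⟨g2, a2⟩ := h.F_smul a2
  obtain ⟨g3, a3⟩ := h.F_smul a3
  obtain ⟨x, y, z, n0, k⟩ := cw' f1 f2 f3 g1 g2 g3 (be (φ v1 - v1) v2 + be (φ v2 - v2) v1)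
    (be (φ v1 - v1) v3 + be (φ v3 - v3) v1) (be (φ v2 - v2) v3 + be (φ v3 - v3) v2)
  have := h.F_zero (h.F_add (h.F_add (a1 x) (a2 y)) (a3 z)) (by
    simp only [h.n_add, h.n_smul, h.add_l, h.add_r, h.bl, h.br]
    linear_combination k)
  rw [h.n_add, h.n_add, h.n_smul, h.n_smul, h.n_smul] at this
  by_cases hz : z = 0
  · rw [hz, ZMod.val_zero, zero_nsmul, add_zero] at this
    by_cases hy : y = 0
    · rw [hy, ZMod.val_zero, zero_nsmul, add_zero, ← zero_add (_ • _)] at this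
      exact n1 0 0 (by simpa using (h.mem_smul (fun hx => n0 ⟨hx, hy, hz⟩) this).symm)
    · exact n2 (-y * x) 0 (by rw [h.mem_smul hy this, h.smul_smul', smul_zero, add_zero])
  · exact n3 (-z * x) (-z * y) (by rw [h.mem_smul hz this, smul_add, h.smul_smul', h.smul_smul'])

theorem adj {a : V} (ha : φ a = a) (hk : κ a ≠ 0) {u : V} (hu : φ u = u) :
    ∃ k : F3, u + k.val • a ∈ D := by
  rcases (by decide : ∀ g c : F3, c ≠ 0 → g = 0 ∨ g + c = 0 ∨ g + (c + c) = 0) (κ u) _ hk with e | e | e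
  · exact ⟨0, h.mD.2 (by simpa using ⟨hu, e⟩)⟩
  · exact ⟨1, h.mD.2 (by rw [show (1 : F3).val = 1 from rfl, one_nsmul, h.pa, hu, ha, h.ka]; exact ⟨rfl, e⟩)⟩
  · exact ⟨2, h.mD.2 (by
      rw [show (2 : F3).val = 2 from rfl, two_nsmul, h.pa, h.pa, hu, ha, h.ka, h.ka]; exact ⟨rfl, e⟩)⟩

variable [Finite V]

theorem fxB {α : Type} (f : Fx α φ) (hk : ∀ a, φ a = a → κ a = 0) : Nat.card α ≤ Nat.card D :=
  let ⟨_, a, b⟩ := f; card_le_of a fun x => h.mD.2 ⟨b x, hk _ (b x)⟩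

theorem fxA {α : Type} (f : Fx α φ) : Nat.card α ≤ 3 * Nat.card D := by
  by_cases hk : ∀ a, φ a = a → κ a = 0
  · exact (h.fxB f hk).trans (by omega)
  push Not at hk
  obtain ⟨a, ha, hk⟩ := hk
  obtain ⟨f, fi, b⟩ := f
  choose k m using fun x => h.adj ha hk (b x)
  simpa using Nat.card_le_card_of_injective (fun x => ((k x, ⟨_, m x⟩) : F3 × D)) fun x y e => by
    obtain ⟨e1, e2⟩ := Prod.mk.inj e
    have e3 := congrArg Subtype.val e2
    simp only [e1, add_left_inj] at e3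
    exact fi e3

theorem pass1 (T : TT be φ) : (∀ u ∈ D, ∀ v ∈ D, be u v = 0) ∧ 9 * Nat.card E ≤ Nat.card D := by
  have iso : (∀ w, φ w = w → ∃ v, φ v - v = w) → ∀ u ∈ D, ∀ v ∈ D, be u v = 0 := fun a u hu v hv => by
    obtain ⟨w, rfl⟩ := a u (h.mD.1 hu).1
    exact h.be_fix (h.mD.1 hv).1 w
  have one : (∀ u ∈ E, u = 0) → Nat.card E = 1 := fun a => by
    rw [(AddSubgroup.eq_bot_iff_forall _).2 a, AddSubgroup.card_bot]
  have c4 : Nat.card W4 = 81 := by simp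
  have c3 : Nat.card X3 = 27 := by simp
  have i9 := h.i9
  by_cases hk : ∀ a, φ a = a → κ a = 0
  · rcases T with ⟨a, f⟩ | ⟨-, ⟨f, p, q, hp, hq, -, a⟩ | ⟨f, a, b⟩⟩
    · have := h.fxB f hk
      have := h.cw fun u hu => a u (h.Efix hu)
      exact ⟨iso a, by omega⟩
    · have := h.fxB f hk
      have i : ∀ u ∈ E, I2 φ u := fun u hu => a u (h.Efix hu) (h.ort hu (h.mD.2 ⟨hp, hk p hp⟩))
        (h.ort hu (h.mD.2 ⟨hq, hk q hq⟩))
      have := card_le3 (A := E) fun u hu v hv => by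
        obtain ⟨x, e⟩ := i u hu
        by_cases v0 : v = 0
        · exact Or.inr (Or.inl v0)
        · exact (h.rad hv (i v hv) v0 hu ((h.nn x).trans e)).imp_right Or.inr
      omega
    · have := h.fxB f hk
      have : Nat.card E ≤ 3 := card_le3 fun u hu v hv => by
        by_contra hn
        simp only [not_or] at hn
        obtain ⟨n1, n2, n3, n4⟩ := hn
        obtain ⟨x, ex⟩ := a u (h.Efix hu)
        obtain ⟨y, ey⟩ := a v (h.Efix hv)
        rcases b u v (h.Efix hu) (h.Efix hv) with i | i | i | i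
        · rcases h.rad hu i n1 hv ey with k | k | k
          exacts [n2 k, n3 (add_comm u v ▸ k), n4 (sub_eq_zero.2 (sub_eq_zero.1 k).symm)]
        · rcases h.rad hv i n2 hu ex with k | k | k
          exacts [n1 k, n3 k, n4 k]
        · rcases h.rad (add_mem hu hv) i n3 hu ex with k | k | k
          · exact n1 k
          · rw [← add_assoc, h.two, neg_add_eq_zero] at k
            exact n4 (sub_eq_zero.2 k)
          · exact n2 (by simpa using k)
        · rcases h.rad (sub_mem hu hv) i n4 hu ex with k | k | k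
          · exact n1 k
          · rw [← add_sub_assoc, h.two, ← neg_add', neg_eq_zero] at k
            exact n3 k
          · exact n2 (by simpa using k)
      exact ⟨iso a, by omega⟩
  push Not at hk
  obtain ⟨c, hc, hk⟩ := hk
  have z : (∀ w, φ w = w → ∃ v, φ v - v = w) → Nat.card E = 1 := fun a => one fun u hu =>
    let ⟨_, e⟩ := a u (h.Efix hu); h.L1 hc hk hu e
  rcases T with ⟨a, f⟩ | ⟨⟨g, gi, hg⟩, ⟨f, p, q, hp, hq, pq, a⟩ | ⟨f, a, -⟩⟩
  · have := h.fxA f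
    have := z a
    exact ⟨iso a, by omega⟩
  · have k := h.fxA f
    have z2 : ∀ u ∈ E, I2 φ u → u = 0 := fun u hu ⟨x, e⟩ => h.L1 hc hk hu ((h.nn x).trans e)
    obtain ⟨w, hw, w0⟩ : ∃ w ∈ E, w ≠ 0 := by
      by_contra hn
      push Not at hn
      have := one hn
      omega
    have pl : ∀ u v, φ u = u → φ v = v → be p q * be u v = be u q * be p v - be u p * be q v := fun u v hu hv => by
      have := h.B1 (a ((be p q).val • u - (be u q).val • p + (be u p).val • q)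
        (by rw [h.pa, h.ps, h.pn, h.pn, h.pn, hu, hp, hq])
        (by rw [h.add_l, h.sub_l, h.bl, h.bl, h.bl, h.alt, h.skew q p]; ring)
        (by rw [h.add_l, h.sub_l, h.bl, h.bl, h.bl, h.alt]; ring)) hv
      rw [h.add_l, h.sub_l, h.bl, h.bl, h.bl] at this
      linear_combination this
    have iso2 : ∀ u ∈ D, ∀ v ∈ D, be u v = 0 := fun u hu v hv => by
      by_contra hn
      have e1 := pl w u (h.Efix hw) (h.mD.1 hu).1
      have e2 := pl w v (h.Efix hw) (h.mD.1 hv).1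
      have e3 := pl u v (h.mD.1 hu).1 (h.mD.1 hv).1
      rw [h.ort hw hu] at e1
      rw [h.ort hw hv] at e2
      rw [h.skew u q, h.skew u p] at e3
      have := (by decide +kernel : ∀ a b c d x y : F3, 0 = y * a - x * b → 0 = y * c - x * d →
        -b * c - -a * d ≠ 0 → x = 0 ∧ y = 0) _ _ _ _ _ _ (mul_zero (be p q) ▸ e1) (mul_zero (be p q) ▸ e2)
        (e3 ▸ mul_ne_zero pq hn)
      exact w0 (z2 w hw (a w (h.Efix hw) this.1 this.2))
    refine ⟨iso2, ?_⟩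
    have gD : ∀ x, g x ∈ D := fun x => h.mD.2 ⟨h.I2_fix (hg x), by_contra fun kx => by
      obtain ⟨i, mi⟩ := h.adj (h.I2_fix (hg x)) kx hp
      obtain ⟨j, mj⟩ := h.adj (h.I2_fix (hg x)) kx hq
      have := iso2 _ mi _ mj
      rw [h.add_l, h.add_r, h.add_r, h.bl, h.bl, h.br, h.br, h.alt, h.B1 (hg x) hq, h.skew p (g x),
        h.B1 (hg x) hp] at this
      exact pq (by simpa using this)⟩
    simpa using card_le_of (A := D) (f := fun p : W2 × E => g p.1 + p.2) (fun p p' e => by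
      have e1 : g p.1 - g p'.1 = p'.2 - p.2 := by rw [sub_eq_sub_iff_add_eq_add, add_comm p'.2.1]; exact e
      have e2 := z2 _ (sub_mem p'.2.2 p.2.2) (e1 ▸ h.I2_sub (hg _) (hg _))
      exact Prod.ext (gi (sub_eq_zero.1 (e1.trans e2))) (Subtype.ext (sub_eq_zero.1 e2).symm))
      fun p => add_mem (gD _) (h.ED p.2.2)
  · have := h.fxA f
    have := z a
    exact ⟨iso a, by omega⟩

end LB

theorem eqns_on8A : True := by
  have := @I2.eq_1.{0}
  have := @Fx.eq_1.{0}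
  have := @TT.eq_1.{0}
  trivial

end H7.F3.On8
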