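import Cfsg.Agent.Lib.F3L.Bas

/-! The linear algebra of a pair of commuting conjugates `z`, `y` with `y ∉ Q`. -/

set_option autoImplicit false
set_option linter.unusedSectionVars false

namespace H7.F3.One

open H87.U6 (F3 f3_cases)

section Gen

variable {V : Type*} [AddCommGroup V]

theorem idx3 [Finite V] (tri : ∀ v : V, v + v + v = 0) {E D : AddSubgroup V} (hE : E ≤ D)
    (hc : Nat.card D ≤ 3 * Nat.card E) {u v : V} (hu : u ∈ D) (hv : v ∈ D) :
    u ∈ E ∨ v ∈ E ∨ u + v ∈ E ∨ u - v ∈ E := by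
  classical
  by_contra hn
  simp only [not_or] at hn
  obtain ⟨h1, h2, h3, h4⟩ := hn
  have k := AddSubgroup.card_eq_card_quotient_mul_card_addSubgroup (E.addSubgroupOf D)
  rw [Nat.card_congr (AddSubgroup.addSubgroupOfEquivOfLe hE).toEquiv] at k
  have k1 : Nat.card (D ⧸ E.addSubgroupOf D) ≤ 3 :=
    Nat.le_of_mul_le_mul_right (k ▸ hc) Nat.card_pos
  have := Fintype.ofFinite (D ⧸ E.addSubgroupOf D)
  have ne : ∀ {a b : V} (ha : a ∈ D) (hb : b ∈ D), -a + b ∉ E →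
      ((⟨a, ha⟩ : D) : D ⧸ E.addSubgroupOf D) ≠ (⟨b, hb⟩ : D) := fun ha hb h e =>
    h (AddSubgroup.mem_addSubgroupOf.1 (QuotientAddGroup.eq.1 e))
  have nd : [((⟨0, zero_mem _⟩ : D) : D ⧸ E.addSubgroupOf D), (⟨u, hu⟩ : D), (⟨-u, neg_mem hu⟩ : D),
      (⟨v, hv⟩ : D)].Nodup := by
    simp only [List.nodup_cons, List.mem_cons, List.not_mem_nil, or_false, not_or, List.nodup_nil,
      not_false_eq_true, and_true]
    refine ⟨⟨ne _ _ (by simpa using h1), ne _ _ (by simpa using h1), ne _ _ (by simpa using h2)⟩,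
      ⟨ne _ _ ?_, ne _ _ ?_⟩, ne _ _ (by simpa using h3)⟩
    · rwa [← neg_add, eq_neg_of_add_eq_zero_left (tri u), neg_neg]
    · rwa [← neg_mem_iff, neg_add, neg_neg, ← sub_eq_add_neg]
  have := nd.length_le_card
  rw [← Nat.card_eq_fintype_card] at this
  simp only [List.length_cons, List.length_nil] at this
  omega

/-- `φ`, `κ`: the action of `y` on `Q`; `e`: the graph of `Q ∩ Q'`. -/
structure LA (be : V → V → F3) (φ : V → V) (κ : V → F3) (e : V → F3 → Prop) : Prop extends Sy be where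
  pa : ∀ u v, φ (u + v) = φ u + φ v
  ka : ∀ u v, κ (u + v) = κ u + κ v
  pb : ∀ u v, be (φ u) (φ v) = be u v
  p3 : ∀ v, φ (φ (φ v)) = v
  ea : ∀ {u a v b}, e u a → e v b → e (u + v) (a + b)
  en : ∀ {u a}, e u a → e (-u) (-a)
  eD : ∀ {u a}, e u a → φ u = u ∧ κ u = 0
  st : ∀ v, e (φ v - v) (κ v - be (φ v) v) → φ v = v
  iso : ∀ {u v}, φ u = u → κ u = 0 → φ v = v → κ v = 0 → be u v = 0
  i3 : ∀ {u v}, φ u = u → κ u = 0 → φ v = v → κ v = 0 →
    (∃ k, e u k) ∨ (∃ k, e v k) ∨ (∃ k, e (u + v) k) ∨ ∃ k, e (u - v) k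

namespace LA

variable {be : V → V → F3} {φ : V → V} {κ : V → F3} {e : V → F3 → Prop} (h : LA be φ κ e)
include h

theorem ps (u v : V) : φ (u - v) = φ u - φ v := add_sub' h.pa u v
theorem ks (u v : V) : κ (u - v) = κ u - κ v := map_sub (AddMonoidHom.mk' κ h.ka) u v
theorem es {u v : V} {a b : F3} (h1 : e u a) (h2 : e v b) : e (u - v) (a - b) := by
  rw [sub_eq_add_neg, sub_eq_add_neg]; exact h.ea h1 (h.en h2)

theorem be_fix {a : V} (ha : φ a = a) (v : V) : be (φ v - v) a = 0 := by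
  rw [h.sub_l, ← h.pb v a, ha, sub_self]

theorem n_add (u v : V) : φ (u + v) - (u + v) = φ u - u + (φ v - v) := by rw [h.pa]; abel
theorem n_sub (u v : V) : φ (u - v) - (u - v) = φ u - u - (φ v - v) := by rw [h.ps]; abel

theorem gam_add {u v : V} (h1 : be (φ u - u) v = 0) (h2 : be (φ v - v) u = 0) :
    κ (u + v) - be (φ (u + v)) (u + v) = κ u - be (φ u) u + (κ v - be (φ v) v) := by
  rw [h.sub_l] at h1 h2
  rw [h.ka, h.pa, h.add_l, h.add_r, h.add_r]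
  linear_combination -h1 - h2 - h.skew u v

theorem L0 {a : V} (ha : φ a = a) (hk : κ a ≠ 0) (v : V) (k : F3) :
    ∃ w, φ w - w = φ v - v ∧ κ w - be (φ w) w = k := by
  have step : ∀ v, φ (v + a) - (v + a) = φ v - v ∧
      κ (v + a) - be (φ (v + a)) (v + a) = κ v - be (φ v) v + κ a := fun v =>
    ⟨by rw [h.n_add, ha, sub_self, add_zero], by
      rw [h.gam_add (h.be_fix ha v) (by rw [ha, sub_self, h.zero_l]), ha, h.alt, sub_zero]⟩
  rcases (by decide : ∀ g c k : F3, c ≠ 0 → g = k ∨ g + c = k ∨ g + c + c = k)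
    (κ v - be (φ v) v) _ k hk with e | e | e
  · exact ⟨v, rfl, e⟩
  · exact ⟨v + a, (step v).1, (step v).2.trans e⟩
  · exact ⟨v + a + a, (step _).1.trans (step v).1, by rw [(step _).2, (step v).2, e]⟩

theorem L1 {a : V} (ha : φ a = a) (hk : κ a ≠ 0) {v : V} {k : F3} (hv : e (φ v - v) k) : φ v - v = 0 := by
  obtain ⟨w, e1, rfl⟩ := h.L0 ha hk v k
  rw [← e1] at hv ⊢
  exact sub_eq_zero.2 (h.st w hv)

theorem adj {a : V} (ha : φ a = a) (hk : κ a ≠ 0) {u : V} (hu : φ u = u) :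
    ∃ u', φ u' = u' ∧ κ u' = 0 ∧ ∀ w, be a w = 0 → be u' w = be u w := by
  rcases (by decide : ∀ g c : F3, c ≠ 0 → g = 0 ∨ g + c = 0 ∨ g + c + c = 0) (κ u) _ hk with e | e | e
  · exact ⟨u, hu, e, fun _ _ => rfl⟩
  · exact ⟨u + a, by rw [h.pa, hu, ha], by rw [h.ka, e], fun w hw => by rw [h.add_l, hw, add_zero]⟩
  · exact ⟨u + a + a, by rw [h.pa, h.pa, hu, ha], by rw [h.ka, h.ka, e],
      fun w hw => by rw [h.add_l, h.add_l, hw, add_zero, add_zero]⟩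

theorem K {a u v : V} (ha : φ a = a) (hu : φ u = u) (hv : φ v = v) (au : be a u = 0) (av : be a v = 0)
    (uv : be u v ≠ 0) : κ a = 0 := by
  by_contra hk
  obtain ⟨u', u1, u2, u3⟩ := h.adj ha hk hu
  obtain ⟨v', v1, v2, v3⟩ := h.adj ha hk hv
  have := h.iso u1 u2 v1 v2
  rw [u3 v' (by rw [h.skew, v3 a (h.alt a), ← h.skew, av]), h.skew, v3 u au, ← h.skew] at this
  exact uv this

theorem F_add {u v : V} {x y : F3} (h1 : be (φ u - u) v = 0) (h2 : be (φ v - v) u = 0)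
    (a : e (φ u - u) (κ u - be (φ u) u - x)) (b : e (φ v - v) (κ v - be (φ v) v - y)) :
    e (φ (u + v) - (u + v)) (κ (u + v) - be (φ (u + v)) (u + v) - (x + y)) := by
  rw [h.n_add, h.gam_add h1 h2, add_sub_add_comm]
  exact h.ea a b

theorem N_fix (v : V) : φ (φ (φ v) + φ v + v) = φ (φ v) + φ v + v := by rw [h.pa, h.pa, h.p3]; abel

theorem nn (v : V) : φ (φ v - v) - (φ v - v) = φ (φ v) + φ v + v := by
  rw [h.ps, ← sub_eq_zero, ← neg_eq_zero, ← h.tri (φ v)]; abel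

section B

variable (hB : ∀ w, φ w = w → ∃ v, φ (φ v) + φ v + v = w)
include hB

theorem B2 {u w : V} (hu : φ (φ u - u) = φ u - u) (hw : φ w = w) : be w u = 0 := by
  obtain ⟨v, rfl⟩ := hB w hw
  have e0 : φ (φ u) + φ u + u = 0 := by rw [← h.nn, hu, sub_self]
  have e1 : be (φ (φ v)) u = be v (φ u) := by rw [← h.pb, h.p3]
  have e2 : be (φ v) u = be v (φ (φ u)) := by rw [← h.pb, ← h.pb, h.p3]
  rw [h.add_l, h.add_l, e1, e2, ← h.add_r, ← h.add_r, add_comm (φ u), e0, h.zero_r]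

theorem L3 {u v : V} (hu : φ (φ u - u) = φ u - u) (hv : φ (φ v - v) = φ v - v)
    (a : e (φ u - u - (φ v - v)) (κ u - be (φ u) u - (κ v - be (φ v) v))) : φ u - u = φ v - v := by
  have hw : φ (φ (u - v) - (u - v)) = φ (u - v) - (u - v) := by rw [h.n_sub, h.ps, hu, hv]
  have k := h.gam_add (h.B2 hB hv hw) (h.B2 hB hw hv)
  rw [sub_add_cancel] at k
  rw [← sub_eq_zero, ← h.n_sub, sub_eq_zero]
  exact h.st _ (by rwa [k, add_sub_cancel_right, ← h.n_sub] at a)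

theorem L2 {u v : V} {a b : F3} (hu : e u a) (hv : e v b) : u = 0 ∨ v = 0 ∨ u + v = 0 ∨ u - v = 0 := by
  obtain ⟨u', rfl⟩ := hB u (h.eD hu).1
  obtain ⟨v', rfl⟩ := hB v (h.eD hv).1
  rw [← h.nn] at hu hv ⊢
  rw [← h.nn v']
  generalize φ u' - u' = p at hu ⊢
  generalize φ v' - v' = q at hv ⊢
  have fp := (h.eD hu).1
  have fq := (h.eD hv).1
  rcases (by decide : ∀ x y : F3, x = 0 ∨ y = 0 ∨ x + y = 0 ∨ x - y = 0) (κ p - be (φ p) p - a)
    (κ q - be (φ q) q - b) with k | k | k | k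
  · exact Or.inl (sub_eq_zero.2 (h.st p (by rwa [sub_eq_zero.1 k])))
  · exact Or.inr (Or.inl (sub_eq_zero.2 (h.st q (by rwa [sub_eq_zero.1 k]))))
  · refine Or.inr (Or.inr (Or.inl ?_))
    rw [← h.n_add, sub_eq_zero]
    refine h.st _ ?_
    rw [h.n_add, h.gam_add (h.B2 hB fq fp) (h.B2 hB fp fq),
      show κ p - be (φ p) p + (κ q - be (φ q) q) = a + b by linear_combination k]
    exact h.ea hu hv
  · refine Or.inr (Or.inr (Or.inr (sub_eq_zero.2 (h.L3 hB fp fq ?_))))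
    rw [show κ p - be (φ p) p - (κ q - be (φ q) q) = a - b by linear_combination k]
    exact h.es hu hv

theorem T {a b : V} (ha : φ a = a) (hb : φ b = b) (n1 : a ≠ 0) (n2 : b ≠ 0) (n3 : a + b ≠ 0)
    (n4 : a - b ≠ 0) : ∃ w, φ w = w ∧ κ w = 0 ∧ ∀ k, ¬ e w k := by
  by_contra hn
  have hE : ∀ w, φ w = w → κ w = 0 → ∃ k, e w k := fun w h1 h2 => by
    by_contra h3
    exact hn ⟨w, h1, h2, fun k hk => h3 ⟨k, hk⟩⟩
  by_cases hk : κ a = 0 ∧ κ b = 0
  · obtain ⟨k, k1⟩ := hE a ha hk.1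
    obtain ⟨k', k2⟩ := hE b hb hk.2
    rcases h.L2 hB k1 k2 with e | e | e | e <;> contradiction
  · obtain ⟨c, hc, kc⟩ : ∃ c, φ c = c ∧ κ c ≠ 0 :=
      (not_and_or.1 hk).elim (fun k => ⟨a, ha, k⟩) fun k => ⟨b, hb, k⟩
    have z : ∀ w, φ w = w → κ w = 0 → w = 0 := fun w h1 h2 => by
      obtain ⟨k, hk⟩ := hE w h1 h2
      obtain ⟨v, rfl⟩ := hB w h1
      rw [← h.nn] at hk ⊢
      exact h.L1 hc kc hk
    rcases (by decide : ∀ x y : F3, x = 0 ∨ y = 0 ∨ x + y = 0 ∨ x - y = 0) (κ a) (κ b) with k | k | k | k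
    · exact n1 (z a ha k)
    · exact n2 (z b hb k)
    · exact n3 (z _ (by rw [h.pa, ha, hb]) (by rw [h.ka, k]))
    · exact n4 (z _ (by rw [h.ps, ha, hb]) (by rw [h.ks, k]))

end B

end LA

end Gen

/-! ### coordinates -/

/-- the first basis vector of the `i`-th plane -/
def av (i : Fin 3) : V6 := (Pi.single i 1, 0)
/-- the second basis vector of the `i`-th plane -/
def bv (i : Fin 3) : V6 := (0, Pi.single i 1)

theorem Ym_a (c u : X3) : Ym c (u, 0) = (u, 0) := by simp [Ym]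
theorem Ym_b {c : X3} {i : Fin 3} (h : c i = 0) : Ym c (bv i) = bv i := by
  ext j
  · by_cases e : j = i
    · simp [Ym, bv, e, h]
    · simp [Ym, bv, e]
  · rfl
theorem Ym_n (c w : X3) : Ym c (0, w) - (0, w) = (c * w, 0) := by simp [Ym]

theorem cc : ∀ c u : F3, (c = 0 → u = 0) → c * (c * u) = u := by decide

theorem b6_ab : ∀ i j, b6 (av i) (bv j) = if i = j then 1 else 0 := by decide
theorem b6_aa (u v : X3) : b6 (u, 0) (v, 0) = 0 := by simp [b6]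
theorem b6_bb : ∀ i j, b6 (bv i) (bv j) = 0 := by decide
theorem b6_ba : ∀ i j, b6 (bv i) (av j) = if i = j then -1 else 0 := by decide

theorem two_ker : ∀ k0 k1 k2 : F3, ∃ x y : X3, (x 0).val • k0 + (x 1).val • k1 + (x 2).val • k2 = 0 ∧
    (y 0).val • k0 + (y 1).val • k1 + (y 2).val • k2 = 0 ∧ x ≠ 0 ∧ y ≠ 0 ∧ x + y ≠ 0 ∧ x - y ≠ 0 := by
  decide +kernel

theorem others : ∀ i : Fin 3, i + 1 ≠ i ∧ i + 2 ≠ i ∧ (∀ u : X3, u = Pi.single (i + 1) 1 ∨ u = Pi.single (i + 2) 1 ∨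
    u = Pi.single (i + 1) 1 + Pi.single (i + 2) 1 ∨ u = Pi.single (i + 1) 1 - Pi.single (i + 2) 1 →
    u ≠ 0 ∧ u i = 0) := by decide +kernel

theorem ng_sub : ∀ (j : Fin 3) (u : X3), u j ≠ 0 →
    u - sg j * u = Pi.single j 1 ∨ -(u - sg j * u) = Pi.single j 1 := by decide +kernel

theorem ng_fix : ∀ (j : Fin 3) (u : X3), u j = 0 → sg j * u = u := by decide +kernel

theorem sing_ne : ∀ i j : Fin 3, j ≠ i → ((Pi.single i 1 + Pi.single j 1 : X3) i ≠ 0) ∧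
    ((Pi.single i 1 - Pi.single j 1 : X3) i ≠ 0) := by decide +kernel

section A

variable {c : X3} {κ : V6 → F3} {e : V6 → F3 → Prop} (h : LA b6 (Ym c) κ e)
include h

theorem A_L1 {a : V6} (ha : Ym c a = a) (hk : κ a ≠ 0) {u : X3} (hu : ∀ j, c j = 0 → u j = 0) {k : F3}
    (he : e (u, 0) k) : u = 0 := by
  have e1 : Ym c (0, c * u) - (0, c * u) = (u, 0) := by
    rw [Ym_n]; congr 1; funext j; exact cc _ _ (hu j)
  rw [← e1] at he
  exact congrArg Prod.fst (e1.symm.trans (h.L1 ha hk he))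

theorem A_four {a : V6} (ha : Ym c a = a) (hk : κ a ≠ 0) {x y : X3} (kx : κ (x, 0) = 0) (ky : κ (y, 0) = 0)
    (hu : ∀ u, u = x ∨ u = y ∨ u = x + y ∨ u = x - y → u ≠ 0 ∧ ∀ j, c j = 0 → u j = 0) : False := by
  rcases h.i3 (Ym_a c x) kx (Ym_a c y) ky with ⟨k, e⟩ | ⟨k, e⟩ | ⟨k, e⟩ | ⟨k, e⟩
  · exact (hu _ (by simp)).1 (A_L1 h ha hk (hu _ (by simp)).2 e)
  · exact (hu _ (by simp)).1 (A_L1 h ha hk (hu _ (by simp)).2 e)
  · exact (hu (x + y) (by simp)).1 (A_L1 h ha hk (hu _ (by simp)).2 (by simpa using e))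
  · exact (hu (x - y) (by simp)).1 (A_L1 h ha hk (hu _ (by simp)).2 (by simpa using e))

theorem A_wt (i : Fin 3) : c i ≠ 0 := fun ci => by
  have one : ∀ j, b6 (Pi.single j 1, 0) (bv j) ≠ 0 := fun j => by
    rw [← av, b6_ab, if_pos rfl]; exact one_ne_zero
  obtain ⟨a, ha, hk, hj⟩ : ∃ a, Ym c a = a ∧ κ a ≠ 0 ∧ ∀ j, j ≠ i → b6 a (av j) = 0 ∧ b6 a (bv j) = 0 := by
    by_cases k : κ (av i) = 0
    · exact ⟨bv i, Ym_b ci, fun k' => one i (h.iso (Ym_a c _) k (Ym_b ci) k'),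
        fun j hj => ⟨by rw [b6_ba, if_neg hj.symm], b6_bb i j⟩⟩
    · exact ⟨av i, Ym_a c _, k, fun j hj => ⟨b6_aa _ _, by rw [b6_ab, if_neg hj.symm]⟩⟩
  have cj : ∀ j, c j = 0 → j = i := fun j cj => by_contra fun hn =>
    hk (h.K ha (Ym_a c _) (Ym_b cj) (hj j hn).1 (hj j hn).2 (one j))
  have kj : ∀ j, j ≠ i → κ (Pi.single j 1, 0) = 0 := fun j hn =>
    h.K (Ym_a c _) (Ym_a c _) (Ym_b ci) (b6_aa _ _) (by rw [← av, b6_ab, if_neg hn]) (one i)
  obtain ⟨o1, o2, o3⟩ := others i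
  exact A_four h ha hk (kj _ o1) (kj _ o2) fun u hu => ⟨(o3 u hu).1, fun j hj => cj j hj ▸ (o3 u hu).2⟩

theorem A_ker (u : X3) : κ (u, 0) = 0 := by
  by_contra hk
  have ad := add_x3 (k := fun u => κ (u, 0)) fun u v => by rw [← h.ka]; simp
  obtain ⟨x, y, h1, h2, n1, n2, n3, n4⟩ := two_ker (κ (Pi.single 0 1, 0)) (κ (Pi.single 1 1, 0))
    (κ (Pi.single 2 1, 0))
  refine A_four h (Ym_a c u) hk ((ad x).trans h1) ((ad y).trans h2) fun w hw => ⟨?_, fun j hj => absurd hj (A_wt h j)⟩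
  rcases hw with rfl | rfl | rfl | rfl <;> assumption

theorem A_fix {v : V6} (hv : Ym c v = v) : v.2 = 0 := by
  funext j
  have := congrFun (congrArg Prod.fst hv) j
  simp only [Ym, Pi.add_apply, Pi.mul_apply, add_eq_left, mul_eq_zero] at this
  exact this.resolve_left (A_wt h j)

theorem A_not : ¬ ∀ j, ∃ k, e (av j) k := fun hP => by
  have n : ∀ x : X3, Ym c (0, c * x) - (0, c * x) = (x, 0) := fun x => by
    rw [Ym_n]; congr 1; funext j; exact cc _ _ fun hj => absurd hj (A_wt h j)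
  let Fv : X3 → F3 → Prop := fun x f => e (Ym c (0, c * x) - (0, c * x))
    (κ (0, c * x) - b6 (Ym c (0, c * x)) (0, c * x) - f)
  have F0 : ∀ {x f}, Fv x f → f = 0 → x = 0 := fun {x f} a e => by
    have := h.st (0, c * x) (by simpa only [Fv, e, sub_zero] using a)
    exact congrArg Prod.fst ((n x).symm.trans (sub_eq_zero.2 this))
  have b0 : ∀ x x' : X3, x * x' = 0 → b6 (Ym c (0, c * x) - (0, c * x)) (0, c * x') = 0 := fun x x' e => by
    have := congrFun e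
    simp only [Pi.mul_apply, Pi.zero_apply] at this
    rw [n, b6_eq]
    simp only [Pi.mul_apply, Pi.zero_apply]
    linear_combination c 0 * this 0 + c 1 * this 1 + c 2 * this 2
  have FA : ∀ {x x' f f'}, Fv x f → Fv x' f' → x * x' = 0 → Fv (x + x') (f + f') := fun {x x' f f'} a b e => by
    have := h.F_add (b0 x x' e) (b0 x' x (mul_comm x x' ▸ e)) a b
    rwa [Prod.mk_add_mk, add_zero, ← mul_add] at this
  have ex : ∀ j, ∃ f, Fv (Pi.single j 1) f := fun j =>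
    let ⟨k, hk⟩ := hP j
    ⟨_, by simp only [Fv]; rw [n, sub_sub_cancel]; exact hk⟩
  obtain ⟨f0, h0⟩ := ex 0
  obtain ⟨f1, h1⟩ := ex 1
  obtain ⟨f2, h2⟩ := ex 2
  rcases (by decide : ∀ a b c : F3, a = 0 ∨ b = 0 ∨ c = 0 ∨ a + b = 0 ∨ b + c = 0 ∨ a + b + c = 0) f0 f1 f2
    with k | k | k | k | k | k
  · exact absurd (F0 h0 k) (by decide)
  · exact absurd (F0 h1 k) (by decide)
  · exact absurd (F0 h2 k) (by decide)
  · exact absurd (F0 (FA h0 h1 (by decide)) k) (by decide)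
  · exact absurd (F0 (FA h1 h2 (by decide)) k) (by decide)
  · exact absurd (F0 (FA (FA h0 h1 (by decide)) h2 (by decide)) k) (by decide)

theorem A_inv (hE : ∀ j u k, e u k → ∃ k', e (ng j u) k') :
    ∃ i, (∀ u k, e u k → ng i u = u) ∧ ∀ j, j ≠ i → ∃ k, e (av j) k := by
  obtain ⟨i, hi⟩ := not_forall.1 (A_not h)
  have z : ∀ u k, e u k → u.1 i = 0 := fun u k hu => by_contra fun hn => hi (by
    obtain ⟨k', h'⟩ := hE i u k hu
    have h2 := A_fix h (h.eD hu).1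
    have e1 : u - ng i u = (u.1 - sg i * u.1, 0) := by ext1 <;> simp [ng, h2]
    have h3 := h.es hu h'
    rw [e1] at h3
    rcases ng_sub i u.1 hn with e | e
    · exact ⟨_, by rwa [e] at h3⟩
    · have h4 := h.en h3
      rw [Prod.neg_mk, neg_zero, e] at h4
      exact ⟨_, h4⟩)
  refine ⟨i, fun u k hu => ?_, fun j hj => ?_⟩
  · rw [ng, ng_fix i _ (z u k hu), A_fix h (h.eD hu).1, mul_zero, ← A_fix h (h.eD hu).1]
  · rcases h.i3 (Ym_a c (Pi.single i 1)) (A_ker h _) (Ym_a c (Pi.single j 1)) (A_ker h _) with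
      a | a | ⟨k, a⟩ | ⟨k, a⟩
    · exact absurd a hi
    · exact a
    · exact absurd (z _ k a) (sing_ne i j hj).1
    · exact absurd (z _ k a) (sing_ne i j hj).2

/-- an involution fixing the Lagrangian pointwise is trivial -/
theorem lag {ψ : V6 → V6} (pa : ∀ u v, ψ (u + v) = ψ u + ψ v) (pb : ∀ u v, b6 (ψ u) (ψ v) = b6 u v)
    (p2 : ∀ v, ψ (ψ v) = v) (fx : ∀ u, ψ (u, 0) = (u, 0)) (v : V6) : ψ v = v := by
  have h2 : (ψ v - v).2 = 0 := by
    funext j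
    have := h.sub_l (ψ v) v (Pi.single j 1, 0)
    rw [← pb v, fx, sub_self] at this
    have e : v.2 j - (ψ v).2 j = 0 := by simpa [b6, Pi.single_apply] using this
    simpa [sub_eq_zero] using (sub_eq_zero.1 e).symm
  have h3 : ψ (ψ v - v) = ψ v - v := by
    rw [← Prod.mk.eta (p := ψ v - v), h2, fx]
  rw [add_sub' pa, p2, ← neg_sub] at h3
  exact sub_eq_zero.1 (h.eq_zero_of_neg h3)

end A

section B

theorem cst : ∀ π : Equiv.Perm (Fin 3), π ^ 3 = 1 → π ≠ 1 → ∀ u : X3,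
    (u ∘ π = u → (Pi.single 0 (u 0) ∘ π) ∘ π + Pi.single 0 (u 0) ∘ π + Pi.single 0 (u 0) = u) := by
  decide +kernel

variable {c : X3} {π : Equiv.Perm (Fin 3)} (h3 : π ^ 3 = 1) (h1 : π ≠ 1)
  {κ : V6 → F3} {e : V6 → F3 → Prop} (h : LA b6 (fun v => Ym c (pm π v)) κ e)
include h3 h1 h

theorem B_N2 (w : X3) (hw : w ∘ π = w) : (Ym c (pm π (Ym c (pm π (0, Pi.single 0 (w 0))))) +
    Ym c (pm π (0, Pi.single 0 (w 0))) + (0, Pi.single 0 (w 0))).2 = w := cst π h3 h1 w hw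

theorem B_im (w : V6) (hw : Ym c (pm π w) = w) :
    ∃ v, Ym c (pm π (Ym c (pm π v))) + Ym c (pm π v) + v = w := by
  have e2 := B_N2 h3 h1 h w.2 (congrArg Prod.snd hw)
  have f := h.N_fix (0, Pi.single 0 (w.2 0))
  obtain ⟨p, hp⟩ : ∃ p, Ym c (pm π (Ym c (pm π (0, Pi.single 0 (w.2 0))))) +
    Ym c (pm π (0, Pi.single 0 (w.2 0))) + (0, Pi.single 0 (w.2 0)) = p := ⟨_, rfl⟩
  rw [hp] at e2 f
  have f2 := h.ps w p
  have e3 : w - p = (w.1 - p.1, 0) := by ext1 <;> simp [e2]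
  simp only [hw, f, e3] at f2
  have f3 : (w.1 - p.1) ∘ π = w.1 - p.1 := by simpa [Ym, pm] using congrArg Prod.fst f2
  have e4 := cst π h3 h1 _ f3
  refine ⟨(0, Pi.single 0 (w.2 0)) + (Pi.single 0 ((w.1 - p.1) 0), 0), ?_⟩
  have pa := h.pa
  have e5 : ∀ u : X3, Ym c (pm π (u, 0)) = (u ∘ π, 0) := fun u => by simp [Ym, pm]
  rw [pa, pa, add_add_add_comm _ _ (Ym c (pm π (0, _))), add_add_add_comm _ _ (0, _), hp, e5, e5,
    ← eq_sub_iff_add_eq', e3]
  exact Prod.ext e4 (by simp)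

theorem B_two : ∃ a b : V6, Ym c (pm π a) = a ∧ Ym c (pm π b) = b ∧ b.2 = 1 ∧ a ≠ 0 ∧ b ≠ 0 ∧ a + b ≠ 0 ∧
    a - b ≠ 0 := by
  have e2 := B_N2 h3 h1 h 1 rfl
  refine ⟨(1, 0), _, by simp [Ym, pm], h.N_fix (0, Pi.single 0 1), e2, by decide, fun e => ?_,
    fun e => ?_, fun e => ?_⟩ <;> have := congrArg Prod.snd e
  · exact absurd (e2.symm.trans this) (by decide)
  · rw [Prod.snd_add, zero_add] at this
    exact absurd (e2.symm.trans this) (by decide)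
  · rw [Prod.snd_sub, zero_sub, Prod.snd_zero, neg_eq_zero] at this
    exact absurd (e2.symm.trans this) (by decide)

end B

theorem eqns_oneA : True := by
  have := @av.eq_1
  have := @bv.eq_1
  trivial

end H7.F3.One
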