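import Cfsg.Agent.Lib.F3L.PraA
import Cfsg.Agent.Lib.U63.IucB
import Cfsg.Agent.Lib.Hay.Sp
import Cfsg.Agent.Lib.GL.Basic
import Cfsg.Agent.Lib.Comp.FStar

/-! The starting configuration of the 3-local recognition of `Fi₂₃`. -/

set_option autoImplicit false

namespace H7.F3

open Subgroup Cfsg
open H87.U6.IB (exsp up_zp exists_z cent_zp)
open H62.Hay (Cm)

namespace Pra

theorem map_pw {X Y : Type*} [Group X] [Group Y] (f : X →* Y) (i j : Fin 3 → X) (x : W6) :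
    f (pw i j x) = pw (fun k => f (i k)) (fun k => f (j k)) x := by simp only [pw, map_mul, map_pow]

/-- the frame of the extraspecial group of order `2 ^ 7` -/
structure Fm {Y : Type*} [Group Y] (O : Subgroup Y) (t : O) (i j : Fin 3 → O) : Prop where
  t2 : t * t = 1
  t1 : t ≠ 1
  i2 : ∀ k, i k * i k = t
  j2 : ∀ k, j k * j k = t
  ij : ∀ k, i k * j k = j k * i k * t
  cm : ∀ k k', k ≠ k' → i k * i k' = i k' * i k ∧ i k * j k' = j k' * i k ∧ j k * j k' = j k' * j k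
  nrm : ∀ g : Y, ∃ A : W6 → W6, (∀ x, A (om6 x) = om6 (A x)) ∧
    ∀ x, g * pw i j x * g⁻¹ = pw i j (A x) ∨ g * pw i j x * g⁻¹ = (pw i j (A x) * t :)
  all : ∀ A : W6 → W6, Un A → ∃ g : Y, ∀ x, g * pw i j x * g⁻¹ = pw i j (A x) ∨ g * pw i j x * g⁻¹ = (pw i j (A x) * t :)

theorem card_cm {F : Type*} [Field F] [Fintype F] (hF : Fintype.card F = 3) : Nat.card (Cm F) = 648 := by
  rw [Cm.card_Cm, H10.card_SL_two, Nat.card_eq_fintype_card, hF]; norm_num

theorem exists_fm {Y : Type*} [Group Y] [Finite Y] {O : Subgroup Y} [O.Normal] (hO : IsExtraspecial 2 O)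
    (cO : Nat.card O = 2 ^ 7) (hC : centralizer O ≤ O) {F : Type*} [Field F] [Fintype F] (hF : Fintype.card F = 3)
    (e : Cm F ≃* Y ⧸ O) : ∃ t i j, Fm O t i j := by
  obtain ⟨t, h⟩ := H95.exists_ES_top hO
  obtain ⟨V, _, _, ⟨P⟩⟩ := h.exists_pres
  have hV : Nat.card V = 64 := by have := P.card_eq; omega
  let α := (P.autHom h).comp (MulAut.conjNormal : Y →* MulAut O)
  have kα : α.ker = O := by
    ext g
    rw [← MonoidHom.comap_ker, P.ker_autHom h]
    refine ⟨fun ⟨y, hy⟩ => ?_, fun hg => ⟨⟨g, hg⟩, by ext; rfl⟩⟩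
    refine (O.mul_mem_cancel_left (O.inv_mem y.2)).1 (hC fun x hx => ?_)
    have : (y : Y) * x * (y : Y)⁻¹ = g * x * g⁻¹ := congrArg Subtype.val (DFunLike.congr_fun hy (⟨x, hx⟩ : O))
    calc x * ((y : Y)⁻¹ * g) = (y : Y)⁻¹ * (y * x * (y : Y)⁻¹) * g := by group
      _ = (y : Y)⁻¹ * g * x := by rw [this]; group
  let β := (QuotientGroup.lift O α kα.ge).comp e.toMonoidHom
  have βi : Function.Injective β := ((QuotientGroup.injective_lift_iff O α kα.ge).2 kα.symm).comp e.injective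
  have βα : ∀ g : Y, β (e.symm g) = α g := fun g => by simp [β]
  have : CharP F 3 := charP_of_card_eq_prime hF
  have h3 : (3 : F) = 0 := CharP.cast_eq_zero F 3
  have bm : ∀ k k' v, β k (β k' v) = β (k * k') v := fun k k' v => (DFunLike.congr_fun (map_mul β k k') v).symm
  have cw : ∀ k v, β k (β (Cm.cz 2) v) = β (Cm.cz 2) (β k v) := fun k v => by rw [bm, bm, Cm.cz_comm]
  have qβ : ∀ k v, P.q (β k v) = P.q v := fun k v => by
    obtain ⟨g, hg⟩ := QuotientGroup.mk_surjective (e k)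
    rw [← e.symm_apply_apply k, ← hg, βα]
    exact P.q_autHom h _ v
  have r1 : Cm.cq 0 1 0 * Cm.cq 0 1 0 * Cm.cq (0 : F) 1 0 = 1 := by ext <;> simp [Cm.cq]; linear_combination h3
  have r2 : Cm.cz 2 * Cm.cz 2 * Cm.cz (2 : F) = 1 := by ext <;> simp [Cm.cz]; linear_combination 2 * h3
  have r3 : Cm.cq 0 1 0 * Cm.cq 0 0 1 = Cm.cz 2 * Cm.cq 0 0 1 * Cm.cq (0 : F) 1 0 := by
    ext <;> simp [Cm.cq, Cm.cz]; ring
  have om : Om P.q (β (Cm.cz 2)) := ⟨P.nondeg_of_ES h, qβ _, fpf hV (a := β (Cm.cq 0 1 0)) (b := β (Cm.cq 0 0 1))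
    (fun v => by rw [bm, bm, r1, map_one]; rfl) (fun v => by rw [bm, bm, r2, map_one]; rfl)
    (fun e => H62.Hay.two_ne_zero_of (F := F) (p := 3) (by norm_num)
      (Cm.cz_inj ((βi (e.trans (map_one β).symm)).trans Cm.cz_zero.symm)))
    (cw _) (cw _) fun v => by rw [bm, bm, bm, r3]⟩
  obtain ⟨c, co, cq⟩ := om.frame hV
  choose i hi using fun k => P.surj (c (bi k))
  choose j hj using fun k => P.surj (c (bj k))
  have cp : ∀ x y, QuadraticMap.polar P.q (c x) (c y) = p6 x y := fun x y => by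
    rw [QuadraticMap.polar, ← map_add, cq, cq, cq, p6]
  have πp : ∀ (g : O) n, P.π (g ^ n) = n • P.π g := fun g n => congrArg Multiplicative.toAdd (map_pow P.hom g n)
  have πw : ∀ x, P.π (pw i j x) = c x := fun x => by
    simp only [pw, P.π_mul, πp, hi, hj, ← map_nsmul, ← map_add, ← dec6]
  let f : Cm F → W6 → W6 := fun k x => c.symm (β k (c x))
  have fu : ∀ k, Un (f k) := fun k => ⟨fun x y => by simp only [f, map_add], fun x => c.injective (by
    simp only [f, co, cw, c.apply_symm_apply]), fun x => by rw [← cq, c.apply_symm_apply, qβ, cq]⟩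
  have act : ∀ (g : Y) x, g * pw i j x * g⁻¹ = pw i j (f (e.symm g) x) ∨
      g * pw i j x * g⁻¹ = (pw i j (f (e.symm g) x) * t :) := fun g x =>
    (P.eq_iff'.1 (show P.π (pw i j (f (e.symm g) x)) = P.π (MulAut.conjNormal g (pw i j x)) by
      rw [πw, c.apply_symm_apply, βα, ← πw]; exact P.autHom_π h _ _)).imp (congrArg Subtype.val) (congrArg Subtype.val)
  refine ⟨t, i, j, P.zz, P.z_ne, fun k => ?_, fun k => ?_, fun k => ?_, fun k k' n => ?_,
    fun g => ⟨_, (fu _).2.1, act g⟩, fun A hA => ?_⟩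
  · rw [P.sq, hi, cq, (by decide : ∀ k, q6 (bi k) = 1), H95.zp_one]
  · rw [P.sq, hj, cq, (by decide : ∀ k, q6 (bj k) = 1), H95.zp_one]
  · rw [P.comm, hi, hj, cp, (by decide : ∀ k, p6 (bi k) (bj k) = 1), H95.zp_one]
  · simp only [P.commute_iff, hi, hj, cp]
    revert k k'; decide
  · obtain ⟨k, rfl⟩ := onto (card_cm hF) (f := f) (fun k k' e' => βi (LinearEquiv.ext fun v => by
      simpa [f] using congrFun e' (c.symm v))) fu hA
    obtain ⟨g, hg⟩ := QuotientGroup.mk_surjective (e k)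
    exact ⟨g, by simpa only [hg, e.symm_apply_apply] using act g⟩

/-- a complement `s O` of `Q` in the preimage of `O`, with the Frattini argument -/
theorem exists_sec {M : Type*} [Group M] [Finite M] {Q : Subgroup M} [Q.Normal] (h3 : ∀ x ∈ Q, x ^ 3 = 1)
    {O : Subgroup (M ⧸ Q)} [O.Normal] (hO : IsPGroup 2 O) : ∃ s : O →* M, Function.Injective s ∧ ∀ g : M, ∃ n ∈ Q, ∀ x y : O,
      (n * g : M) * (x : M ⧸ Q) * ((n * g : M) : M ⧸ Q)⁻¹ = y → n * g * s x * (n * g)⁻¹ = s y := by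
  let π := QuotientGroup.mk' Q
  let P := O.comap π
  obtain ⟨S⟩ : Nonempty (Sylow 2 P) := inferInstance
  let φ : S →* O := (π.subgroupComap O).comp (S : Subgroup P).subtype
  have hs := π.subgroupComap_surjective_of_surjective O (QuotientGroup.mk'_surjective Q)
  have hφ : Function.Bijective φ := by
    refine ⟨(injective_iff_map_eq_one φ).2 fun r hr => ?_, fun y => ?_⟩
    · obtain ⟨k, hk⟩ := S.isPGroup' r
      have h1 : r ^ 3 = 1 := Subtype.ext (Subtype.ext (h3 _ ((QuotientGroup.eq_one_iff _).1 (congrArg Subtype.val hr))))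
      exact orderOf_eq_one_iff.1 (Nat.eq_one_of_dvd_coprimes (Nat.Coprime.pow_left k (by norm_num))
        (orderOf_dvd_of_pow_eq_one hk) (orderOf_dvd_of_pow_eq_one h1))
    · obtain ⟨r, hr, e⟩ : y ∈ (S.mapSurjective hs : Subgroup O) :=
        (S.mapSurjective hs).3 (hO.to_subgroup ⊤) le_top ▸ mem_top y
      exact ⟨⟨r, hr⟩, e⟩
  let ψ := MulEquiv.ofBijective φ hφ
  refine ⟨P.subtype.comp ((S : Subgroup P).subtype.comp ψ.symm.toMonoidHom),
    P.subtype_injective.comp ((S : Subgroup P).subtype_injective.comp ψ.symm.injective), fun g => ?_⟩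
  obtain ⟨a, ha, b, hb, rfl⟩ := mem_sup_of_normal_right.1 (S.normalizer_sup_eq_top ▸ mem_top g)
  obtain ⟨r, hr⟩ := hφ.2 ⟨π b, hb⟩
  have ar : a * r.1.1 ∈ normalizer (((S : Subgroup P).map P.subtype : Subgroup M) : Set M) :=
    mul_mem ha (le_normalizer (mem_map_of_mem _ r.2))
  refine ⟨a * r.1.1 * (a * b)⁻¹, ?_, fun x y e => ?_⟩
  · have : π r.1.1 = π b := congrArg Subtype.val hr
    rw [← QuotientGroup.ker_mk' Q, MonoidHom.mem_ker, map_mul, map_mul, map_inv, map_mul, this, mul_inv_cancel]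
  · rw [inv_mul_cancel_right] at e ⊢
    obtain ⟨x, rfl⟩ := ψ.surjective x
    obtain ⟨u, hu, e'⟩ := (mem_normalizer_iff.1 ar x.1.1).1 (mem_map_of_mem _ x.2)
    obtain rfl : ψ ⟨u, hu⟩ = y := Subtype.ext ((congrArg π e').trans e)
    simpa using e'.symm

theorem pr_top {M : Type*} [Group M] [Finite M] {z : M} (z1 : z ≠ 1) (zc : ∀ g, g * z = z * g) {Q : Subgroup M}
    [nQ : Q.Normal] (hC : centralizer Q ≤ Q) (hQ : IsExtraspecial 3 Q) (cQ : Nat.card Q = 3 ^ 9)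
    (h3 : ∀ x ∈ Q, x ^ 3 = 1) {O : Subgroup (M ⧸ Q)} [O.Normal] (hO : IsExtraspecial 2 O) (cO : Nat.card O = 2 ^ 7)
    (hC' : centralizer O ≤ O) {F : Type*} [Field F] [Fintype F] (hF : Fintype.card F = 3)
    (e : Cm F ≃* (M ⧸ Q) ⧸ O) : ∃ t i j, PR z Q t i j := by
  obtain ⟨t, i, j, h⟩ := exists_fm hO cO hC' hF e
  obtain ⟨s, si, hs⟩ := exists_sec h3 hO.1.1
  have zQ : z ∈ Q := hC fun q _ => zc q
  obtain ⟨z3, cm, cq⟩ := exsp hQ zQ z1 fun q _ => zc q
  have key : ∀ g : M, ∃ n ∈ Q, ∀ A : W6 → W6, (∀ x, (g : M ⧸ Q) * pw i j x * (g : M ⧸ Q)⁻¹ = pw i j (A x) ∨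
      (g : M ⧸ Q) * pw i j x * (g : M ⧸ Q)⁻¹ = (pw i j (A x) * t :)) → ∀ x,
      n * g * pw (fun k => s (i k)) (fun k => s (j k)) x * (n * g)⁻¹ = pw (fun k => s (i k)) (fun k => s (j k)) (A x) ∨
      n * g * pw (fun k => s (i k)) (fun k => s (j k)) x * (n * g)⁻¹ =
        pw (fun k => s (i k)) (fun k => s (j k)) (A x) * s t := fun g => by
    obtain ⟨n, hn, a⟩ := hs g
    rw [QuotientGroup.mk_mul, (QuotientGroup.eq_one_iff n).2 hn, one_mul] at a
    refine ⟨n, hn, fun A hA x => ?_⟩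
    simp only [← map_pw, ← map_mul]
    exact (hA x).imp (a _ _) (a _ _)
  refine ⟨s t, fun k => s (i k), fun k => s (j k), z3, z1, zQ, cQ, h3, fun x _ => zc x, cm,
    fun g _ x hx => nQ.conj_mem x hx g, fun g _ a => cq g (hC fun q hq => (a q hq).symm) a, ?_, ?_, fun _ => zc _,
    fun _ => zc _, fun k => ?_, fun k => ?_, fun k => ?_, fun k k' n => ?_, fun g _ => ?_, fun A a1 a2 a3 => ?_, ?_⟩
  · rw [← map_mul, h.t2, map_one]
  · exact fun e => h.t1 (si (e.trans s.map_one.symm))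
  · rw [← map_mul, h.i2]
  · rw [← map_mul, h.j2]
  · rw [← map_mul, h.ij, map_mul, map_mul]
  · simp only [← map_mul, h.cm k k' n, and_self]
  · obtain ⟨n, hn, a⟩ := key g
    obtain ⟨A, a1, a2⟩ := h.nrm g
    exact ⟨n, hn, A, a1, a A a2⟩
  · obtain ⟨g, hg⟩ := h.all A ⟨a1, a2, a3⟩
    obtain ⟨g, rfl⟩ := QuotientGroup.mk_surjective g
    obtain ⟨n, -, a⟩ := key g
    exact ⟨_, zc _, a A hg⟩
  · rw [(eq_top_iff' _).2 fun g => mem_centralizer_singleton_iff.2 (zc g), card_top,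
      card_eq_card_quotient_mul_card_subgroup Q, card_eq_card_quotient_mul_card_subgroup O, cQ, cO,
      ← Nat.card_congr e.toEquiv, card_cm hF]
    norm_num

theorem up {X : Type*} [Group X] {H : Subgroup X} {z t : H} {Q : Subgroup H} {i j : Fin 3 → H} (h : PR z Q t i j)
    (hH : ∀ g : X, g * z = z * g → g ∈ H) : PR (z : X) (Q.map H.subtype) t (fun k => i k) fun k => j k := by
  have w : ∀ x, pw (fun k => (i k : X)) (fun k => j k) x = (pw i j x :) := fun x => (map_pw H.subtype i j x).symm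
  refine ⟨congrArg Subtype.val h.z3, fun e => h.z1 (Subtype.ext e), mem_map_of_mem _ h.zQ,
    (card_map_of_injective H.subtype_injective).trans h.cQ, ?_, ?_, ?_, fun g hg => ?_,
    fun g hg e => up_zp.2 (h.CQ ⟨g, hH g hg⟩ (Subtype.ext hg) fun x hx => Subtype.ext (e x (mem_map_of_mem _ hx))),
    congrArg Subtype.val h.t2, fun e => h.t1 (Subtype.ext e), fun k => congrArg Subtype.val (h.iz k),
    fun k => congrArg Subtype.val (h.jz k), fun k => congrArg Subtype.val (h.i2 k),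
    fun k => congrArg Subtype.val (h.j2 k), fun k => congrArg Subtype.val (h.ij k), fun k k' n =>
      (h.cm k k' n).imp (congrArg Subtype.val) (And.imp (congrArg Subtype.val) (congrArg Subtype.val)),
    fun g hg => ?_, fun A a1 a2 a3 => ?_, ?_⟩
  · rintro _ ⟨x, hx, rfl⟩
    exact congrArg Subtype.val (h.Q3 x hx)
  · rintro _ ⟨x, hx, rfl⟩
    exact congrArg Subtype.val (h.Qz x hx)
  · rintro _ ⟨x, hx, rfl⟩ _ ⟨y, hy, rfl⟩
    exact up_zp.2 (h.Qc x hx y hy)
  · rintro _ ⟨x, hx, rfl⟩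
    exact mem_map_of_mem _ (h.nQ ⟨g, hH g hg⟩ (Subtype.ext hg) x hx)
  · obtain ⟨n, hn, A, a1, a2⟩ := h.nrm ⟨g, hH g hg⟩ (Subtype.ext hg)
    refine ⟨n, mem_map_of_mem _ hn, A, a1, fun x => ?_⟩
    rw [w, w]
    exact (a2 x).imp (congrArg Subtype.val) (congrArg Subtype.val)
  · obtain ⟨g, hg, a⟩ := h.all A a1 a2 a3
    refine ⟨g, congrArg Subtype.val hg, fun x => ?_⟩
    rw [w, w]
    exact (a x).imp (congrArg Subtype.val) (congrArg Subtype.val)
  · rw [← h.cM, ← card_map_of_injective H.subtype_injective]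
    congr 2
    ext g
    simp only [mem_map, mem_centralizer_singleton_iff]
    exact ⟨fun e => ⟨⟨g, hH g e⟩, Subtype.ext e, rfl⟩, fun ⟨x, e, e'⟩ => e' ▸ congrArg Subtype.val e⟩

end Pra

variable {G : Type*} [Group G] [Finite G]

theorem pra (Z : Subgroup G) (hZ : Nat.card ↥Z = 3) (hQ : Cfsg.IsExtraspecial 3 ↥(Cfsg.generalizedFittingSubgroup ↥(Subgroup.centralizer (Z : Set G)))) (hQcard : Nat.card ↥(Cfsg.generalizedFittingSubgroup ↥(Subgroup.centralizer (Z : Set G))) = 3 ^ 9) [hQn : (Cfsg.generalizedFittingSubgroup ↥(Subgroup.centralizer (Z : Set G))).Normal] (hexp : ∀ x ∈ Cfsg.generalizedFittingSubgroup ↥(Subgroup.centralizer (Z : Set G)), x ^ 3 = 1) (hFR : Cfsg.generalizedFittingSubgroup (↥(Subgroup.centralizer (Z : Set G)) ⧸ Cfsg.generalizedFittingSubgroup ↥(Subgroup.centralizer (Z : Set G))) = Cfsg.pCore 2 (↥(Subgroup.centralizer (Z : Set G)) ⧸ Cfsg.generalizedFittingSubgroup ↥(Subgroup.centralizer (Z : Set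 G)))) (hR : Cfsg.IsExtraspecial 2 ↥(Cfsg.pCore 2 (↥(Subgroup.centralizer (Z : Set G)) ⧸ Cfsg.generalizedFittingSubgroup ↥(Subgroup.centralizer (Z : Set G))))) (hRcard : Nat.card ↥(Cfsg.pCore 2 (↥(Subgroup.centralizer (Z : Set G)) ⧸ Cfsg.generalizedFittingSubgroup ↥(Subgroup.centralizer (Z : Set G)))) = 2 ^ 7) [hRn : (Cfsg.pCore 2 (↥(Subgroup.centralizer (Z : Set G)) ⧸ Cfsg.generalizedFittingSubgroup ↥(Subgroup.centralizer (Z : Set G)))).Normal] (hTop : ∃ (F : Type) (_ : Field F) (_ : Fintype F) (x : Cfsg.PSp 2 F), Fintype.card F = 3 ∧ orderOf x = 3 ∧ (∃ P : Sylow 3 (Cfsg.PSp 2 F), (P : Subgroup (Cfsg.PSp 2 F)) ≤ Subgroup.centralizer ({x} : Set (Cfsg.PSp 2 F))) ∧ Nonempty (((↥(Subgroup.centralizer (Z : Set G)) ⧸ Cfsg.generalizedFittingSubgroup ↥(Subgroup.centralizer (Z : Set G))) ⧸ Cfsg.pCore 2 (↥(Subgroup.centralizer (Z : Set G)) ⧸ Cfsg.generalizedFittingSubgroup ↥(Subgroup.centralizer (Z : Set G)))) ≃* ↥(Subgroup.centralizer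 ({x} : Set (Cfsg.PSp 2 F))))) :
    ∃ z Q t i j, PR z Q t i j ∧ Z = zpowers z := by
  obtain ⟨F, _, _, x, hF, hx, ⟨P, hP⟩, ⟨e⟩⟩ := hTop
  obtain ⟨z, z1, rfl⟩ := exists_z hZ
  have : CharP F 3 := charP_of_card_eq_prime hF
  have c : ∀ y ∈ (P : Subgroup (PSp 2 F)), y * x = x * y := fun y hy => mem_centralizer_singleton_iff.1 (hP hy)
  have xP : x ∈ (P : Subgroup (PSp 2 F)) := by
    have p : IsPGroup 3 (zpowers x) := IsPGroup.of_card (n := 1) (by rw [Nat.card_zpowers, hx]; rfl)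
    exact ((p.inf_normalizer_sylow P).le ⟨mem_zpowers x, centralizer_le_normalizer _ c⟩).2
  obtain ⟨e'⟩ := H62.Hay.exists_equiv (p := 3) (by norm_num) x (fun e => by rw [e, orderOf_one] at hx; omega) P xP c
  have m : ∀ g : G, g ∈ centralizer (zpowers z : Set G) ↔ g * z = z * g := fun g => by
    rw [cent_zp, mem_centralizer_singleton_iff]
  obtain ⟨t, i, j, h⟩ := Pra.pr_top (z := ⟨z, (m z).2 rfl⟩) (fun e => z1 (congrArg Subtype.val e))
    (fun g => Subtype.ext ((m g).1 g.2)) H23.centralizer_fStar_le hQ hQcard hexp hR hRcard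
    (hFR ▸ H23.centralizer_fStar_le) hF (e'.trans e.symm)
  exact ⟨z, _, _, _, _, Pra.up h fun g => (m g).2, rfl⟩

end H7.F3
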