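import Cfsg.Agent.Lib.F3L.Def8
import Cfsg.Agent.Lib.LargeExtra.Out

/-! Linear algebra for the group `2^(1+6) . 3^(1+2) . SL₂(3)`: a unitary frame of the quadratic space. -/

set_option autoImplicit false

namespace H7.F3.Pra

open QuadraticMap
open H95 (vec2_add_self zmod2_cases zmod2_add_self)

variable {V : Type*} [AddCommGroup V] [Module (ZMod 2) V]

/-- the centre of a Heisenberg group of order 27 acting on 64 vectors has no fixed vector -/
theorem fpf (hV : Nat.card V = 64) {a b w : V ≃ₗ[ZMod 2] V} (a3 : ∀ v, a (a (a v)) = v)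
    (w3 : ∀ v, w (w (w v)) = v) (w1 : w ≠ 1) (aw : ∀ v, a (w v) = w (a v)) (bw : ∀ v, b (w v) = w (b v))
    (ab : ∀ v, a (b v) = w (b (a v))) (v : V) : w (w v) = v + w v := by
  have h2 : ∀ v : V, v + v = 0 := vec2_add_self
  have : Finite V := Nat.finite_of_card_ne_zero (by omega)
  let D : AddSubgroup V :=
    { carrier := {v | v + w v + w (w v) = 0}
      add_mem' := fun {x y} (hx : _ = _) (hy : _ = _) => show _ = _ by
        simp only [map_add]; linear_combination (norm := abel) hx + hy
      zero_mem' := by simp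
      neg_mem' := fun {x} hx => by rwa [H95.vec2_neg] }
  let E : AddSubgroup V :=
    { carrier := {v | v ∈ D ∧ a v = v}
      add_mem' := fun hx hy => ⟨D.add_mem hx.1 hy.1, by rw [map_add, hx.2, hy.2]⟩
      zero_mem' := ⟨D.zero_mem, map_zero a⟩
      neg_mem' := fun {x} hx => by rwa [H95.vec2_neg] }
  have mD : ∀ {c : V ≃ₗ[ZMod 2] V}, (∀ v, c (w v) = w (c v)) → ∀ {v}, c v ∈ D ↔ v ∈ D := fun {c} hc v => by
    change _ = _ ↔ _ = _
    rw [← hc, ← hc, ← map_add, ← map_add, c.map_eq_zero_iff]
  let f : E × E × E →+ D := AddMonoidHom.mk' (fun u => ⟨u.1 + b u.2.1 + b (b u.2.2),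
    D.add_mem (D.add_mem u.1.2.1 ((mD bw).2 u.2.1.2.1)) ((mD bw).2 ((mD bw).2 u.2.2.2.1))⟩) fun u u' =>
      Subtype.ext (by simp only [Prod.fst_add, Prod.snd_add, AddSubgroup.coe_add, map_add]; abel)
  have hf : Function.Bijective f := by
    refine ⟨(injective_iff_map_eq_zero f).2 ?_, fun ⟨x, hx⟩ => ?_⟩
    · rintro ⟨⟨x, hx0, hx⟩, ⟨y, (hy : _ = _), hy'⟩, ⟨z, (hz : _ = _), hz'⟩⟩ e
      have e0 : x + b y + b (b z) = 0 := congrArg Subtype.val e
      have e1 := congrArg a e0
      simp only [map_add, map_zero, ab, bw, hx, hy', hz'] at e1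
      have e2 := congrArg a e1
      simp only [map_add, map_zero, ab, aw, bw, hx, hy', hz', w3] at e2
      have d1 := congrArg b hy
      have d2 := congrArg b (congrArg b hz)
      simp only [map_add, map_zero, bw] at d1 d2
      obtain rfl : x = 0 := by linear_combination (norm := abel) e0 + e1 + e2 - d1 - d2 - h2 x
      have e3 := congrArg w e0
      simp only [map_add, map_zero] at e3
      have e4 : b (b z) = 0 := by linear_combination (norm := abel) d2 - e1 + e3 - h2 (w (b (b z)))
      obtain rfl : z = 0 := by simpa using e4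
      obtain rfl : y = 0 := by simpa using e0
      rfl
    · have d1 : _ = _ := (mD aw).2 hx
      have d2 : _ = _ := (mD aw).2 ((mD aw).2 hx)
      have m : ∀ {v}, v ∈ D → w v ∈ D := (mD fun _ => rfl).2
      have ba : ∀ u v, b u = v → a v = w v → a u = u := fun u v e e' => b.injective (w.injective (by
        rw [← ab, e, e']))
      obtain ⟨y, hy⟩ := b.surjective (x + w (w (a x)) + w (a (a x)))
      obtain ⟨z', hz'⟩ := b.surjective (x + w (a x) + w (w (a (a x))))
      obtain ⟨z, rfl⟩ := b.surjective z'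
      refine ⟨⟨⟨x + a x + a (a x), D.add_mem (D.add_mem hx d1) d2, ?_⟩,
        ⟨y, (mD bw).1 (hy ▸ D.add_mem (D.add_mem hx (m (m d1))) (m d2)), ba _ _ hy ?_⟩,
        ⟨z, (mD bw).1 ((mD bw).1 (hz' ▸ D.add_mem (D.add_mem hx (m d1)) (m (m d2)))),
          ba _ _ rfl (b.injective (w.injective ?_))⟩⟩, Subtype.ext ?_⟩
      · simp only [map_add, a3]; abel
      · simp only [map_add, aw, a3, w3]; abel
      · rw [← ab, bw, hz']; simp only [map_add, aw, a3, w3]; abel
      · change x + a x + a (a x) + b y + b (b z) = x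
        rw [hy, hz']
        linear_combination (norm := abel) d1 + d2 + h2 x
  have c : Nat.card E ^ 3 = Nat.card D := by
    rw [← Nat.card_eq_of_bijective f hf, Nat.card_prod, Nat.card_prod]; ring
  have c4 : Nat.card E ∣ 2 ^ 2 := (Nat.pow_dvd_pow_iff three_ne_zero).1 (by
    rw [c]; exact D.card_addSubgroup_dvd_card.trans hV.dvd)
  obtain ⟨k, hk, e⟩ := (Nat.dvd_prime_pow Nat.prime_two).1 c4
  interval_cases k
  · rw [e] at c
    refine absurd (LinearEquiv.ext fun x => w.injective ?_) w1
    have : w x + w (w x) ∈ D := show _ = _ by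
      simp only [map_add, w3]; linear_combination (norm := abel) h2 x + h2 (w x) + h2 (w (w x))
    rw [AddSubgroup.eq_bot_of_card_eq D c.symm, AddSubgroup.mem_bot] at this
    change w (w x) = w x
    linear_combination (norm := abel) this - h2 (w x)
  · obtain ⟨⟨u, (hu : _ = _), hu'⟩, h0, h1⟩ := (Nat.card_eq_two_iff' (0 : E)).1 e
    have h3 : w u = u := congrArg Subtype.val (h1 ⟨w u, (mD fun _ => rfl).2 hu, by rw [aw, hu']⟩ fun e' =>
      h0 (Subtype.ext (w.map_eq_zero_iff.1 (congrArg Subtype.val e'))))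
    rw [h3, h3, h2, zero_add] at hu
    exact absurd (Subtype.ext hu) h0
  · rw [e] at c
    have : v ∈ D := AddSubgroup.eq_top_of_card_eq D (c.symm.trans hV.symm) ▸ AddSubgroup.mem_top v
    have h : _ = _ := this
    linear_combination (norm := abel) h - h2 v - h2 (w v)

/-- a quadratic space with a fixed-point-free isometry of order three -/
structure Om (q : QuadraticForm (ZMod 2) V) (w : V ≃ₗ[ZMod 2] V) : Prop where
  nd : ∀ v, (∀ u, polar q v u = 0) → v = 0
  qw : ∀ v, q (w v) = q v
  ww : ∀ v, w (w v) = v + w v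

theorem two : (2 : ZMod 2) = 0 := rfl

namespace Om

variable {q : QuadraticForm (ZMod 2) V} {w : V ≃ₗ[ZMod 2] V} (h : Om q w)
include h

theorem pw (u v : V) : polar q (w u) (w v) = polar q u v := by simp only [polar, ← map_add, h.qw]

omit h in
theorem ps (v : V) : polar q v v = 0 := by rw [polar_self, two_nsmul, zmod2_add_self]

theorem pq (v : V) : polar q v (w v) = q v := by
  rw [polar, ← h.ww, h.qw, h.qw]; linear_combination -(q v) * two

theorem pl (u v : V) : polar q (w u) v = polar q u v + polar q u (w v) := by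
  rw [← polar_add_right, ← h.pw u, map_add, h.ww, ← add_assoc, add_comm (w v), add_assoc, vec2_add_self, add_zero]

theorem step (hV : Nat.card V = 64) {e f : V} (he : q e = 1 ∨ e = 0) (hf : q f = 1 ∨ f = 0)
    (h1 : polar q e f = 0) (h2 : polar q e (w f) = 0) : ∃ v, q v = 1 ∧ (polar q e v = 0 ∧ polar q e (w v) = 0) ∧
      polar q f v = 0 ∧ polar q f (w v) = 0 := by
  let g : (ZMod 2 × ZMod 2) × ZMod 2 × ZMod 2 → V := fun x => x.1.1 • e + x.1.2 • w e + x.2.1 • f + x.2.2 • w f
  let p : V → V := fun v => v + g ((polar q (w e) v, polar q e v), polar q (w f) v, polar q f v)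
  have k : ∀ {e}, q e = 1 ∨ e = 0 → ∀ v, polar q e v * q e = polar q e v := fun he v => by
    rcases he with he | rfl <;> simp [*]
  have h3 : polar q f e = 0 := (polar_comm ..).trans h1
  have h4 : polar q f (w e) = 0 := by rw [polar_comm, h.pl, h1, h2, add_zero]
  have o : ∀ v, (polar q e (p v) = 0 ∧ polar q e (w (p v)) = 0) ∧ polar q f (p v) = 0 ∧ polar q f (w (p v)) = 0 :=
    fun v => by
      simp only [p, g, map_add, map_smul, h.ww, polar_add_right, polar_smul_right, ps, h.pq, h.pl, h1, h2, h3, h4,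
        smul_eq_mul]
      refine ⟨⟨?_, ?_⟩, ?_, ?_⟩
      · linear_combination k he v + polar q e v * two
      · linear_combination 2 * k he v + k he (w v) + (polar q e v + polar q e (w v)) * two
      · linear_combination k hf v + polar q f v * two
      · linear_combination 2 * k hf v + k hf (w v) + (polar q f v + polar q f (w v)) * two
  by_contra! n
  have q0 : ∀ v, q (p v) = 0 := fun v => (zmod2_cases _).resolve_right fun e1 => n _ e1 (o v).1 (o v).2.1 (o v).2.2
  have p0 : ∀ u, p u = 0 := fun u => h.nd _ fun v => by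
    have e1 : p u + p v = p (u + v) := by simp only [p, g, polar_add_right, add_smul]; abel
    have e2 : polar q (p v) (p u) = 0 := by rw [polar, add_comm, e1, q0, q0, q0]; rfl
    have o' := o u
    generalize p u = y at e2 o'
    rw [polar_comm]
    simpa only [p, g, polar_add_left, polar_smul_left, h.pl, o', smul_zero, add_zero] using e2
  have := Nat.card_le_card_of_surjective g fun v => ⟨_, (eq_neg_of_add_eq_zero_right (p0 v)).trans (H95.vec2_neg v)⟩
  simp [hV] at this

theorem frame (hV : Nat.card V = 64) : ∃ c : W6 ≃+ V, (∀ x, c (om6 x) = w (c x)) ∧ ∀ x, q (c x) = q6 x := by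
  obtain ⟨e, e1, -⟩ := h.step hV (.inr rfl) (.inr rfl) (by simp) (by simp)
  obtain ⟨f, f1, ⟨a1, a2⟩, -⟩ := h.step hV (.inl e1) (.inr rfl) (by simp) (by simp)
  obtain ⟨g, g1, ⟨b1, b2⟩, c1, c2⟩ := h.step hV (.inl e1) (.inl f1) a1 a2
  let c : W6 →+ V := AddMonoidHom.mk' (fun x => x.1.1 • e + x.1.2 • w e + (x.2.1.1 • f + x.2.1.2 • w f) +
    (x.2.2.1 • g + x.2.2.2 • w g)) fun x y => by simp only [Prod.fst_add, Prod.snd_add, add_smul]; abel
  have hq : ∀ x, q (c x) = q6 x := fun x => by
    have sq : ∀ a : ZMod 2, a * a = a := by decide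
    simp only [c, AddMonoidHom.mk'_apply, QuadraticMap.map_add q, QuadraticMap.map_smul, polar_add_left,
      polar_add_right, polar_smul_left, polar_smul_right, h.qw, h.pl, h.pq, h.ww, e1, f1, g1, a1, a2, b1, b2, c1,
      c2, smul_eq_mul, sq, q6, q2]
    ring
  have hi : Function.Injective c := (injective_iff_map_eq_zero c).2 fun x hx =>
    (by decide +kernel : ∀ x : W6, (∀ y, q6 (x + y) = q6 y) → x = 0) x fun y => by
      rw [← hq, ← hq, map_add, hx, zero_add]
  have : Finite V := Nat.finite_of_card_ne_zero (by omega)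
  refine ⟨AddEquiv.ofBijective c ((Nat.bijective_iff_injective_and_card c).2 ⟨hi, by simp [hV]⟩), fun x => ?_, hq⟩
  simp only [c, AddEquiv.ofBijective_apply, AddMonoidHom.mk'_apply, om6, om2, map_add, map_smul, h.ww, add_smul,
    smul_add]
  abel

end Om

def bi : Fin 3 → W6 := ![((1, 0), 0, 0), (0, (1, 0), 0), (0, 0, (1, 0))]
def bj (k : Fin 3) : W6 := om6 (bi k)
def p6 (x y : W6) : ZMod 2 := q6 (x + y) - q6 x - q6 y
def ort (x y : W6) : Prop := p6 x y = 0 ∧ p6 x (om6 y) = 0
instance decOrt (x y : W6) : Decidable (ort x y) := inferInstanceAs (Decidable (_ ∧ _))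
def un6 : Finset W6 := Finset.univ.filter fun x => q6 x = 1
def tri : Finset ((W6 × W6) × W6) :=
  (((un6 ×ˢ un6).filter fun x => ort x.1 x.2) ×ˢ un6).filter fun x => ort x.1.1 x.2 ∧ ort x.1.2 x.2

theorem card_tri : tri.card = 648 := by decide +kernel

theorem dec6 (x : W6) : x = x.1.1.val • bi 0 + x.1.2.val • bj 0 + (x.2.1.1.val • bi 1 + x.2.1.2.val • bj 1) +
    (x.2.2.1.val • bi 2 + x.2.2.2.val • bj 2) := by revert x; decide +kernel

/-- the unitary group of the frame -/
def Un (A : W6 → W6) : Prop :=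
  (∀ x y, A (x + y) = A x + A y) ∧ (∀ x, A (om6 x) = om6 (A x)) ∧ ∀ x, q6 (A x) = q6 x

theorem onto {X : Type*} (hX : Nat.card X = 648) {f : X → W6 → W6} (hf : Function.Injective f)
    (h : ∀ x, Un (f x)) {A : W6 → W6} (hA : Un A) : ∃ x, f x = A := by
  let g : {A // Un A} → tri := fun A => ⟨((A.1 (bi 0), A.1 (bi 1)), A.1 (bi 2)), by
    simp only [tri, un6, Finset.mem_filter, Finset.mem_product, Finset.mem_univ]
    simp only [ort, p6, ← A.2.2.1, ← A.2.1, A.2.2.2]
    decide⟩
  have hg : Function.Injective g := fun A B e => Subtype.ext (funext fun x => by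
    have n : ∀ A : {A // Un A}, ∀ n v, A.1 (n • v) = n • A.1 v := fun A => map_nsmul (AddMonoidHom.mk' A.1 A.2.1)
    simp only [g, Subtype.mk.injEq, Prod.mk.injEq] at e
    rw [dec6 x]
    simp only [A.2.1, B.2.1, n, bj, A.2.2.1, B.2.2.1, e])
  have : Finite X := Nat.finite_of_card_ne_zero (by omega)
  have hb := (Nat.bijective_iff_injective_and_card (g ∘ fun x => ⟨f x, h x⟩)).2
    ⟨hg.comp fun x y e => hf (congrArg Subtype.val e), by rw [hX, Nat.card_eq_finsetCard, card_tri]⟩
  obtain ⟨x, e⟩ := hb.2 (g ⟨A, hA⟩)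
  exact ⟨x, congrArg Subtype.val (hg e)⟩

end H7.F3.Pra
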