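import Cfsg.Agent.Lib.F3L.GamA

/-! A faithful module of `Q₈ ∘ Q₈ ∘ Q₈` in characteristic three contains the tensor cube. -/

set_option autoImplicit false

namespace H7.F3.Prb

open H87.U6 (F3 f3_cases)
open Gam

variable {V : Type*} [AddCommGroup V] {W : Type} [AddCommGroup W]

/-- `f ⊗ (1, I)` -/
def ex (f : W → V) (I : V →+ V) (v : W × W) : V := f v.1 + I (f v.2)

/-- `I ^ x.1 * J ^ x.2` -/
def PP (I J : V →+ V) (x : B2) (v : V) : V :=
  if x.1 = 0 then (if x.2 = 0 then v else J v) else I (if x.2 = 0 then v else J v)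

theorem ex_add {f : W → V} (ad : ∀ u v, f (u + v) = f u + f v) (I : V →+ V) (u v : W × W) :
    ex f I (u + v) = ex f I u + ex f I v := by
  simp only [ex, Prod.fst_add, Prod.snd_add, ad, map_add]; abel

theorem PP_add (I J : V →+ V) (x : B2) (u v : V) : PP I J x (u + v) = PP I J x u + PP I J x v := by
  unfold PP; split_ifs <;> simp only [map_add]

theorem PP_cm {I J K : V →+ V} (a : ∀ v, I (K v) = K (I v)) (b : ∀ v, J (K v) = K (J v)) (x : B2) (v : V) :
    PP I J x (K v) = K (PP I J x v) := by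
  unfold PP; split_ifs <;> simp only [a, b]

theorem ex_pp {f : W → V} (ad : ∀ u v, f (u + v) = f u + f v) {I J : V →+ V} (i2 : ∀ v, I (I v) = -v)
    (ij : ∀ v, J (I v) = -I (J v)) (n : ∀ w, J (f w) = f w + I (f w)) (x : B2) (v : W × W) :
    ex f I (pp x v) = PP I J x (ex f I v) := by
  have ng : ∀ v, f (-v) = -f v := map_neg (AddMonoidHom.mk' f ad)
  have sb : ∀ u v, f (u - v) = f u - f v := map_sub (AddMonoidHom.mk' f ad)
  have a : ∀ v, ex f I (pI v) = I (ex f I v) := fun v => by simp only [ex, pI, ng, map_add, i2, add_comm]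
  have b : ∀ v, ex f I (pJ v) = J (ex f I v) := fun v => by
    simp only [ex, pJ, ad, sb, map_add, map_sub, ij, n, i2]; abel
  unfold pp PP; split_ifs <;> simp only [a, b]

theorem ex_mp {f : W → V} {g : W → W} {P : V → V} {I : V →+ V} (ad : ∀ u v, P (u + v) = P u + P v)
    (c : ∀ v, P (I v) = I (P v)) (e : ∀ w, f (g w) = P (f w)) (v : W × W) : ex f I (mp g v) = P (ex f I v) := by
  simp only [ex, mp, e, ad, c]

theorem ex_n {f : W → V} {I J K : V →+ V} (a : ∀ v, I (K v) = K (I v)) (b : ∀ v, J (K v) = K (J v))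
    (n : ∀ w, J (f w) = f w + I (f w)) (v : W × W) : J (ex f K v) = ex f K v + I (ex f K v) := by
  simp only [ex, map_add, a, b, n]; abel

/-- a non-zero vector killed by `I + J + I J` -/
theorem kill (tri : ∀ v : V, v + v + v = 0) {I J : V →+ V} (i2 : ∀ v, I (I v) = -v) (j2 : ∀ v, J (J v) = -v)
    (ij : ∀ v, J (I v) = -I (J v)) (P : V → Prop) (hP : ∀ v, P v → P (I v + J v + I (J v))) {v : V} (v0 : v ≠ 0)
    (pv : P v) : ∃ v, v ≠ 0 ∧ P v ∧ J v = v + I v := by
  have k : ∀ v, I v + J v + I (J v) = 0 → J v = v + I v := fun v e => by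
    have e' := congrArg I e
    simp only [map_add, i2, map_zero] at e'
    linear_combination (norm := abel) e' - e + tri (J v)
  by_cases e : I v + J v + I (J v) = 0
  · exact ⟨v, v0, pv, k v e⟩
  · refine ⟨_, e, hP v pv, ?_⟩
    simp only [map_add, i2, j2, ij, map_neg]
    linear_combination (norm := abel) -tri (I (J v))

theorem cube (tri : ∀ v : V, v + v + v = 0) {I J : Fin 3 → V →+ V} (i2 : ∀ k v, I k (I k v) = -v)
    (j2 : ∀ k v, J k (J k v) = -v) (ij : ∀ k v, J k (I k v) = -I k (J k v))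
    (ii : ∀ k k', k ≠ k' → ∀ v, I k (I k' v) = I k' (I k v)) (ji : ∀ k k', k ≠ k' → ∀ v, J k (I k' v) = I k' (J k v))
    (jj : ∀ k k', k ≠ k' → ∀ v, J k (J k' v) = J k' (J k v)) {v : V} (v0 : v ≠ 0) :
    ∃ e : V8 → V, (∀ u v, e (u + v) = e u + e v) ∧ Function.Injective e ∧
      ∀ x v, e (pa x v) = PP (I 0) (J 0) x.1 (PP (I 1) (J 1) x.2.1 (PP (I 2) (J 2) x.2.2 (e v))) := by
  have st : ∀ k k', k ≠ k' → ∀ v, J k v = v + I k v →
      J k (I k' v + J k' v + I k' (J k' v)) = I k' v + J k' v + I k' (J k' v) + I k (I k' v + J k' v + I k' (J k' v)) :=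
    fun k k' n v e => by
      simp only [map_add, ii k k' n, ji k k' n, jj k k' n, ← ji k' k n.symm, e]; abel
  obtain ⟨v, v0, -, n0⟩ := kill tri (i2 0) (j2 0) (ij 0) (fun _ => True) (fun _ _ => trivial) v0 trivial
  obtain ⟨v, v0, n0, n1⟩ := kill tri (i2 1) (j2 1) (ij 1) _ (st 0 1 (by decide)) v0 n0
  obtain ⟨v, v0, ⟨n0, n1⟩, n2⟩ := kill tri (i2 2) (j2 2) (ij 2) (fun v => J 0 v = v + I 0 v ∧ J 1 v = v + I 1 v)
    (fun v h => ⟨st 0 2 (by decide) v h.1, st 1 2 (by decide) v h.2⟩) v0 ⟨n0, n1⟩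
  have a0 : ∀ a b : F3, (a + b).val • v = a.val • v + b.val • v := fun a b => by
    rw [← add_smul, ZMod.val_add, ← nsmul_eq_mod_nsmul _ (show 3 • v = 0 by rw [← tri v]; abel)]
  have m : ∀ k, J k v = v + I k v → ∀ a : F3, J k (a.val • v) = a.val • v + I k (a.val • v) := fun k e a => by
    rw [map_nsmul, map_nsmul, e, smul_add]
  have a1 := ex_add (f := fun a : F3 => a.val • v) a0 (I 2)
  have a2 := ex_add a1 (I 1)
  have p2 := ex_pp (f := fun a : F3 => a.val • v) a0 (i2 2) (ij 2) (m 2 n2)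
  have p1 := ex_pp a1 (i2 1) (ij 1) (ex_n (f := fun a : F3 => a.val • v) (ii 1 2 (by decide)) (ji 1 2 (by decide)) (m 1 n1))
  have p0 := ex_pp a2 (i2 0) (ij 0) (ex_n (ii 0 1 (by decide)) (ji 0 1 (by decide))
    (ex_n (f := fun a : F3 => a.val • v) (ii 0 2 (by decide)) (ji 0 2 (by decide)) (m 0 n0)))
  have c := fun k k' n => PP_cm (ii k k' n) (ji k k' n)
  have k : ∀ (x : W6) w, ex (ex (ex (fun a : F3 => a.val • v) (I 2)) (I 1)) (I 0) (pa x w) = PP (I 0) (J 0) x.1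
      (PP (I 1) (J 1) x.2.1 (PP (I 2) (J 2) x.2.2 (ex (ex (ex (fun a : F3 => a.val • v) (I 2)) (I 1)) (I 0) w))) :=
    fun x w => by
      rw [pa, p0, ex_mp (PP_add _ _ _) (c 1 0 (by decide) _) (p1 _), ex_mp (PP_add _ _ _) (c 2 0 (by decide) _)
        (ex_mp (PP_add _ _ _) (c 2 1 (by decide) _) (p2 _))]
  refine ⟨_, ex_add a2 (I 0), ?_, k⟩
  refine (injective_iff_map_eq_zero (AddMonoidHom.mk' _ (ex_add a2 (I 0)))).2 fun w hw => by_contra fun w0 => v0 ?_
  have z : ∀ k x, PP (I k) (J k) x 0 = 0 := fun k x => add_zero' (PP_add _ _ x)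
  have := irr (AddMonoidHom.mk' _ (ex_add a2 (I 0))).ker (fun x u hu => by
    rw [AddMonoidHom.mem_ker, AddMonoidHom.mk'_apply] at hu ⊢
    rw [k, hu, z, z, z]) hw w0
  simpa [ex, e0, ZMod.val_one] using this

end H7.F3.Prb
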