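import Cfsg.Agent.Lib.U63.Q

/-! Calculus in an extraspecial group of exponent three over an arbitrary symplectic space. -/

set_option autoImplicit false
set_option linter.unusedSectionVars false

namespace H7.F3

open Subgroup H87.Mc
open H87.U6 (F3 f3_cases pw_add pw_zero pw_one pw_two pw_neg pw_mul pw_inj mem_zp cj_pw cm_cj)

variable {G : Type*} [Group G] {V : Type*} [AddCommGroup V]

/-- a non-degenerate alternating form on an elementary abelian 3-group -/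
structure Sy (be : V → V → F3) : Prop where
  tri : ∀ v : V, v + v + v = 0
  add_l : ∀ u v w, be (u + v) w = be u w + be v w
  add_r : ∀ u v w, be u (v + w) = be u v + be u w
  alt : ∀ v, be v v = 0
  nd : ∀ w, (∀ v, be w v = 0) → w = 0
  inner : ∀ k : V → F3, (∀ u v, k (u + v) = k u + k v) → ∃ w, ∀ v, k v = -be w v

/-- normal form of an element of `Q` -/
def qq (z : G) (l : V → G) (v : V) (k : F3) : G := l v * z ^ k.val

/-- the extraspecial group -/
def Qs (z : G) (l : V → G) : Subgroup G := closure (insert z (Set.range l))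

/-- `g` centralizes `z` and acts on `Q / Z` as `φ` -/
def Ac (z : G) (l : V → G) (g : G) (φ : V → V) : Prop :=
  g * z = z * g ∧ ∀ v, ∃ k, g * l v * g⁻¹ = qq z l (φ v) k

/-- `g` centralizes `z` and `t` and acts on `Q / Z` as `φ`. -/
structure Ex (z : G) (l : V → G) (t g : G) (φ : V → V) : Prop where
  cz : g * z = z * g
  ct : g * t = t * g
  act : ∀ v, g * l v * g⁻¹ = l (φ v)

/-- `Q` is normal and self-centralizing in `C(z)` and `t` inverts `Q / Z`. -/
structure A0 (be : V → V → F3) (z : G) (l : V → G) (t : G) : Prop extends Sy be where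
  z3 : z ^ 3 = 1
  z1 : z ≠ 1
  lz : ∀ v, l v * z = z * l v
  lmul : ∀ u v, l u * l v = l (u + v) * z ^ (be u v).val
  linj : ∀ v, l v ∈ zpowers z → v = 0
  nQ : ∀ g, g * z = z * g → ∀ v, ∃ w, ∃ k : F3, g * l v * g⁻¹ = l w * z ^ k.val
  cQ : ∀ g, g * z = z * g → (∀ v, g * l v = l v * g) → g ∈ zpowers z
  t2 : t * t = 1
  tz : t * z = z * t
  tl : ∀ v, t * l v * t⁻¹ = l (-v)

/-- `Z` is not weakly closed in `C(z)` -/
def NW (z : G) : Prop := ∃ g, g * z * g⁻¹ * z = z * (g * z * g⁻¹) ∧ g * z * g⁻¹ ∉ zpowers z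

theorem eqns_q : True := trivial

theorem three : (3 : F3) = 0 := rfl

namespace Sy

variable {be : V → V → F3} (h : Sy be)
include h

theorem zero_l (v : V) : be 0 v = 0 := by simpa using h.add_l 0 0 v
theorem zero_r (v : V) : be v 0 = 0 := by simpa using h.add_r v 0 0
theorem neg_l (u v : V) : be (-u) v = -be u v :=
  eq_neg_of_add_eq_zero_left (by rw [← h.add_l, neg_add_cancel, h.zero_l])
theorem neg_r (u v : V) : be u (-v) = -be u v :=
  eq_neg_of_add_eq_zero_left (by rw [← h.add_r, neg_add_cancel, h.zero_r])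
theorem sub_l (u v w : V) : be (u - v) w = be u w - be v w := by
  rw [sub_eq_add_neg, h.add_l, h.neg_l, sub_eq_add_neg]
theorem sub_r (u v w : V) : be u (v - w) = be u v - be u w := by
  rw [sub_eq_add_neg, h.add_r, h.neg_r, sub_eq_add_neg]
theorem skew (u v : V) : be u v = -be v u := by
  have := h.alt (u + v)
  rw [h.add_l, h.add_r, h.add_r, h.alt, h.alt] at this
  linear_combination this
theorem two (v : V) : v + v = -v := eq_neg_of_add_eq_zero_left (h.tri v)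
theorem eq_zero_of_neg {v : V} (e : -v = v) : v = 0 := by
  have := h.tri v
  rwa [h.two, e, h.two, e] at this

end Sy

theorem add_zero' {φ : V → V} (h : ∀ u v, φ (u + v) = φ u + φ v) : φ 0 = 0 := by simpa using h 0 0
theorem add_neg' {φ : V → V} (h : ∀ u v, φ (u + v) = φ u + φ v) (v : V) : φ (-v) = -φ v :=
  eq_neg_of_add_eq_zero_left (by rw [← h, neg_add_cancel, add_zero' h])
theorem add_sub' {φ : V → V} (h : ∀ u v, φ (u + v) = φ u + φ v) (u v : V) : φ (u - v) = φ u - φ v := by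
  rw [sub_eq_add_neg, h, add_neg' h, sub_eq_add_neg]

theorem cz {z g : G} (hg : g * z = z * g) (n : ℕ) : g * z ^ n = z ^ n * g :=
  ((show Commute g z from hg).pow_right n).eq

theorem cjz {z g : G} (hg : g * z = z * g) (n : ℕ) : g * z ^ n * g⁻¹ = z ^ n := cm_cj.1 (cz hg n)

theorem q0 (z : G) (l : V → G) (v : V) : qq z l v 0 = l v := by rw [qq, pw_zero, mul_one]

theorem zQ {z : G} {l : V → G} : z ∈ Qs z l := Subgroup.subset_closure (Set.mem_insert _ _)
theorem ZQ {z : G} {l : V → G} : zpowers z ≤ Qs z l := zpowers_le.2 zQ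
theorem lQ {z : G} {l : V → G} (v : V) : l v ∈ Qs z l := Subgroup.subset_closure (Or.inr ⟨v, rfl⟩)
theorem qQ {z : G} {l : V → G} (v : V) (k : F3) : qq z l v k ∈ Qs z l := mul_mem (lQ v) (pow_mem zQ _)

theorem Ac.congr {z : G} {l : V → G} {g : G} {φ φ' : V → V} (a : Ac z l g φ) (e : ∀ v, φ v = φ' v) :
    Ac z l g φ' := funext e ▸ a

namespace Ex

variable {z : G} {l : V → G} {t g g' : G} {φ φ' : V → V}

theorem ac (a : Ex z l t g φ) : Ac z l g φ := ⟨a.cz, fun v => ⟨0, by rw [a.act, q0]⟩⟩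

theorem q (a : Ex z l t g φ) (v : V) (k : F3) : g * qq z l v k * g⁻¹ = qq z l (φ v) k := by
  rw [qq, ← conj_mul, a.act, cjz a.cz, qq]

theorem mul (a : Ex z l t g φ) (b : Ex z l t g' φ') : Ex z l t (g * g') fun v => φ (φ' v) :=
  ⟨by rw [mul_assoc, b.cz, ← mul_assoc, a.cz, mul_assoc],
    by rw [mul_assoc, b.ct, ← mul_assoc, a.ct, mul_assoc], fun v => by rw [← a.act, ← b.act]; group⟩

theorem congr (a : Ex z l t g φ) (e : ∀ v, φ v = φ' v) : Ex z l t g φ' := funext e ▸ a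

theorem inv (a : Ex z l t g φ) (e : ∀ v, φ (φ' v) = v) : Ex z l t g⁻¹ φ' :=
  ⟨((show Commute g z from a.cz).inv_left).eq, ((show Commute g t from a.ct).inv_left).eq, fun v => by
    rw [← e v, ← a.act, e]; group⟩

theorem one : Ex z l t 1 id := ⟨by simp, by simp, fun v => by simp⟩

theorem pow (a : Ex z l t g φ) : ∀ n : ℕ, Ex z l t (g ^ n) φ^[n]
  | 0 => by rw [pow_zero]; exact one
  | n + 1 => by rw [pow_succ]; exact (mul (pow a n) a :)

end Ex

namespace A0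

variable {be : V → V → F3} {z : G} {l : V → G} {t : G} (h : A0 be z l t)
include h

theorem zz (a b : F3) : z ^ (a + b).val = z ^ a.val * z ^ b.val := pw_add h.z3 a b

theorem lzn (v : V) (n : ℕ) : l v * z ^ n = z ^ n * l v := cz (h.lz v) n

theorem l0 : l 0 = 1 := by
  have := h.lmul 0 0
  rw [add_zero, h.alt, pw_zero, mul_one] at this
  exact mul_eq_left.1 this

theorem linv (v : V) : l (-v) = (l v)⁻¹ := by
  refine eq_inv_of_mul_eq_one_right ?_
  rw [h.lmul, add_neg_cancel, h.neg_r, h.alt, neg_zero, h.l0, pw_zero, mul_one]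

theorem qz (k : F3) : qq z l 0 k = z ^ k.val := by rw [qq, h.l0, one_mul]
theorem q00 : qq z l 0 0 = 1 := by rw [q0, h.l0]
theorem q01 : qq z l 0 1 = z := by rw [h.qz, pw_one]

theorem qmul (u v : V) (a b : F3) : qq z l u a * qq z l v b = qq z l (u + v) (be u v + a + b) := by
  rw [qq, qq, qq, h.zz, h.zz, ← mul_assoc, ← mul_assoc, ← mul_assoc, ← h.lmul, mul_assoc (l u),
    ← h.lzn, mul_assoc (l u) (l v)]

theorem qinv (u : V) (a : F3) : (qq z l u a)⁻¹ = qq z l (-u) (-a) := by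
  refine (eq_inv_of_mul_eq_one_right ?_).symm
  rw [h.qmul, add_neg_cancel, h.neg_r, h.alt, neg_zero, zero_add, add_neg_cancel, h.q00]

theorem q_one {u : V} {a : F3} (e : qq z l u a = 1) : u = 0 ∧ a = 0 := by
  obtain rfl := h.linj u (by
    rw [qq, mul_eq_one_iff_eq_inv] at e
    exact e ▸ inv_mem (pow_mem (mem_zpowers z) _))
  exact ⟨rfl, pw_inj h.z3 h.z1 (by rwa [h.qz] at e)⟩

theorem q_inj {u v : V} {a b : F3} (e : qq z l u a = qq z l v b) : u = v ∧ a = b := by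
  have := h.q_one (u := u + -v) (a := be u (-v) + a + -b) (by rw [← h.qmul, ← h.qinv, e, mul_inv_cancel])
  obtain rfl : u = v := add_neg_eq_zero.1 this.1
  refine ⟨rfl, ?_⟩
  have e2 := this.2
  rwa [h.neg_r, h.alt, neg_zero, zero_add, add_neg_eq_zero] at e2

theorem l_inj {u v : V} (e : l u = l v) : u = v := (h.q_inj (by rwa [q0, q0])).1

theorem q_zp {u : V} {a : F3} (e : qq z l u a ∈ zpowers z) : u = 0 := by
  obtain ⟨k, e⟩ := (mem_zp h.z3).1 e
  exact (h.q_inj (e.trans (h.qz k).symm)).1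

theorem qcj (u v : V) (a b : F3) :
    qq z l u a * qq z l v b * (qq z l u a)⁻¹ = qq z l v (b - be u v) := by
  rw [h.qinv, h.qmul, h.qmul, add_right_comm u, add_neg_cancel, zero_add]
  congr 1
  rw [h.neg_r, h.add_l, h.alt, h.skew v u]
  linear_combination be u v * three

theorem lcj (u v : V) : l u * l v * (l u)⁻¹ = qq z l v (-be u v) := by
  simpa only [q0, zero_sub] using h.qcj u v 0 0

theorem qcm {u v : V} (a b : F3) : qq z l u a * qq z l v b = qq z l v b * qq z l u a ↔ be u v = 0 := by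
  rw [cm_cj, h.qcj]
  exact ⟨fun e => sub_eq_self.1 (h.q_inj e).2, fun e => by rw [e, sub_zero]⟩

theorem lcm {u v : V} (e : be u v = 0) : l u * l v = l v * l u := by
  simpa only [q0] using (h.qcm 0 0).2 e

theorem qcube (u : V) (a : F3) : qq z l u a ^ 3 = 1 := by
  rw [pow_succ, pow_two, h.qmul, h.qmul, h.tri, ← h.q00]
  congr 1
  rw [h.add_l, h.alt]
  linear_combination a * three

theorem lcube (u : V) : l u ^ 3 = 1 := q0 z l u ▸ h.qcube u 0

theorem qH (u : V) (a : F3) : qq z l u a * z = z * qq z l u a := by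
  rw [qq, mul_assoc, ← pow_succ, pow_succ', ← mul_assoc, h.lz, mul_assoc]

theorem memQ {g : G} : g ∈ Qs z l ↔ ∃ v k, g = qq z l v k := by
  refine ⟨fun hg => ?_, by rintro ⟨v, k, rfl⟩; exact qQ v k⟩
  induction hg using closure_induction with
  | mem x hx =>
    rcases hx with rfl | ⟨v, rfl⟩
    exacts [⟨0, 1, h.q01.symm⟩, ⟨v, 0, (q0 _ _ v).symm⟩]
  | one => exact ⟨0, 0, h.q00.symm⟩
  | mul x y _ _ a b =>
    obtain ⟨u, a, rfl⟩ := a
    obtain ⟨v, b, rfl⟩ := b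
    exact ⟨_, _, h.qmul u v a b⟩
  | inv x _ a =>
    obtain ⟨u, a, rfl⟩ := a
    exact ⟨_, _, h.qinv u a⟩

theorem QH {g : G} (hg : g ∈ Qs z l) : g * z = z * g := by
  obtain ⟨v, k, rfl⟩ := h.memQ.1 hg
  exact h.qH v k

theorem Q3 {g : G} (hg : g ∈ Qs z l) : g ^ 3 = 1 := by
  obtain ⟨v, k, rfl⟩ := h.memQ.1 hg
  exact h.qcube v k

theorem pgQ : IsPGroup 3 (Qs z l) := fun g => ⟨1, Subtype.ext (by simpa using h.Q3 g.2)⟩

/-- the subgroups of `Q` containing `Z` -/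
def pre (W : AddSubgroup V) : Subgroup G where
  carrier := {g | ∃ v ∈ W, ∃ k, g = qq z l v k}
  one_mem' := ⟨0, zero_mem _, 0, h.q00.symm⟩
  mul_mem' := by
    rintro _ _ ⟨u, hu, a, rfl⟩ ⟨v, hv, b, rfl⟩
    exact ⟨_, add_mem hu hv, _, h.qmul u v a b⟩
  inv_mem' := by
    rintro _ ⟨u, hu, a, rfl⟩
    exact ⟨_, neg_mem hu, _, h.qinv u a⟩

theorem mem_pre {W : AddSubgroup V} {g : G} : g ∈ h.pre W ↔ ∃ v ∈ W, ∃ k, g = qq z l v k := Iff.rfl

theorem q_mem_pre {W : AddSubgroup V} {v : V} {k : F3} : qq z l v k ∈ h.pre W ↔ v ∈ W :=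
  ⟨fun ⟨_, hu, _, e⟩ => (h.q_inj e).1 ▸ hu, fun hv => ⟨v, hv, k, rfl⟩⟩

theorem pre_le (W : AddSubgroup V) : h.pre W ≤ Qs z l := by
  rintro _ ⟨v, -, k, rfl⟩; exact qQ v k

theorem card_pre (W : AddSubgroup V) : Nat.card (h.pre W) = 3 * Nat.card W := by
  rw [← Nat.card_congr (Equiv.ofBijective (fun p : W × F3 => (⟨_, p.1, p.1.2, p.2, rfl⟩ : h.pre W))
    ⟨fun p p' e => Prod.ext (Subtype.ext (h.q_inj (congrArg Subtype.val e)).1) (h.q_inj (congrArg Subtype.val e)).2,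
      fun g => by
        obtain ⟨v, hv, k, e⟩ := g.2
        exact ⟨(⟨v, hv⟩, k), Subtype.ext e.symm⟩⟩), Nat.card_prod, Nat.card_zmod, mul_comm]

theorem pre_top : h.pre ⊤ = Qs z l := by
  ext g; rw [h.memQ, h.mem_pre]; simp

theorem cardQ : Nat.card (Qs z l) = 3 * Nat.card V := by
  rw [← h.pre_top, h.card_pre, AddSubgroup.card_top]

/-- the image of a subgroup in `Q / Z` -/
def bar (B : Subgroup G) : AddSubgroup V where
  carrier := {v | ∃ k, qq z l v k ∈ B}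
  zero_mem' := ⟨0, h.q00 ▸ one_mem B⟩
  add_mem' := by
    rintro u v ⟨a, ha⟩ ⟨b, hb⟩
    exact ⟨_, h.qmul u v a b ▸ mul_mem ha hb⟩
  neg_mem' := by
    rintro u ⟨a, ha⟩
    exact ⟨_, h.qinv u a ▸ inv_mem ha⟩

theorem mem_bar {B : Subgroup G} {v : V} : v ∈ h.bar B ↔ ∃ k, qq z l v k ∈ B := Iff.rfl

theorem pre_bar {B : Subgroup G} (hz : z ∈ B) : h.pre (h.bar B) = B ⊓ Qs z l := by
  ext g
  refine ⟨?_, fun ⟨hB, hQ⟩ => ?_⟩
  · rintro ⟨v, ⟨a, ha⟩, k, rfl⟩
    refine ⟨?_, qQ v k⟩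
    have := mul_mem ha (pow_mem hz (k - a).val)
    rwa [← h.qz, h.qmul, add_zero, h.zero_r, zero_add, add_sub_cancel] at this
  · obtain ⟨v, k, rfl⟩ := h.memQ.1 hQ
    exact ⟨v, ⟨k, hB⟩, k, rfl⟩

theorem card_bar {B : Subgroup G} (hz : z ∈ B) : Nat.card (B ⊓ Qs z l : Subgroup G) = 3 * Nat.card (h.bar B) := by
  rw [← h.pre_bar hz, h.card_pre]

theorem bar_uniq {B : Subgroup G} (hz : z ∉ B) {v : V} {a b : F3} (ha : qq z l v a ∈ B) (hb : qq z l v b ∈ B) :
    a = b := by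
  have := mul_mem ha (inv_mem hb)
  rw [h.qinv, h.qmul, add_neg_cancel, h.neg_r, h.alt, neg_zero, zero_add, h.qz] at this
  by_contra hne
  rcases f3_cases (a + -b) with e | e | e <;> rw [e] at this
  · exact hne (add_neg_eq_zero.1 e)
  · exact hz (by rwa [pw_one] at this)
  · exact hz (by rwa [pw_two h.z3, inv_mem_iff] at this)

theorem card_bar' {B : Subgroup G} (hz : z ∉ B) : Nat.card (B ⊓ Qs z l : Subgroup G) = Nat.card (h.bar B) := by
  choose k hk using fun v : h.bar B => v.2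
  refine (Nat.card_congr (Equiv.ofBijective (fun v : h.bar B => (⟨_, hk v, qQ _ _⟩ : (B ⊓ Qs z l : Subgroup G)))
    ⟨fun p p' e => Subtype.ext (h.q_inj (congrArg Subtype.val e)).1, fun g => ?_⟩)).symm
  obtain ⟨v, a, e⟩ := h.memQ.1 g.2.2
  have ha : qq z l v a ∈ B := e ▸ g.2.1
  exact ⟨⟨v, a, ha⟩, Subtype.ext (e ▸ congrArg (qq z l v) (h.bar_uniq hz (hk ⟨v, a, ha⟩) ha))⟩

theorem exists_ac {g : G} (hg : g * z = z * g) : ∃ φ, Ac z l g φ := by
  choose φ k e using h.nQ g hg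
  exact ⟨φ, hg, fun v => ⟨k v, e v⟩⟩

theorem ac_q' {g : G} {φ : V → V} (a : Ac z l g φ) (v : V) :
    ∃ k, ∀ m, g * qq z l v m * g⁻¹ = qq z l (φ v) (k + m) := by
  obtain ⟨k, e⟩ := a.2 v
  refine ⟨k, fun m => ?_⟩
  rw [qq, ← conj_mul, e, cjz a.1, qq, qq, h.zz, mul_assoc]

theorem nQ' {g x : G} (hg : g * z = z * g) (hx : x ∈ Qs z l) : g * x * g⁻¹ ∈ Qs z l := by
  obtain ⟨φ, a⟩ := h.exists_ac hg
  obtain ⟨v, k, rfl⟩ := h.memQ.1 hx
  obtain ⟨m, e⟩ := h.ac_q' a v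
  exact e k ▸ qQ _ _

theorem ac_mul {g g' : G} {φ φ' : V → V} (a : Ac z l g φ) (b : Ac z l g' φ') :
    Ac z l (g * g') fun v => φ (φ' v) := by
  refine ⟨by rw [mul_assoc, b.1, ← mul_assoc, a.1, mul_assoc], fun v => ?_⟩
  obtain ⟨k, e⟩ := b.2 v
  obtain ⟨m, e'⟩ := h.ac_q' a (φ' v)
  exact ⟨_, by rw [← e' k, ← e]; group⟩

theorem ac_uniq {g : G} {φ φ' : V → V} (a : Ac z l g φ) (b : Ac z l g φ') (v : V) : φ v = φ' v := by
  obtain ⟨k, e⟩ := a.2 v
  obtain ⟨m, e'⟩ := b.2 v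
  exact (h.q_inj (e.symm.trans e')).1

theorem ac_q (u : V) (a : F3) : Ac z l (qq z l u a) id :=
  ⟨h.qH u a, fun v => ⟨_, by rw [← q0 z l v, h.qcj]; rfl⟩⟩

theorem ac_Q {g : G} (hg : g ∈ Qs z l) : Ac z l g id := by
  obtain ⟨v, k, rfl⟩ := h.memQ.1 hg
  exact h.ac_q v k

theorem ac_one : Ac z l 1 id := h.ac_Q (one_mem _)

theorem ac_inv {g : G} {φ φ' : V → V} (a : Ac z l g φ) (e : ∀ v, φ (φ' v) = v) : Ac z l g⁻¹ φ' := by
  refine ⟨((show Commute g z from a.1).inv_left).eq, fun v => ?_⟩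
  obtain ⟨k, e'⟩ := h.ac_q' a (φ' v)
  refine ⟨-k, ?_⟩
  have := e' (-k)
  rw [e, add_neg_cancel, q0] at this
  rw [← this]; group

theorem ac_pow {g : G} {φ : V → V} (a : Ac z l g φ) : ∀ n : ℕ, Ac z l (g ^ n) φ^[n]
  | 0 => by rw [pow_zero]; exact h.ac_one
  | n + 1 => by rw [pow_succ]; exact (h.ac_mul (ac_pow a n) a :)

theorem ac_add_be {g : G} {φ : V → V} (a : Ac z l g φ) (u v : V) :
    φ (u + v) = φ u + φ v ∧ be (φ u) (φ v) = be u v := by
  obtain ⟨k, e⟩ := h.ac_q' a u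
  obtain ⟨m, e'⟩ := h.ac_q' a v
  obtain ⟨n, e''⟩ := h.ac_q' a (u + v)
  have k1 := e'' (be u v + 0 + 0)
  rw [← h.qmul, ← conj_mul, e, e', h.qmul] at k1
  refine ⟨(h.q_inj k1).1.symm, ?_⟩
  have k2 := e' (0 - be u v)
  rw [← h.qcj u v 0, show g * (qq z l u 0 * qq z l v 0 * (qq z l u 0)⁻¹) * g⁻¹ =
    g * qq z l u 0 * g⁻¹ * (g * qq z l v 0 * g⁻¹) * (g * qq z l u 0 * g⁻¹)⁻¹ by group, e, e', h.qcj] at k2
  have := (h.q_inj k2).2
  linear_combination -this

theorem ac_add {g : G} {φ : V → V} (a : Ac z l g φ) (u v : V) : φ (u + v) = φ u + φ v := (h.ac_add_be a u v).1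
theorem ac_be {g : G} {φ : V → V} (a : Ac z l g φ) (u v : V) : be (φ u) (φ v) = be u v := (h.ac_add_be a u v).2

/-- the central part of the action is additive -/
theorem ac_kap {g : G} {φ : V → V} (a : Ac z l g φ) : ∃ κ : V → F3, (∀ u v, κ (u + v) = κ u + κ v) ∧
    ∀ v m, g * qq z l v m * g⁻¹ = qq z l (φ v) (κ v + m) := by
  choose k e using fun v => h.ac_q' a v
  refine ⟨k, fun u v => ?_, e⟩
  have k1 := e (u + v) (be u v + 0 + 0)
  rw [← h.qmul, ← conj_mul, e, e, h.qmul, h.ac_be a] at k1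
  have := (h.q_inj k1).2
  linear_combination -this

theorem ac_inj {g : G} {φ : V → V} (a : Ac z l g φ) {u v : V} (e : φ u = φ v) : u = v := by
  obtain ⟨k, e1⟩ := h.ac_q' a u
  obtain ⟨m, e2⟩ := h.ac_q' a v
  have := (e1 m).trans (by rw [e, add_comm, ← e2 k])
  exact (h.q_inj (by simpa using this)).1

/-- an element acting trivially on `Q / Z` lies in `Q` -/
theorem memQ_of_ac {g : G} (a : Ac z l g id) : g ∈ Qs z l := by
  obtain ⟨k, ad, e⟩ := h.ac_kap a
  obtain ⟨w, hk⟩ := h.inner k ad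
  have := h.cQ ((l w)⁻¹ * g) (by rw [mul_assoc, a.1, ← mul_assoc,
    ((show Commute (l w) z from h.lz w).inv_left).eq, mul_assoc]) fun v => by
      have e1 := e v 0
      rw [q0, add_zero, hk, id, ← h.lcj] at e1
      rw [cm_cj, mul_inv_rev, inv_inv, show (l w)⁻¹ * g * l v * (g⁻¹ * l w) =
        (l w)⁻¹ * (g * l v * g⁻¹) * l w by group, e1]
      group
  simpa using mul_mem (lQ (z := z) (l := l) w) (ZQ this)

/-- two elements with the same action differ by an element of `Q` -/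
theorem div_memQ {g g' : G} {φ : V → V} (a : Ac z l g φ) (b : Ac z l g' φ) : g⁻¹ * g' ∈ Qs z l := by
  obtain ⟨ψ, c⟩ := h.exists_ac ((show Commute g z from a.1).inv_left).eq
  have := h.ac_uniq (h.ac_mul c a) (inv_mul_cancel g ▸ h.ac_one)
  exact h.memQ_of_ac ((h.ac_mul c b).congr this)

theorem div_memQ' {g g' : G} {φ : V → V} (a : Ac z l g φ) (b : Ac z l g' φ) : g' * g⁻¹ ∈ Qs z l := by
  simpa [mul_assoc] using h.nQ' a.1 (h.div_memQ a b)

theorem tinv : t⁻¹ = t := inv_eq_of_mul_eq_one_right h.t2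

theorem tq (v : V) (k : F3) : t * qq z l v k * t⁻¹ = qq z l (-v) k := by
  rw [qq, ← conj_mul, h.tl, cjz h.tz, qq]

theorem ex_t : Ex z l t t fun v => -v := ⟨h.tz, rfl, h.tl⟩

theorem ex_of_ac {g : G} {φ : V → V} (a : Ac z l g φ) (ct : g * t = t * g) : Ex z l t g φ := by
  refine ⟨a.1, ct, fun v => ?_⟩
  obtain ⟨k, e⟩ := a.2 v
  have e1 : t * (g * l v * g⁻¹) * t⁻¹ = (g * l v * g⁻¹)⁻¹ := by
    rw [show t * (g * l v * g⁻¹) * t⁻¹ = t * g * l v * (t * g)⁻¹ by group, ← ct,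
      show g * t * l v * (g * t)⁻¹ = g * (t * l v * t⁻¹) * g⁻¹ by group, h.tl, h.linv]
    group
  rw [e, h.tq, h.qinv] at e1
  rw [e, (by decide : ∀ k : F3, k = -k → k = 0) k (h.q_inj e1).2, q0]

/-- `C(z) = Q C(z, t)`; the correction is `g t g⁻¹ t⁻¹` -/
theorem ex_adj {g : G} {φ : V → V} (a : Ac z l g φ) :
    g * t * g⁻¹ * t⁻¹ ∈ Qs z l ∧ Ex z l t (g * t * g⁻¹ * t⁻¹ * g) φ := by
  have c := h.ac_mul h.ex_t.ac a
  have d : Ac z l (g * t) fun v => -φ v := (h.ac_mul a h.ex_t.ac).congr fun v => add_neg' (h.ac_add a) v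
  have m := h.nQ' c.1 (h.div_memQ c d)
  rw [show t * g * ((t * g)⁻¹ * (g * t)) * (t * g)⁻¹ = g * t * g⁻¹ * t⁻¹ by group] at m
  exact ⟨m, h.ex_of_ac ((h.ac_mul (h.ac_Q m) a).congr fun _ => rfl) (cent_adj (by group) h.t2 (h.Q3 m))⟩

theorem exists_ex {g : G} {φ : V → V} (a : Ac z l g φ) : ∃ n ∈ Qs z l, Ex z l t (n * g) φ :=
  ⟨_, h.ex_adj a⟩

theorem ex_z (n : ℕ) : Ex z l t (z ^ n) id :=
  ⟨(Commute.refl z).pow_left n, (cz h.tz n).symm, fun v => cm_cj.1 (h.lzn v n).symm⟩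

theorem ex_eq {g g' : G} {φ φ' : V → V} (a : Ex z l t g φ) (b : Ex z l t g' φ') (e : ∀ v, φ v = φ' v) :
    ∃ k : F3, g' = g * z ^ k.val := by
  obtain ⟨k, e'⟩ := (mem_zp h.z3).1 (h.cQ (g⁻¹ * g')
    ((show Commute g z from a.cz).inv_left.mul_left b.cz).eq fun v => by
      rw [cm_cj, show g⁻¹ * g' * l v * (g⁻¹ * g')⁻¹ = g⁻¹ * (g' * l v * g'⁻¹) * g by group, b.act, ← e,
        ← a.act]
      group)
  exact ⟨k, by rw [← e']; group⟩

theorem ex_eq4 {g g' : G} {φ φ' : V → V} (a : Ex z l t g φ) (b : Ex z l t g' φ') (e : ∀ v, φ v = φ' v)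
    (g4 : g ^ 4 = 1) (g4' : g' ^ 4 = 1) : g = g' := by
  obtain ⟨k, rfl⟩ := h.ex_eq a b e
  rw [((show Commute g z from a.cz).pow_right _).mul_pow, g4, one_mul, pow_succ, ← pow_mul, mul_comm,
    pow_mul, h.z3, one_pow, one_mul] at g4'
  rw [g4', mul_one]

/-- transport along an isomorphism -/
theorem map {G' : Type*} [Group G'] (f : G ≃* G') : A0 be (f z) (fun v => f (l v)) (f t) where
  toSy := h.toSy
  z3 := by rw [← map_pow, h.z3, map_one]
  z1 := (map_ne_one_iff _ f.injective).2 h.z1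
  lz v := by rw [← map_mul, h.lz, map_mul]
  lmul u v := by rw [← map_mul, h.lmul, map_mul, map_pow]
  linj v hv := h.linj v (by
    obtain ⟨n, e⟩ := hv
    exact ⟨n, f.injective (by rw [← e]; simp)⟩)
  nQ g hg v := by
    obtain ⟨g, rfl⟩ := f.surjective g
    obtain ⟨w, k, e⟩ := h.nQ g (f.injective (by simpa using hg)) v
    exact ⟨w, k, by simpa using congrArg f e⟩
  cQ g hg hv := by
    obtain ⟨g, rfl⟩ := f.surjective g
    obtain ⟨n, e⟩ := h.cQ g (f.injective (by simpa using hg)) fun v => f.injective (by simpa using hv v)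
    exact ⟨n, by rw [← e]; simp⟩
  t2 := by rw [← map_mul, h.t2, map_one]
  tz := by rw [← map_mul, h.tz, map_mul]
  tl v := by simpa using congrArg f (h.tl v)

end A0

section Map

variable {G' : Type*} [Group G'] (f : G ≃* G') {z : G} {l : V → G}

theorem qq_map (v : V) (k : F3) : qq (f z) (fun v => f (l v)) v k = f (qq z l v k) := by simp [qq]

theorem mem_Qs_map {g : G} : f g ∈ Qs (f z) (fun v => f (l v)) ↔ g ∈ Qs z l := by
  have : Qs (f z) (fun v => f (l v)) = (Qs z l).map f.toMonoidHom := by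
    rw [Qs, Qs, MonoidHom.map_closure, Set.image_insert_eq, ← Set.range_comp]; rfl
  rw [this]; exact mem_map_iff_mem f.injective

theorem ac_map {g : G} {φ : V → V} : Ac (f z) (fun v => f (l v)) (f g) φ ↔ Ac z l g φ := by
  simp only [Ac, qq_map, ← map_mul, ← map_inv, f.injective.eq_iff]

theorem ex_map {t g : G} {φ : V → V} : Ex (f z) (fun v => f (l v)) (f t) (f g) φ ↔ Ex z l t g φ :=
  ⟨fun a => ⟨f.injective (by simpa using a.cz), f.injective (by simpa using a.ct),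
    fun v => f.injective (by simpa using a.act v)⟩,
   fun a => ⟨by simpa using congrArg f a.cz, by simpa using congrArg f a.ct,
    fun v => by simpa using congrArg f (a.act v)⟩⟩

end Map

end H7.F3
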