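import Cfsg.Agent.Lib.F3L.Syl
import Cfsg.Agent.Lib.F3L.One
import Cfsg.Agent.Lib.F3L.Two
import Cfsg.Agent.Lib.F3L.U6
import Cfsg.Agent.Lib.F3L.End

/-! The 3-local recognition of `Fi₂₂`: assembly. -/

set_option autoImplicit false

namespace H7.F3

open Subgroup Cfsg

variable {G : Type*} [Group G] [Finite G]

theorem map_zp (g z : G) : (zpowers z).map (MulAut.conj g).toMonoidHom = zpowers (g * z * g⁻¹) :=
  MonoidHom.map_zpowers _ z

theorem exists_of_ne {z g : G} (h : (zpowers z).map (MulAut.conj g).toMonoidHom ≠ zpowers z) :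
    g * z * g⁻¹ ∉ zpowers z := fun e => h (eq_of_le_of_card_ge (by rw [map_zp]; exact zpowers_le.2 e)
      (by rw [card_map_of_injective (MulAut.conj g).injective]))

theorem Fr0.main {z : G} {l : V6 → G} {r : Fin 3 → G} {R : Subgroup G} (h : Fr0 z l r R) (o : O3 z l) (nw : NW z) :
    (∃ g, g * z * g⁻¹ ∈ Qs z l ∧ g * z * g⁻¹ ∉ zpowers z) ∧
      (Spor.IsoFi22 G ∨ ∃ d L t b, I2 d L t b ∧ t * z = z * t ∧ t ∉ Qs z l ⊔ R) := by
  obtain ⟨l', S, F, e⟩ := h.exists_fr (Or.inl o)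
  obtain ⟨g, h1, h2⟩ := F.one nw
  obtain ⟨l₁, r₁, R₁, y, s, e'⟩ := F.two h1 h2
  obtain ⟨L, hL⟩ := s.ld
  exact ⟨⟨g, e ▸ h1, h2⟩, (s.cases hL).imp_right fun ⟨t, b, i, c, n⟩ => ⟨_, L, t, b, i, c, by rwa [← e, ← e']⟩⟩

end H7.F3
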