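import Cfsg.Agent.Lib.F3L.Bas
import Cfsg.Agent.Lib.F3L.Perp

/-! A conjugate of `z` in `Q`: the structure of `C(z)`. -/

set_option autoImplicit false
set_option linter.unusedSectionVars false

namespace H7.F3.Two

open Subgroup H87.Mc Cfsg
open H87.U6 (F3 f3_cases pw_add pw_zero pw_one pw_two pw_neg pw_mul pw_inj mem_zp cj_pw cm_cj)

variable {G : Type*} [Group G] [Finite G]

def ym (c : X3) : Mx := ⟨1, c, 0, 1⟩

theorem eqns_ym : True := trivial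

theorem ym_det (c : X3) : (ym c).det1 := fun i => by simp [ym]
theorem ym_ap (c : X3) (v : V6) : (ym c).ap v = Ym c v := (congrFun (Ym_eq c) v).symm

theorem std_uniq {c c' : X3} {π π' : Equiv.Perm (Fin 3)} (e : ∀ v, Ym c (pm π v) = Ym c' (pm π' v)) :
    π = π' ∧ c = c' := by
  obtain ⟨e1, e2⟩ := Mx.mono_uniq (n := ym c') (ym_det c) (π := π) (π' := π') fun v => by rw [ym_ap, ym_ap, e]
  exact ⟨e1, congrArg Mx.b e2⟩

theorem std_mul (c c' : X3) (π π' : Equiv.Perm (Fin 3)) (v : V6) :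
    Ym c (pm π (Ym c' (pm π' v))) = Ym (c + c' ∘ π) (pm (π' * π) v) := by rw [pm_Ym, Ym_Ym, pm_pm]

theorem cst_of : ∀ c : X3, c ∘ ro = c → ∃ a : F3, c = fun _ => a := by decide

section One

variable {z : G} {l : V6 → G} {r : Fin 3 → G} {R S : Subgroup G} (h : Fr z l r R S)
include h

/-- index three: the permutation part -/
theorem card_perm {T E : Subgroup G} (hT : T ≤ S) (k : ∀ x ∈ T, ∀ c, Ac z l x (Ym c) → x ∈ E) :
    Nat.card T ≤ 3 * Nat.card E := by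
  choose! c π e a using h.std
  have H : IsH T fun x => (π x)⁻¹ := fun x hx y hy => by
    have := (std_uniq (fun v => (h.ac_uniq (a _ (hT (mul_mem hx hy))) (h.ac_mul (a _ (hT hx)) (a _ (hT hy))) v).trans
      (std_mul _ _ _ _ v))).1
    simp only [this, mul_inv_rev]
  have := H.card_dvd (A := zpowers ro) (K := E) (fun x hx => inv_mem (by
      rcases (perm3 _).1 (e x (hT hx)) with e | e | e <;> rw [e]
      exacts [one_mem _, mem_zpowers _, inv_mem (mem_zpowers _)]))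
    fun x hx e => k x hx (c x) (by simpa only [inv_eq_one.1 e, pm_one] using a x (hT hx))
  rw [card_z3 (by decide) (by decide)] at this
  exact Nat.le_of_dvd (Nat.mul_pos (by norm_num) Nat.card_pos) this

/-- index three: one coordinate of the diagonal part -/
theorem card_diag {T E : Subgroup G} (i : Fin 3) (hT : ∀ x ∈ T, ∃ c, Ac z l x (Ym c))
    (k : ∀ x ∈ T, ∀ c, Ac z l x (Ym c) → c i = 0 → x ∈ E) : Nat.card T ≤ 3 * Nat.card E := by
  choose! c a using hT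
  have H : IsH T fun x => Multiplicative.ofAdd (c x i) := fun x hx y hy => by
    have := (std_uniq (π := 1) (π' := 1) fun v =>
      (h.ac_uniq (a _ (mul_mem hx hy)) (h.ac_mul (a _ hx) (a _ hy)) v).trans (Ym_Ym _ _ v)).2
    simp only [this, Pi.add_apply, ofAdd_add]
  have := H.card_dvd (A := ⊤) (K := E) (fun _ _ => trivial) fun x hx e => k x hx (c x) (a x hx) e
  rw [card_top, Nat.card_congr Multiplicative.toAdd, Nat.card_zmod] at this
  exact Nat.le_of_dvd (Nat.mul_pos (by norm_num) Nat.card_pos) this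

theorem to_ro {x : G} {c : X3} {π : Equiv.Perm (Fin 3)} (e : π ^ 3 = 1) (e1 : π ≠ 1)
    (a : Ac z l x fun v => Ym c (pm π v)) : ∃ c', (Ac z l x fun v => Ym c' (pm ro v)) ∨
      Ac z l x⁻¹ fun v => Ym c' (pm ro v) := by
  rcases (perm3 _).1 e with rfl | rfl | rfl
  · exact absurd rfl e1
  · exact ⟨c, Or.inl a⟩
  · refine ⟨-(c ∘ ro), Or.inr (h.ac_inv a fun v => ?_)⟩
    rw [std_mul, mul_inv_cancel, pm_one, show c + (-(c ∘ ro)) ∘ (ro⁻¹ : Equiv.Perm (Fin 3)) = 0 by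
      funext i; simp, Ym_zero]

theorem cst' {σ x : G} {c c' : X3} (a : Ac z l σ fun v => Ym c' (pm ro v)) (b : Ac z l x (Ym c))
    (q : σ * x * σ⁻¹ * x⁻¹ ∈ Qs z l) : ∃ k : F3, c = fun _ => k := by
  have e1 := h.ac_mul (h.ac_Q q) (h.ac_mul b a)
  rw [show σ * x * σ⁻¹ * x⁻¹ * (x * σ) = σ * x by group] at e1
  have := (std_uniq (c := c + c') (π := ro) (c' := c' + c ∘ ro) (π' := ro) fun v => by
    have := h.ac_uniq e1 (h.ac_mul a b) v
    rwa [id, Ym_Ym, pm_Ym, Ym_Ym] at this).2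
  exact cst_of c (by rw [add_comm] at this; exact (add_left_cancel this).symm)

theorem Ym_neg {x : G} {c : X3} (a : Ac z l x (Ym c)) : Ac z l x⁻¹ (Ym (-c)) :=
  h.ac_inv a fun v => by rw [Ym_Ym, add_neg_cancel, Ym_zero]

theorem Ym_Q {x : G} (a : Ac z l x (Ym 0)) : x ∈ Qs z l := h.memQ_of_ac (a.congr Ym_zero)

theorem to_one {x : G} {k : F3} (a : Ac z l x (Ym fun _ => k)) (hx : x ∉ Qs z l) :
    Ac z l x (Ym 1) ∨ Ac z l x⁻¹ (Ym 1) := by
  rcases f3_cases k with rfl | rfl | rfl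
  · exact absurd (Ym_Q h a) hx
  · exact Or.inl a
  · exact Or.inr (Ym_neg h a)

end One

section Pair

variable {z : G} {l : V6 → G} {r : Fin 3 → G} {R S : Subgroup G} (h : Fr z l r R S)
  {y : G} {l' : V6 → G} {r' : Fin 3 → G} {R' S' : Subgroup G} (h' : Fr y l' r' R' S')
  (y1 : y ∈ Qs z l) (y2 : y ∉ zpowers z)
include h h' y1 y2

theorem sym : z ∈ Qs y l' := by
  have := h.finV
  by_contra hz
  have c := h.card_cent y1 y2
  have zD : z ∈ Qs z l ⊓ centralizer {y} := ⟨zQ, mem_centralizer_singleton_iff.2 (h.QH y1).symm⟩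
  have k := h.iso_le (h.bar_iso (B := Qs z l ⊓ centralizer {y}) fun a ha b hb => by
    have m := h'.comm_mem (T := Qs z l ⊓ centralizer {y}) (h.pgQ.to_inf_left) (fun x hx => mem_centralizer_singleton_iff.1 hx.2) ha hb
    rcases (mem_z3 h.z3).1 (h.comm_zp ha.1 hb.1) with e | e | e <;> rw [e] at m
    · exact mul_inv_eq_iff_eq_mul.1 (mul_inv_eq_one.1 e)
    · exact absurd m hz
    · exact absurd (inv_mem_iff.1 m) hz)
  have k2 := h.card_bar zD
  rw [inf_eq_left.2 inf_le_left, c] at k2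
  rw [card_V6] at k k2
  rw [show Nat.card (h.bar (Qs z l ⊓ centralizer {y})) = 243 by omega] at k
  omega

omit h' y1 in
theorem zp_inf {y : G} (y3 : y ^ 3 = 1) (y2 : y ∉ zpowers z) {x : G} (h1 : x ∈ zpowers z) (h2 : x ∈ zpowers y) :
    x = 1 := by
  rcases (mem_z3 y3).1 h2 with e | e | e
  · exact e
  · exact absurd (e ▸ h1) y2
  · exact absurd (inv_mem_iff.1 (e ▸ h1)) y2

theorem z_not : z ∉ zpowers y := fun e => h.z1 (zp_inf h y2 h'.z3 y2 (mem_zpowers z) e)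

theorem E_comm {a b : G} (ha : a ∈ Qs z l) (ha' : a ∈ Qs y l') (hb : b ∈ Qs z l) (hb' : b ∈ Qs y l') :
    a * b = b * a :=
  mul_inv_eq_iff_eq_mul.1 (mul_inv_eq_one.1 (zp_inf h y2 h'.z3 y2 (h.comm_zp ha hb) (h'.comm_zp ha' hb')))

theorem cardT : Nat.card (Qs y l' ⊓ centralizer {z} : Subgroup G) = 729 :=
  (h'.card_cent (sym h h' y1 y2) (z_not h h' y1 y2)).trans card_V6

theorem cardE : Nat.card (Qs z l ⊓ Qs y l' : Subgroup G) = 81 := by
  have := h.finV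
  have k := h.iso_le (h.bar_iso (B := Qs z l ⊓ Qs y l') fun a ha b hb => E_comm h h' y1 y2 ha.1 ha.2 hb.1 hb.2)
  have k2 := h.card_bar (B := Qs z l ⊓ Qs y l') ⟨zQ, sym h h' y1 y2⟩
  have k3 := h.idx9 (T := Qs y l' ⊓ centralizer {z}) h'.pgQ.to_inf_left
    fun x hx => mem_centralizer_singleton_iff.1 hx.2
  have k4 : Nat.card (Qs y l' ⊓ centralizer {z} ⊓ Qs z l : Subgroup G) ≤ Nat.card (Qs z l ⊓ Qs y l' : Subgroup G) :=
    card_le_of_le fun x hx => ⟨hx.2, hx.1.1⟩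
  rw [inf_eq_left.2 inf_le_left] at k2
  rw [card_V6] at k
  rw [cardT h h' y1 y2] at k3
  have : Nat.card (h.bar (Qs z l ⊓ Qs y l')) ≤ 27 := by nlinarith
  omega

/-- `E` is self-centralizing in `Q'` -/
theorem centE {x : G} (hx : x ∈ Qs y l') (c : ∀ e ∈ Qs z l, e ∈ Qs y l' → x * e = e * x) : x ∈ Qs z l := by
  have := h.finV
  obtain ⟨v, k, rfl⟩ := h'.memQ.1 hx
  have k2 := h'.card_bar (B := Qs z l ⊓ Qs y l') ⟨y1, zQ⟩
  rw [inf_eq_left.2 inf_le_right, cardE h h' y1 y2] at k2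
  have := h'.mem_of_lag (h'.bar_iso (B := Qs z l ⊓ Qs y l') fun a ha b hb => E_comm h h' y1 y2 ha.1 ha.2 hb.1 hb.2)
    (by rw [card_V6, show Nat.card (h'.bar (Qs z l ⊓ Qs y l')) = 27 by omega]) (v := v)
    fun w ⟨m, hm⟩ => (h'.qcm m k).1 (c _ hm.1 hm.2).symm
  exact ((h'.pre_bar (B := Qs z l ⊓ Qs y l') ⟨y1, zQ⟩).le (h'.q_mem_pre.2 this)).1.1

theorem diag_key {v : V6} {k : F3} (e : y = qq z l v k) {x : G} (hx : x ∈ Qs y l') (hq : x ∉ Qs z l) {c : X3}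
    (a : Ac z l x (Ym c)) : v.2 = 0 ∧ ∀ i, c i = 0 → v.1 i = 0 := by
  obtain ⟨q, q1, q2, q3⟩ : ∃ q ∈ Qs z l, q ∈ Qs y l' ∧ x * q ≠ q * x := by
    by_contra! hn
    exact hq (centE h h' y1 y2 hx hn)
  obtain ⟨u, m, rfl⟩ := h.memQ.1 q1
  obtain ⟨n, hn⟩ := h.ac_q' a u
  have k := h'.comm_zp hx q2
  rw [hn, h.qinv, h.qmul] at k
  have e0 : Ym c u + -u = (c * u.2, 0) := by simp [Ym, Prod.ext_iff]
  rw [e0] at k
  rcases (mem_z3 h'.z3).1 k with e1 | e1 | e1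
  · refine absurd ?_ q3
    rw [← mul_inv_eq_iff_eq_mul, ← mul_inv_eq_one, hn, h.qinv, h.qmul, e0, e1]
  · obtain rfl := (h.q_inj (e1.trans e)).1
    exact ⟨rfl, fun i hi => by simp [hi]⟩
  · rw [e, h.qinv] at e1
    obtain rfl := neg_eq_iff_eq_neg.2 (h.q_inj e1).1
    exact ⟨by simp, fun i hi => by simp [hi]⟩

theorem step2 (hT : Qs y l' ⊓ centralizer {z} ≤ S) :
    (∃ σ ∈ Qs y l', ∃ c, Ac z l σ fun v => Ym c (pm ro v)) ∧ (∃ δ ∈ Qs y l', Ac z l δ (Ym 1)) ∧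
      ∃ a k : F3, a ≠ 0 ∧ y = qq z l (fun _ => a, 0) k := by
  obtain ⟨v, k, e⟩ := h.memQ.1 y1
  have v0 : v ≠ 0 := fun e0 => y2 (by rw [e, e0, h.qz]; exact pow_mem (mem_zpowers z) _)
  have cT := cardT h h' y1 y2
  have cE := cardE h h' y1 y2
  obtain ⟨δ, δT, c, a, δQ⟩ : ∃ x ∈ Qs y l' ⊓ centralizer {z}, ∃ c, Ac z l x (Ym c) ∧ x ∉ Qs z l := by
    by_contra! hn
    have := card_perm h hT (E := Qs z l ⊓ Qs y l') fun x hx c a => ⟨hn x hx c a, hx.1⟩
    omega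
  have v2 := (diag_key h h' y1 y2 e δT.1 δQ a).1
  obtain ⟨i, hi⟩ : ∃ i, v.1 i ≠ 0 := by
    by_contra! hn
    exact v0 (Prod.ext (funext hn) v2)
  obtain ⟨σ, σT, c', a'⟩ : ∃ σ ∈ Qs y l', ∃ c, Ac z l σ fun v => Ym c (pm ro v) := by
    by_contra! hn
    have := card_diag h (T := Qs y l' ⊓ centralizer {z}) (E := Qs z l ⊓ Qs y l') i (fun x hx => by
      obtain ⟨c, π, e, a⟩ := h.std x (hT hx)
      by_cases e1 : π = 1
      · exact ⟨c, by simpa only [e1, pm_one] using a⟩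
      · obtain ⟨c', b | b⟩ := to_ro h e e1 a
        exacts [absurd b (hn _ hx.1 _), absurd b (hn _ (inv_mem hx.1) _)])
      fun x hx c a e0 => ⟨by_contra fun hq => hi ((diag_key h h' y1 y2 e hx.1 hq a).2 i e0), hx.1⟩
    omega
  obtain ⟨κ, rfl⟩ := cst' h a' a (zpowers_le.2 y1 (h'.comm_zp σT δT.1))
  refine ⟨⟨σ, σT, c', a'⟩, ?_, ?_⟩
  · rcases to_one h a δQ with b | b
    exacts [⟨_, δT.1, b⟩, ⟨_, inv_mem δT.1, b⟩]
  · obtain ⟨n, hn⟩ := h.ac_q' a' v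
    have := (h.q_inj ((hn k).symm.trans (e ▸ cm_cj.1 (h'.QH σT)))).1
    obtain ⟨α, hα⟩ := cst_of v.1 (by simpa [Ym, pm, v2] using congrArg Prod.fst this)
    exact ⟨α, k, by rw [hα] at hi; exact hi, by rw [e, ← hα, ← v2]⟩

end Pair

end H7.F3.Two
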